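import Cfsg.Agent.Lib.M12Order.Interface
import Cfsg.Agent.Lib.CharApps.PrimeClassBound

/-!
# Simple groups of order 95040: the values of the block at the involutions (piece B2)

For each of the eleven tables a finite search over the values allowed by the congruence modulo
four, the block relation, the relation saying that no involution inverts an element of order
eleven, integrality of the central characters and the column bound.
-/

set_option autoImplicit false
set_option linter.unusedSectionVars false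

namespace CfsgLib.M12Order

open Cfsg CfsgLib.Chars CfsgLib.CharApps CfsgLib.Small

universe u

namespace BlockInvol

/-- the sign of a nonexceptional degree -/
def sgD (d : ℕ) : ℤ := if d % 11 = 1 then 1 else -1

/-- the sign of the exceptional degree -/
def epsD (e : ℕ) : ℤ := if e % 11 = 5 then 1 else -1

/-- the possible orders of centralizers of involutions -/
def centOrders : List ℕ := (List.range 8641).filter fun C => Nat.beq (8640 % C) 0

/-- the possible values at an involution with centralizer of order `C` -/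
def cands (d C : ℕ) : List ℤ :=
  ((List.range (d / 2)).map fun j : ℕ => (d : ℤ) - 4 * ((j : ℤ) + 1)).filter fun v =>
    decide (-(d : ℤ) < v) && decide (v * v ≤ (C : ℤ)) &&
      decide (((95040 / C : ℕ) : ℤ) * v % (d : ℤ) = 0)

/-- the conditions on a value of the exceptional characters -/
def condW (e C : ℕ) (w : ℤ) : Bool :=
  decide (((e : ℤ) - w) % 4 = 0) && decide (-(e : ℤ) < w) && decide (w < (e : ℤ)) &&
    decide (((95040 / C : ℕ) : ℤ) * w % (e : ℤ) = 0)

/-- what a solution must satisfy -/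
def Res (L : (Fin 4 → ℕ) × ℕ) (C : ℕ) (V : List ℤ) : Prop :=
  (C % 5 = 0 → L = mainTable) ∧
    (L = mainTable →
      (C = 192 ∧ V = [-3, 6, -8, 0, 0]) ∨
        ((C = 120 ∨ C = 240) ∧ (V = [5, 6, 0, 4, 4] ∨ V = [5, 6, 0, -4, -4])) ∨
        (C = 1440 ∧ V = [-15, 18, 0, 24, -8])) ∧
    (L = sixTable → V.getD 1 0 = 0 → V.getD 2 0 = 0 → C ∈ [432, 576, 864, 1728])

instance (L : (Fin 4 → ℕ) × ℕ) (C : ℕ) (V : List ℤ) : Decidable (Res L C V) := by
  unfold Res; infer_instance

/-- one candidate -/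
def leaf (L : (Fin 4 → ℕ) × ℕ) (C : ℕ) (v₀ v₁ v₂ v₃ : ℤ) : Bool :=
  let d₀ : ℤ := L.1 0
  let d₁ : ℤ := L.1 1
  let d₂ : ℤ := L.1 2
  let d₃ : ℤ := L.1 3
  let e : ℤ := L.2
  let s₀ := sgD (L.1 0)
  let s₁ := sgD (L.1 1)
  let s₂ := sgD (L.1 2)
  let s₃ := sgD (L.1 3)
  let ε := epsD L.2
  let w := ε * (1 + (s₀ * v₀ + s₁ * v₁ + s₂ * v₂ + s₃ * v₃))
  !(condW L.2 C w &&
      decide (1 + (v₀ * v₀ + v₁ * v₁ + v₂ * v₂ + v₃ * v₃) + 2 * (w * w) ≤ (C : ℤ)) &&
      decide (d₀ * d₁ * d₂ * d₃ * e + s₀ * (v₀ * v₀) * d₁ * d₂ * d₃ * e +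
        s₁ * (v₁ * v₁) * d₀ * d₂ * d₃ * e + s₂ * (v₂ * v₂) * d₀ * d₁ * d₃ * e +
        s₃ * (v₃ * v₃) * d₀ * d₁ * d₂ * e - ε * (w * w) * d₀ * d₁ * d₂ * d₃ = 0)) ||
    decide (Res L C [v₀, v₁, v₂, v₃, w])

/-- the search for one table -/
def check (L : (Fin 4 → ℕ) × ℕ) : Bool :=
  centOrders.all fun C => (cands (L.1 0) C).all fun v₀ => (cands (L.1 1) C).all fun v₁ =>
    (cands (L.1 2) C).all fun v₂ => (cands (L.1 3) C).all fun v₃ => leaf L C v₀ v₁ v₂ v₃

set_option maxRecDepth 100000 in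
theorem check_ok : tables.all check = true := by decide +kernel

theorem mem_cands {d C : ℕ} {v : ℤ} (h4 : (4 : ℤ) ∣ (d : ℤ) - v) (hlo : -(d : ℤ) < v)
    (hhi : v < (d : ℤ)) (hsq : v * v ≤ (C : ℤ))
    (hdvd : (d : ℤ) ∣ ((95040 / C : ℕ) : ℤ) * v) : v ∈ cands d C := by
  obtain ⟨q, hq⟩ := h4
  refine List.mem_filter.2 ⟨List.mem_map.2 ⟨(q - 1).toNat, List.mem_range.2 ?_, ?_⟩, ?_⟩
  · omega
  · rw [Int.toNat_of_nonneg (by omega)]; omega
  · simp only [Bool.and_eq_true, decide_eq_true_eq]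
    exact ⟨⟨hlo, hsq⟩, Int.emod_eq_zero_of_dvd hdvd⟩

variable {G : Type u} [Group G] [Finite G]

theorem nonabelian (hG : Nat.card G = 95040) [IsSimpleGroup G] : ¬ IsMulCommutative G :=
  not_isMulCommutative_of_card (by rw [hG]; norm_num)

/-- no involution inverts an element of order eleven -/
theorem not_inverted (hG : Nat.card G = 95040) (h : LocalEleven G) {x u : G}
    (hx : orderOf x = 11) (hu : u * u = 1) (hux : u * x * u⁻¹ = x⁻¹) : u = 1 := by
  have := Fact.mk (show Nat.Prime 11 by norm_num)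
  let P : Sylow 11 G := Sylow.ofCard (Subgroup.zpowers x) (by
    rw [Nat.card_zpowers, hx, hG, show 95040 = 11 ^ 1 * 8640 by norm_num,
      Nat.factorization_mul (by norm_num) (by norm_num), Nat.factorization_pow]
    simp [Nat.factorization_eq_zero_of_not_dvd (show ¬ 11 ∣ 8640 by norm_num),
      Nat.Prime.factorization_self (show Nat.Prime 11 by norm_num)])
  have hN := h.norm P
  have hPz : (P : Subgroup G) = Subgroup.zpowers x := Sylow.coe_ofCard _ _
  rw [hPz] at hN
  have hmap : ∀ y ∈ Subgroup.zpowers x, u * y * u⁻¹ ∈ Subgroup.zpowers x := fun y hy => by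
    obtain ⟨k, rfl⟩ := Subgroup.mem_zpowers_iff.1 hy
    rw [← conj_zpow, hux]
    exact Subgroup.zpow_mem _ (Subgroup.inv_mem _ (Subgroup.mem_zpowers x)) k
  have hmem : u ∈ Subgroup.normalizer ((Subgroup.zpowers x : Subgroup G) : Set G) := by
    rw [Subgroup.mem_normalizer_iff]
    refine fun y => ⟨hmap y, fun hy => ?_⟩
    have h := hmap _ hy
    rw [inv_eq_of_mul_eq_one_left hu] at h
    simpa [mul_assoc, hu, ← mul_assoc u u] using h
  have h1 := Subgroup.orderOf_dvd_natCard _ hmem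
  rw [hN] at h1
  have h2 : orderOf u ∣ 2 := orderOf_dvd_of_pow_eq_one (by rw [sq, hu])
  exact orderOf_eq_one_iff.1 (Nat.eq_one_of_dvd_coprimes (by norm_num) h1 h2)

/-- the order of the centralizer of an involution divides `8640` -/
theorem card_cen_dvd (hG : Nat.card G = 95040) (h : LocalEleven G) {t : G}
    (ht : orderOf t = 2) : Nat.card (cen t) ∣ 8640 := by
  have := Fact.mk (show Nat.Prime 11 by norm_num)
  have hdvd := hG ▸ Subgroup.card_subgroup_dvd_card (cen t)
  refine (Nat.Coprime.dvd_of_dvd_mul_left ?_ (show _ ∣ 11 * 8640 from hdvd))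
  refine ((Nat.Prime.coprime_iff_not_dvd (by norm_num)).2 fun h11 => ?_).symm
  obtain ⟨⟨x, hxC⟩, hxo⟩ := exists_prime_orderOf_dvd_card' (G := cen t) 11 h11
  rw [Subgroup.orderOf_mk] at hxo
  have htC : t ∈ cen x :=
    Subgroup.mem_centralizer_singleton_iff.2 (Subgroup.mem_centralizer_singleton_iff.1 hxC).symm
  have := Subgroup.orderOf_dvd_natCard _ htC
  rw [ht, h.cent x hxo] at this
  norm_num at this

variable [IsSimpleGroup G]

theorem value_facts (hG : Nat.card G = 95040) {t : G} (ht : t * t = 1) (ht1 : t ≠ 1)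
    (χ : IrrCharacter G) (hne : χ ≠ principal G) :
    ∃ m : ℤ, (m : ℂ) = (χ : G → ℂ) t ∧ (4 : ℤ) ∣ (charDegree (χ : G → ℂ) : ℤ) - m ∧
      -(charDegree (χ : G → ℂ) : ℤ) ≤ m ∧ m < (charDegree (χ : G → ℂ) : ℤ) := by
  have := Fintype.ofFinite G
  obtain ⟨m, hm⟩ := exists_int_apply_involution ht χ
  have hK : ∀ K : Subgroup G, K.Normal → t ∈ K → K = ⊤ := fun K hK htK =>
    hK.eq_bot_or_eq_top.resolve_left fun h => ht1 (by rwa [h, Subgroup.mem_bot] at htK)
  have h1 := apply_ne_degree hK χ hne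
  rw [← hm, deg_eq] at h1
  have h2 := char_norm_le (isCharacter_of_irr χ.2) t
  rw [← hm, deg_eq, Complex.norm_intCast, Complex.natCast_re] at h2
  have h3 : |m| ≤ (charDegree (χ : G → ℂ) : ℤ) := by exact_mod_cast h2
  have h4 : m ≠ (charDegree (χ : G → ℂ) : ℤ) := fun h =>
    h1 (by exact_mod_cast congrArg (Int.cast : ℤ → ℂ) h)
  obtain ⟨h5, h6⟩ := abs_le.1 h3
  exact ⟨m, hm, four_dvd_degree_sub (commutator_eq_top (nonabelian hG)) χ ht hm, h5,
    lt_of_le_of_ne h6 h4⟩

/-- an involution is not minus one in an irreducible representation -/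
theorem not_neg_degree (hG : Nat.card G = 95040) {t : G} (ht : t * t = 1) (ht1 : t ≠ 1)
    (χ : IrrCharacter G) (hne : χ ≠ principal G) :
    (χ : G → ℂ) t ≠ -(charDegree (χ : G → ℂ) : ℂ) := by
  classical
  have := Fintype.ofFinite G
  intro hneg
  obtain ⟨d, ρ, hρ, hρχ⟩ := χ.2
  have hd : charDegree (χ : G → ℂ) = d := by simp [charDegree, ← hρχ]
  obtain ⟨b, μ, hμ, hb⟩ := exists_eigenbasis (ρ t) (N := 2) two_pos
    (by rw [← map_pow, sq, ht, map_one])
  have htr : (χ : G → ℂ) t = ∑ i, μ i := by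
    rw [← hρχ]
    exact trace_eq_sum_of_eigenbasis (ρ t) b μ hb
  have hpm : ∀ i, μ i = 1 ∨ μ i = -1 := fun i => sq_eq_one_iff.mp (hμ i)
  have hre : ∀ i, 0 ≤ (μ i).re + 1 := fun i => by rcases hpm i with e | e <;> rw [e] <;> norm_num
  have hall : ∀ i, μ i = -1 := by
    intro i
    refine (hpm i).resolve_left fun e => ?_
    have h1 : ∑ j, ((μ j).re + 1) = 0 := by
      rw [htr, hd] at hneg
      have h := congrArg Complex.re hneg
      rw [Complex.re_sum] at h
      rw [Finset.sum_add_distrib, h]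
      simp
    have h2 := (Finset.sum_eq_zero_iff_of_nonneg fun j _ => hre j).1 h1 i (Finset.mem_univ i)
    rw [e] at h2
    norm_num at h2
  have hρt : ρ t = -1 := b.ext fun i => by
    rw [hb, hall i]
    simp
  have hK : ∀ K : Subgroup G, K.Normal → t ∈ K → K = ⊤ := fun K hK htK =>
    hK.eq_bot_or_eq_top.resolve_left fun h => ht1 (by rwa [h, Subgroup.mem_bot] at htK)
  have hker : MonoidHom.ker ρ = ⊥ := by
    refine (MonoidHom.normal_ker ρ).eq_bot_or_eq_top.resolve_right fun h => ?_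
    refine apply_ne_degree hK χ hne ?_
    have e : ρ t = ρ 1 := by rw [map_one, MonoidHom.mem_ker.1 (h.ge (Subgroup.mem_top t))]
    rw [← hρχ]
    simp only [Representation.character, e]
  refine nonabelian hG ⟨⟨fun x y => ?_⟩⟩
  have htc : t ∈ Subgroup.center G := Subgroup.mem_center_iff.2 fun g => by
    have h1 : g * t * g⁻¹ * t⁻¹ = 1 := by
      rw [← Subgroup.mem_bot, ← hker, MonoidHom.mem_ker, inv_eq_of_mul_eq_one_left ht, map_mul,
        map_mul, map_mul, hρt]
      refine LinearMap.ext fun v => ?_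
      simp only [Module.End.mul_apply, LinearMap.neg_apply, Module.End.one_apply, map_neg, neg_neg]
      rw [← Module.End.mul_apply, ← map_mul, mul_inv_cancel, map_one, Module.End.one_apply]
    exact mul_inv_eq_iff_eq_mul.1 (mul_inv_eq_one.1 h1)
  have htop : Subgroup.center G = ⊤ := hK _ inferInstance htc
  exact (Subgroup.mem_center_iff.1 (htop ▸ Subgroup.mem_top x) y).symm

/-- the block relation from the absence of involutions inverting an element of order eleven -/
theorem quad_eq [Fintype (IrrCharacter G)] (hG : Nat.card G = 95040) (h : LocalEleven G)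
    (T : Table G) {t : G} (ht : t * t = 1) (ht1 : t ≠ 1) (v : Fin 4 → ℤ) (w : ℤ)
    (hv : T.HasValues t v w) :
    1 + ∑ i, (T.sgn i : ℂ) * (v i : ℂ) ^ 2 / (T.list.1 i : ℂ) -
      (T.ε : ℂ) * (w : ℂ) ^ 2 / (T.list.2 : ℂ) = 0 := by
  classical
  have := Fintype.ofFinite G
  have := Fact.mk (show Nat.Prime 11 by norm_num)
  obtain ⟨z, hz⟩ := exists_prime_orderOf_dvd_card' (G := G) 11 (by rw [hG]; norm_num)
  have hzi : orderOf z⁻¹ = 11 := by rw [orderOf_inv, hz]
  have h0 := card_conj_mul_conj t t z⁻¹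
  rw [inv_inv] at h0
  have : IsEmpty {ab : G × G // (ab.1 * t * ab.1⁻¹) * (ab.2 * t * ab.2⁻¹) = z⁻¹} := by
    refine ⟨fun ⟨⟨a, b⟩, hab⟩ => ?_⟩
    have h1 : (a * t * a⁻¹) * (a * t * a⁻¹) = 1 := by
      rw [← sq, conj_pow, sq, ht, mul_one, mul_inv_cancel]
    have h2 : (b * t * b⁻¹) * (b * t * b⁻¹) = 1 := by
      rw [← sq, conj_pow, sq, ht, mul_one, mul_inv_cancel]
    have hu := not_inverted hG h hzi (u := a * t * a⁻¹) h1 ?_
    · exact ht1 (conj_eq_one_iff.1 hu)
    · simp only at hab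
      generalize a * t * a⁻¹ = u at hab h1 ⊢
      generalize b * t * b⁻¹ = u' at hab h2
      rw [← hab, mul_inv_rev u u', inv_eq_of_mul_eq_one_left h2, inv_eq_of_mul_eq_one_left h1,
        ← mul_assoc, h1, one_mul]
  rw [Nat.card_of_isEmpty, Nat.cast_zero, eq_comm, mul_eq_zero] at h0
  have h0 := h0.resolve_left (Chars.card_ne_zero G)
  set B : Finset (IrrCharacter G) :=
    insert (principal G) (Finset.univ.image (Fin.append T.a T.θ)) with hB
  have hout : ∀ χ ∈ Bᶜ, (χ : G → ℂ) z = 0 := by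
    intro χ hχ
    simp only [hB, Finset.mem_compl, Finset.mem_insert, Finset.mem_image, Finset.mem_univ,
      true_and, not_or, not_exists] at hχ
    rcases T.cover χ with e | ⟨i, e⟩ | ⟨-, e⟩
    · exact absurd e hχ.1
    · exact absurd e.symm (hχ.2 i)
    · exact e z hz
  have hsum : ∀ f : IrrCharacter G → ℂ, (∀ χ ∈ Bᶜ, f χ = 0) →
      ∑ χ, f χ = f (principal G) + (∑ i, f (T.a i) + ∑ j, f (T.θ j)) := by
    intro f hf
    rw [← Finset.sum_add_sum_compl B, Finset.sum_eq_zero hf, add_zero, hB,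
      Finset.sum_insert (by simpa using fun i => T.ne_principal i),
      Finset.sum_image (fun x _ y _ e => T.inj e), Fin.sum_univ_add]
    simp only [Fin.append_left, Fin.append_right]
  rw [hsum _ (fun χ hχ => by simp [hout χ hχ]), principal_apply, principal_apply,
    principal_apply] at h0
  have ha : ∀ i, (T.a i : G → ℂ) t * (T.a i : G → ℂ) t * (T.a i : G → ℂ) z /
      (T.a i : G → ℂ) 1 = (T.sgn i : ℂ) * (v i : ℂ) ^ 2 / (T.list.1 i : ℂ) := fun i => by
    rw [hv.1 i, T.at_eleven i z hz, deg_eq, T.deg_a i]; ring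
  simp only [ha, Fin.sum_univ_two, hv.2, deg_eq (T.θ 0), deg_eq (T.θ 1), T.deg_θ] at h0
  linear_combination h0 - ((w : ℂ) ^ 2 / (T.list.2 : ℂ)) * T.at_eleven_θ z hz

/-- the Cauchy–Schwarz argument against the centralizer of order `1440` -/
theorem main_false [Fintype (IrrCharacter G)] (hG : Nat.card G = 95040) (T : Table G) {t : G}
    (ht : t * t = 1) (ht1 : t ≠ 1) (hl : T.list = mainTable) (hC : Nat.card (cen t) = 1440)
    (hv : T.HasValues t ![-15, 18, 0, 24] (-8)) : False := by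
  classical
  have := Fintype.ofFinite G
  choose m hm using fun χ : IrrCharacter G => exists_int_apply_involution ht χ
  have hcol : ∑ χ : IrrCharacter G, (charDegree (χ : G → ℂ) : ℤ) * m χ = 0 := by
    have h := sum_degree_mul (G := G) t
    rw [if_neg ht1] at h
    simp only [deg_eq, ← hm] at h
    exact_mod_cast h
  have hnorm : ∑ χ : IrrCharacter G, m χ ^ 2 = 1440 := by
    have h := second_orthogonality (G := G) t t
    rw [if_pos (IsConj.refl t), hC] at h
    simp only [← hm, map_intCast] at h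
    simp only [sq]
    exact_mod_cast h
  have hsq : ∑ χ : IrrCharacter G, (charDegree (χ : G → ℂ) : ℤ) ^ 2 = 95040 := by
    have h := sum_degree_sq_nat (G := G)
    rw [hG] at h
    exact_mod_cast h
  have hp : m (principal G) = 1 := by
    have h : (m (principal G) : ℂ) = 1 := by rw [hm, principal_apply]
    exact_mod_cast h
  have hdp : charDegree (principal G : G → ℂ) = 1 := (deg_eq_one_iff _).mp (principal_apply _)
  have hma : ∀ i, m (T.a i) = (![-15, 18, 0, 24] : Fin 4 → ℤ) i := fun i => by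
    exact_mod_cast (hm (T.a i)).trans (hv.1 i)
  have hmθ : ∀ j, m (T.θ j) = -8 := fun j => by
    exact_mod_cast (hm (T.θ j)).trans (hv.2 j)
  set B : Finset (IrrCharacter G) :=
    insert (principal G) (Finset.univ.image (Fin.append T.a T.θ)) with hB
  have hsum : ∀ f : IrrCharacter G → ℤ, ∑ χ, f χ =
      f (principal G) + (∑ i, f (T.a i) + ∑ j, f (T.θ j)) + ∑ χ ∈ Bᶜ, f χ := by
    intro f
    rw [← Finset.sum_add_sum_compl B, hB,
      Finset.sum_insert (by simpa using fun i => T.ne_principal i),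
      Finset.sum_image (fun x _ y _ e => T.inj e), Fin.sum_univ_add]
    simp only [Fin.append_left, Fin.append_right]
  rw [hsum] at hcol hnorm hsq
  simp only [Fin.sum_univ_four, Fin.sum_univ_two, hma, hmθ, T.deg_a, T.deg_θ, hl, mainTable, hp,
    hdp, Matrix.cons_val_zero, Matrix.cons_val_one, Matrix.cons_val] at hcol hnorm hsq
  norm_num at hcol hnorm hsq
  have hcs := Finset.sum_mul_sq_le_sq_mul_sq Bᶜ
    (fun χ : IrrCharacter G => (charDegree (χ : G → ℂ) : ℤ)) m
  nlinarith [hcs, hcol, hnorm, hsq]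

end BlockInvol

open BlockInvol in
/-- Piece B2. -/
theorem invol_values : InvolStmt.{u} := by
  intro G _ _ hs hG h11 T t ht
  classical
  have := hs
  have := Fintype.ofFinite G
  let := irrFintype G
  have htt : t * t = 1 := by rw [← sq, ← ht, pow_orderOf_eq_one]
  have ht1 : t ≠ 1 := fun h => by rw [h, orderOf_one] at ht; omega
  set C := Nat.card (cen t) with hC
  have hCd : C ∣ 8640 := card_cen_dvd hG h11 ht
  have hCpos : 0 < C := Nat.card_pos
  have hCle : C ≤ 8640 := Nat.le_of_dvd (by norm_num) hCd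
  have hidx : (cen t).index = 95040 / C := by
    rw [← hG, ← Subgroup.card_mul_index (cen t), Nat.mul_div_cancel_left _ hCpos]
  have hne : ∀ i, T.a i ≠ principal G := fun i => by
    simpa using T.ne_principal (Fin.castAdd 2 i)
  have hneθ : ∀ j, T.θ j ≠ principal G := fun j => by
    simpa using T.ne_principal (Fin.natAdd 4 j)
  choose v hv hv4 hvlo hvhi using fun i => value_facts hG htt ht1 (T.a i) (hne i)
  obtain ⟨w, hw, hw4, hwlo, hwhi⟩ := value_facts hG htt ht1 (T.θ 0) (hneθ 0)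
  have h11t : ¬ 11 ∣ orderOf t := by rw [ht]; norm_num
  have hε : (T.ε : ℂ) ≠ 0 := by rcases T.ε_eq.1 with e | e <;> rw [e] <;> norm_num
  have hw1 : (T.θ 1 : G → ℂ) t = (T.θ 0 : G → ℂ) t :=
    mul_left_cancel₀ hε ((T.rel 1 t h11t).trans (T.rel 0 t h11t).symm)
  have hV : T.HasValues t v w := by
    refine ⟨fun i => (hv i).symm, fun j => ?_⟩
    fin_cases j
    · exact hw.symm
    · exact hw1.trans hw.symm
  have hrel : T.ε * w = 1 + ∑ i, T.sgn i * v i := by
    have h := T.rel 0 t h11t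
    simp only [← hw, ← hv] at h
    exact_mod_cast h
  have hquad := quad_eq hG h11 T htt ht1 v w hV
  have hcolumn : 1 + (∑ i, v i ^ 2 + (w ^ 2 + w ^ 2)) ≤ (C : ℤ) := by
    choose m hm using fun χ : IrrCharacter G => exists_int_apply_involution htt χ
    have hnorm : ∑ χ : IrrCharacter G, m χ ^ 2 = (C : ℤ) := by
      have h := second_orthogonality (G := G) t t
      rw [if_pos (IsConj.refl t)] at h
      simp only [← hm, map_intCast] at h
      simp only [sq]
      exact_mod_cast h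
    have hp : m (principal G) = 1 := by
      have h : (m (principal G) : ℂ) = 1 := by rw [hm, principal_apply]
      exact_mod_cast h
    have hma : ∀ i, m (T.a i) = v i := fun i => by
      exact_mod_cast (hm (T.a i)).trans (hV.1 i)
    have hmθ : ∀ j, m (T.θ j) = w := fun j => by
      exact_mod_cast (hm (T.θ j)).trans (hV.2 j)
    rw [← Finset.sum_add_sum_compl (insert (principal G) (Finset.univ.image (Fin.append T.a T.θ))),
      Finset.sum_insert (by simpa using fun i => T.ne_principal i),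
      Finset.sum_image (fun x _ y _ e => T.inj e), Fin.sum_univ_add] at hnorm
    simp only [Fin.append_left, Fin.append_right, hp, hma, hmθ, Fin.sum_univ_two,
      one_pow] at hnorm
    have h0 : ∀ s : Finset (IrrCharacter G), 0 ≤ ∑ χ ∈ s, m χ ^ 2 := fun s =>
      Finset.sum_nonneg fun χ _ => sq_nonneg _
    linarith [h0 ((insert (principal G) (Finset.univ.image (Fin.append T.a T.θ)))ᶜ)]
  have hdv : ∀ i, (T.list.1 i : ℤ) ∣ ((95040 / C : ℕ) : ℤ) * v i := fun i => by
    have h := degree_dvd_index_mul (T.a i) (hv i)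
    rwa [T.deg_a i, hidx] at h
  have hdw : (T.list.2 : ℤ) ∣ ((95040 / C : ℕ) : ℤ) * w := by
    have h := degree_dvd_index_mul (T.θ 0) hw
    rwa [T.deg_θ 0, hidx] at h
  simp only [T.deg_a] at hv4 hvlo hvhi
  rw [T.deg_θ 0] at hw4 hwlo hwhi
  -- the value `-χ(1)` is excluded by the column bound
  obtain ⟨hcase, hlo, hwlo'⟩ : (∀ i, T.sgn i = sgD (T.list.1 i)) ∧
      (∀ i, -(T.list.1 i : ℤ) < v i) ∧ -(T.list.2 : ℤ) < w := by
    refine ⟨fun i => ?_, fun i => lt_of_le_of_ne (hvlo i) fun e => ?_,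
      lt_of_le_of_ne hwlo fun e => ?_⟩
    · obtain ⟨h1, h2⟩ := T.sgn_eq i
      unfold sgD
      split_ifs <;> rcases h1 with h1 | h1 <;> rw [h1] at h2 ⊢ <;> omega
    · refine not_neg_degree hG htt ht1 (T.a i) (hne i) ?_
      rw [← hv i, ← e, T.deg_a i]; push_cast; ring
    · refine not_neg_degree hG htt ht1 (T.θ 0) (hneθ 0) ?_
      rw [← hw, ← e, T.deg_θ 0]; push_cast; ring
  have hepsD : T.ε = epsD T.list.2 := by
    obtain ⟨h1, h2⟩ := T.ε_eq
    unfold epsD
    split_ifs <;> rcases h1 with h1 | h1 <;> rw [h1] at h2 ⊢ <;> omega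
  have hw' : w = T.ε * (1 + (T.sgn 0 * v 0 + T.sgn 1 * v 1 + T.sgn 2 * v 2 + T.sgn 3 * v 3)) := by
    rw [Fin.sum_univ_four] at hrel
    rcases T.ε_eq.1 with e | e <;> rw [e] at hrel ⊢ <;> linarith
  have hsqle : ∀ i, v i * v i ≤ (C : ℤ) := fun i => by
    have h1 := Finset.single_le_sum (f := fun j => v j ^ 2) (fun j _ => sq_nonneg (v j))
      (Finset.mem_univ i)
    nlinarith [sq_nonneg w]
  have hchk := List.all_eq_true.1 check_ok T.list T.mem
  simp only [check, List.all_eq_true] at hchk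
  have hleaf := hchk C
    (List.mem_filter.2 ⟨List.mem_range.2 (by omega), by
      rw [Nat.mod_eq_zero_of_dvd hCd]; rfl⟩)
    (v 0) (mem_cands (hv4 0) (hlo 0) (hvhi 0) (hsqle 0) (hdv 0))
    (v 1) (mem_cands (hv4 1) (hlo 1) (hvhi 1) (hsqle 1) (hdv 1))
    (v 2) (mem_cands (hv4 2) (hlo 2) (hvhi 2) (hsqle 2) (hdv 2))
    (v 3) (mem_cands (hv4 3) (hlo 3) (hvhi 3) (hsqle 3) (hdv 3))
  simp only [leaf, ← hcase, ← hepsD, ← hw', condW, Bool.or_eq_true, Bool.not_eq_true',
    decide_eq_true_eq] at hleaf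
  have hpos : ∀ L ∈ tables, (∀ i, 0 < L.1 i) ∧ 0 < L.2 := by decide +kernel
  obtain ⟨hd, he⟩ := hpos _ T.mem
  have hres : Res T.list C [v 0, v 1, v 2, v 3, w] := by
    refine hleaf.resolve_left fun hf => ?_
    have hn : ∀ i, (T.list.1 i : ℂ) ≠ 0 := fun i => Nat.cast_ne_zero.2 (hd i).ne'
    have hq : (T.list.1 0 : ℤ) * T.list.1 1 * T.list.1 2 * T.list.1 3 * T.list.2 +
        T.sgn 0 * (v 0 * v 0) * T.list.1 1 * T.list.1 2 * T.list.1 3 * T.list.2 +
        T.sgn 1 * (v 1 * v 1) * T.list.1 0 * T.list.1 2 * T.list.1 3 * T.list.2 +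
        T.sgn 2 * (v 2 * v 2) * T.list.1 0 * T.list.1 1 * T.list.1 3 * T.list.2 +
        T.sgn 3 * (v 3 * v 3) * T.list.1 0 * T.list.1 1 * T.list.1 2 * T.list.2 -
        T.ε * (w * w) * T.list.1 0 * T.list.1 1 * T.list.1 2 * T.list.1 3 = 0 := by
      rw [Fin.sum_univ_four] at hquad
      have := hn 0
      have := hn 1
      have := hn 2
      have := hn 3
      have : (T.list.2 : ℂ) ≠ 0 := Nat.cast_ne_zero.2 he.ne'
      apply Int.cast_injective (α := ℂ)
      push_cast
      field_simp at hquad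
      linear_combination hquad
    rw [Fin.sum_univ_four] at hcolumn
    have hS : 1 + (v 0 * v 0 + v 1 * v 1 + v 2 * v 2 + v 3 * v 3) + 2 * (w * w) ≤ (C : ℤ) := by
      linarith
    simp only [Int.emod_eq_zero_of_dvd hw4, hwlo', hwhi, Int.emod_eq_zero_of_dvd hdw, hq, hS,
      decide_true, Bool.and_self, Bool.true_eq_false] at hf
  obtain ⟨r5, rmain, rsix⟩ := hres
  refine ⟨fun h5 => r5 (Nat.mod_eq_zero_of_dvd h5), fun hl => ?_, fun hl h1 h2 => ?_⟩
  · have hform : ∀ {a b c d e : ℤ}, [v 0, v 1, v 2, v 3, w] = [a, b, c, d, e] →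
        T.HasValues t ![a, b, c, d] e := by
      intro a b c d e he'
      simp only [List.cons.injEq, and_true] at he'
      obtain ⟨rfl, rfl, rfl, rfl, rfl⟩ := he'
      refine ⟨fun i => ?_, hV.2⟩
      fin_cases i <;> exact hV.1 _
    rcases rmain hl with ⟨hc, e⟩ | ⟨hc, e⟩ | ⟨hc, e⟩
    · exact Or.inl ⟨hc, hform e⟩
    · refine Or.inr ⟨hc, ?_⟩
      rcases e with e | e
      · exact ⟨1, Or.inl rfl, by simpa using hform e⟩
      · exact ⟨-1, Or.inr rfl, by simpa using hform e⟩
    · exact (main_false hG T htt ht1 hl hc (hform e)).elim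
  · refine rsix hl ?_ ?_
    · rw [hV.1 1] at h1
      simpa using (by exact_mod_cast h1 : v 1 = 0)
    · rw [hV.1 2] at h2
      simpa using (by exact_mod_cast h2 : v 2 = 0)

end CfsgLib.M12Order
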