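import Cfsg.Agent.Lib.M12Order.Interface
import Cfsg.Agent.Lib.Blocks.Omega

/-!
# Simple groups of order 95040: general facts on characters and involutions
-/

set_option autoImplicit false
set_option linter.style.haveILetI false
set_option linter.unusedSectionVars false

open Cfsg CfsgLib.Chars CfsgLib.CharApps CfsgLib.Blocks CfsgLib.Small

namespace CfsgLib.M12Order

universe u

variable {G : Type u} [Group G] [Finite G]

/-- The class size times the value is divisible by the degree, for an integral value. -/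
theorem dvd_index_mul (χ : IrrCharacter G) {g : G} {m : ℤ} (hm : (m : ℂ) = (χ : G → ℂ) g) :
    (charDegree (χ : G → ℂ) : ℤ) ∣ ((cen g).index : ℤ) * m := by
  haveI := Fintype.ofFinite G
  have h := CfsgLib.Blocks.isIntegral_centralChar χ g
  rw [centralChar, deg_eq, ← hm] at h
  set d := charDegree (χ : G → ℂ) with hd
  set k : ℤ := ((cen g).index : ℤ) * m with hk
  have hd0 : (d : ℚ) ≠ 0 := Nat.cast_ne_zero.2 (CfsgLib.Blocks.charDegree_pos χ).ne'
  have h' : IsIntegral ℤ ((algebraMap ℚ ℂ) ((k : ℚ) / (d : ℚ))) := by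
    convert h using 1
    simp [hk, cen]
  rw [isIntegral_algebraMap_iff (algebraMap ℚ ℂ).injective] at h'
  obtain ⟨r, hr⟩ := IsIntegrallyClosed.isIntegral_iff.mp h'
  have hr' : (r : ℚ) = (k : ℚ) / (d : ℚ) := by simpa using hr
  rw [eq_div_iff hd0] at hr'
  exact ⟨r, by rw [mul_comm]; exact_mod_cast hr'.symm⟩

/-- The squares of integral values of distinct characters sum to at most the centralizer. -/
theorem sum_sq_le_card_cen {g : G} (S : Finset (IrrCharacter G)) (v : IrrCharacter G → ℤ)
    (hv : ∀ χ ∈ S, (v χ : ℂ) = (χ : G → ℂ) g) :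
    ∑ χ ∈ S, v χ ^ 2 ≤ (Nat.card (cen g) : ℤ) := by
  classical
  haveI := irrFintype G
  have h := second_orthogonality (G := G) g g
  rw [if_pos (IsConj.refl g)] at h
  have h2 := congrArg Complex.re h
  simp only [Complex.re_sum, Complex.mul_conj, Complex.ofReal_re, Complex.natCast_re] at h2
  have h3 : ∑ χ ∈ S, Complex.normSq ((χ : G → ℂ) g) ≤ (Nat.card (cen g) : ℝ) := by
    rw [← h2]
    exact Finset.sum_le_univ_sum_of_nonneg fun χ => Complex.normSq_nonneg _
  have h4 : ((∑ χ ∈ S, v χ ^ 2 : ℤ) : ℝ) = ∑ χ ∈ S, Complex.normSq ((χ : G → ℂ) g) := by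
    push_cast
    refine Finset.sum_congr rfl fun χ hχ => ?_
    rw [← hv χ hχ, ← Complex.ofReal_intCast, Complex.normSq_ofReal, sq]
  rw [← h4] at h3
  exact_mod_cast h3

section

variable [IsSimpleGroup G] (hG : Nat.card G = 95040)

include hG

theorem nonabelian : ¬ IsMulCommutative G := not_isMulCommutative_of_card (by rw [hG]; norm_num)

theorem perfect : commutator G = ⊤ := commutator_eq_top (nonabelian hG)

theorem principal_degree : charDegree (principal G : G → ℂ) = 1 :=
  (deg_eq_one_iff (principal G)).mp (principal_apply _)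

theorem eq_principal {χ : IrrCharacter G} (h : charDegree (χ : G → ℂ) = 1) : χ = principal G :=
  eq_of_degree_one (nonabelian hG) h (principal_degree hG)

theorem degree_facts (χ : IrrCharacter G) :
    charDegree (χ : G → ℂ) < 309 ∧ charDegree (χ : G → ℂ) ∣ 95040 ∧
      0 < charDegree (χ : G → ℂ) := by
  classical
  refine ⟨?_, hG ▸ charDegree_dvd_card χ, CfsgLib.Blocks.charDegree_pos χ⟩
  haveI := irrFintype G
  have h := sum_degree_sq_nat (G := G)
  rw [← Finset.add_sum_erase _ _ (Finset.mem_univ χ), hG] at h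
  by_contra hlt
  have := Nat.pow_le_pow_left (not_lt.1 hlt) 2
  norm_num at this
  omega

theorem not_sq_dvd_card {p : ℕ} (hp : p = 5 ∨ p = 11) : ¬ p ^ 2 ∣ Nat.card G := by
  rcases hp with rfl | rfl <;> rw [hG] <;> norm_num

/-- An integral value at a nontrivial involution. -/
theorem involution_value {t : G} (ht : t * t = 1) (ht1 : t ≠ 1) (χ : IrrCharacter G)
    (hne : charDegree (χ : G → ℂ) ≠ 1) :
    ∃ m : ℤ, (m : ℂ) = (χ : G → ℂ) t ∧ (4 : ℤ) ∣ (charDegree (χ : G → ℂ) : ℤ) - m ∧
      -(charDegree (χ : G → ℂ) : ℤ) ≤ m ∧ m < (charDegree (χ : G → ℂ) : ℤ) := by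
  haveI := Fintype.ofFinite G
  obtain ⟨m, hm⟩ := exists_int_apply_involution ht χ
  have hK : ∀ K : Subgroup G, K.Normal → t ∈ K → K = ⊤ := fun K hK htK =>
    hK.eq_bot_or_eq_top.resolve_left fun h => ht1 (by rwa [h, Subgroup.mem_bot] at htK)
  have h1 := apply_ne_degree hK χ (fun h => hne (h ▸ principal_degree hG))
  rw [← hm, deg_eq] at h1
  have h2 := char_norm_le (isCharacter_of_irr χ.2) t
  rw [← hm, deg_eq, Complex.norm_intCast, Complex.natCast_re] at h2
  have h3 : |m| ≤ (charDegree (χ : G → ℂ) : ℤ) := by exact_mod_cast h2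
  have h4 : m ≠ (charDegree (χ : G → ℂ) : ℤ) := fun h =>
    h1 (by exact_mod_cast congrArg (Int.cast : ℤ → ℂ) h)
  obtain ⟨h5, h6⟩ := abs_le.1 h3
  exact ⟨m, hm, four_dvd_degree_sub (perfect hG) χ ht hm, h5, lt_of_le_of_ne h6 h4⟩

theorem index_mul_card_cen (g : G) : (cen g).index * Nat.card (cen g) = 95040 := by
  rw [mul_comm, Subgroup.card_mul_index, hG]

end

end CfsgLib.M12Order
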