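import Cfsg.Agent.Lib.M12Order.BlockTableArith
import Cfsg.Agent.Lib.M12Order.Tools
import Cfsg.Agent.Lib.Small.Order7920

/-!
# Simple groups of order 95040: the principal block at eleven

A Sylow two-subgroup has a central involution; its values on the block leave eleven tables.
-/

set_option autoImplicit false
set_option linter.style.haveILetI false
set_option linter.unusedSectionVars false

open Cfsg CfsgLib.Chars CfsgLib.CharApps CfsgLib.Blocks CfsgLib.Small

namespace CfsgLib.M12Order.BlockTable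

universe u

variable {G : Type u} [Group G] [Finite G] [IsSimpleGroup G] (hG : Nat.card G = 95040)

include hG

/-- An involution never acts as minus one. -/
theorem apply_ne_neg_degree {t : G} (ht : t * t = 1) (ht1 : t ≠ 1) (χ : IrrCharacter G)
    (hne : χ ≠ principal G) : (χ : G → ℂ) t ≠ -(charDegree (χ : G → ℂ) : ℂ) := by
  classical
  haveI := Fintype.ofFinite G
  intro heq
  obtain ⟨d, ρ, hρ, hρχ⟩ := χ.2
  have hd : charDegree (χ : G → ℂ) = d := by simp [charDegree, ← hρχ]
  obtain ⟨b, μ, hμ, hb⟩ := exists_eigenbasis (ρ t) (N := 2) two_pos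
    (by rw [← map_pow, sq, ht, map_one])
  have htr : (χ : G → ℂ) t = ∑ i, μ i := by
    rw [← hρχ]
    exact trace_eq_sum_of_eigenbasis (ρ t) b μ hb
  have hpm : ∀ i, μ i = 1 ∨ μ i = -1 := fun i => sq_eq_one_iff.mp (hμ i)
  have hall : ∀ i, μ i = -1 := by
    intro i
    by_contra hi
    have h1 : ∀ j, (μ j + 1).re ≥ 0 := fun j => by rcases hpm j with h | h <;> rw [h] <;> norm_num
    have h2 : ∑ j, (μ j + 1).re = 0 := by
      rw [← Complex.re_sum, Finset.sum_add_distrib, ← htr, heq, hd]
      simp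
    have h3 := (Finset.sum_eq_zero_iff_of_nonneg fun j _ => h1 j).1 h2 i (Finset.mem_univ i)
    rw [(hpm i).resolve_right hi] at h3
    norm_num at h3
  have hscal : ∀ x, ρ t x = -x := fun x => by
    have h : ρ t = -(LinearMap.id) := b.ext fun i => by
      rw [hb i, hall i, LinearMap.neg_apply, LinearMap.id_apply, neg_one_smul]
    rw [h, LinearMap.neg_apply, LinearMap.id_apply]
  -- then every commutator with `t` is in the kernel
  have hker : ∀ g : G, g * t * g⁻¹ * t = 1 := by
    intro g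
    by_contra hne1
    refine apply_ne_degree (t := g * t * g⁻¹ * t) (fun K hK hmem =>
      hK.eq_bot_or_eq_top.resolve_left fun h => hne1 (by rwa [h, Subgroup.mem_bot] at hmem)) χ hne ?_
    have hone : ρ (g * t * g⁻¹ * t) = ρ 1 := by
      refine LinearMap.ext fun x => ?_
      rw [map_mul, map_mul, map_mul, map_one, Module.End.mul_apply, Module.End.mul_apply,
        Module.End.mul_apply, hscal, map_neg, hscal, map_neg, map_neg, neg_neg, ← Module.End.mul_apply,
        ← map_mul,
        mul_inv_cancel, map_one]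
    rw [← hρχ]
    show ρ.character _ = ρ.character _
    simp only [Representation.character, hone]
  have hcen : t ∈ Subgroup.center G := Subgroup.mem_center_iff.2 fun g => by
    have h := hker g
    rw [mul_eq_one_iff_eq_inv, inv_eq_of_mul_eq_one_left ht, mul_inv_eq_iff_eq_mul] at h
    exact h
  rw [center_eq_bot (nonabelian hG), Subgroup.mem_bot] at hcen
  exact ht1 hcen

theorem not_dvd_cen_involution (L : LocalEleven G) {t : G} (ht : orderOf t = 2) :
    ¬ 11 ∣ Nat.card (cen t) := by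
  haveI := Fact.mk (show Nat.Prime 11 by norm_num)
  intro h
  obtain ⟨⟨x, hxC⟩, hxo⟩ := exists_prime_orderOf_dvd_card' (G := cen t) 11 h
  rw [Subgroup.orderOf_mk] at hxo
  have htC : t ∈ cen x :=
    Subgroup.mem_centralizer_singleton_iff.2 (Subgroup.mem_centralizer_singleton_iff.1 hxC).symm
  have := Subgroup.orderOf_dvd_natCard _ htC
  rw [ht, L.cent x hxo] at this
  norm_num at this

/-- An involution central in a Sylow two-subgroup. -/
theorem exists_central_involution (L : LocalEleven G) :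
    ∃ t : G, orderOf t = 2 ∧ Nat.card (cen t) ∈ centralCents := by
  haveI := Fact.mk Nat.prime_two
  obtain ⟨S⟩ := (inferInstance : Nonempty (Sylow 2 G))
  have hS : Nat.card (S : Subgroup G) = 64 :=
    (card_sylow_eq 6 1485 (by rw [hG]; norm_num) (by norm_num) S).trans (by norm_num)
  have : Nontrivial (S : Subgroup G) := Finite.one_lt_card_iff_nontrivial.1 (by rw [hS]; norm_num)
  have := S.2.center_nontrivial
  obtain ⟨k, hk⟩ := IsPGroup.iff_card.1 (S.2.to_subgroup (Subgroup.center (S : Subgroup G)))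
  have hk0 : k ≠ 0 := fun h => by
    rw [h, pow_zero] at hk
    have := Finite.one_lt_card_iff_nontrivial.2 this
    omega
  obtain ⟨z, hz⟩ := exists_prime_orderOf_dvd_card' (G := Subgroup.center (S : Subgroup G)) 2
    (hk ▸ dvd_pow_self 2 hk0)
  set t : G := ((z : (S : Subgroup G)) : G) with ht
  have hto : orderOf t = 2 := by rw [ht, Subgroup.orderOf_coe, Subgroup.orderOf_coe, hz]
  refine ⟨t, hto, ?_⟩
  have hle : (S : Subgroup G) ≤ cen t := fun s hs =>
    Subgroup.mem_centralizer_singleton_iff.2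
      (congrArg Subtype.val (Subgroup.mem_center_iff.1 z.2 ⟨s, hs⟩))
  obtain ⟨m, hm⟩ : 64 ∣ Nat.card (cen t) := hS ▸ Subgroup.card_dvd_of_le hle
  have hd : Nat.card (cen t) ∣ 95040 := hG ▸ (cen t).card_subgroup_dvd_card
  have h11 := not_dvd_cen_involution hG L hto
  rw [hm] at hd h11 ⊢
  have hm1 : m ∣ 1485 := Nat.dvd_of_mul_dvd_mul_left (show 0 < 64 by norm_num) hd
  have hm2 : m ∣ 135 := by
    refine Nat.Coprime.dvd_of_dvd_mul_right ?_ (show m ∣ 135 * 11 from hm1)
    exact ((Nat.Prime.coprime_iff_not_dvd (by norm_num)).2 fun h => h11 (h.mul_left 64)).symm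
  have hdiv : m ∈ Nat.divisors 135 := Nat.mem_divisors.2 ⟨hm2, by norm_num⟩
  have key : ∀ m ∈ Nat.divisors 135, 64 * m ∈ centralCents := by decide +kernel
  exact key m hdiv

/-- No involution inverts an element of order eleven. -/
theorem eq_one_of_inverts (L : LocalEleven G) {x u : G} (hx : orderOf x = 11) (hu : u * u = 1)
    (hux : u * x * u⁻¹ = x⁻¹) : u = 1 := by
  haveI := Fact.mk (show Nat.Prime 11 by norm_num)
  obtain ⟨P, hle⟩ := (IsPGroup.of_card (p := 11) (n := 1)
    (show Nat.card (Subgroup.zpowers x) = 11 ^ 1 by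
      rw [Nat.card_zpowers, hx, pow_one])).exists_le_sylow
  have hP : Nat.card (P : Subgroup G) = 11 := by
    simpa using card_sylow_eq (p := 11) 1 8640 (by rw [hG]; rfl) (by norm_num) P
  have hPz : Subgroup.zpowers x = (P : Subgroup G) :=
    Subgroup.eq_of_le_of_card_ge hle (by rw [hP, Nat.card_zpowers, hx])
  have hmap : ∀ y ∈ Subgroup.zpowers x, u * y * u⁻¹ ∈ Subgroup.zpowers x := fun y hy => by
    obtain ⟨k, rfl⟩ := Subgroup.mem_zpowers_iff.1 hy
    rw [← conj_zpow, hux]
    exact Subgroup.zpow_mem _ (Subgroup.inv_mem _ (Subgroup.mem_zpowers x)) k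
  have hmem : u ∈ Subgroup.normalizer ((P : Subgroup G) : Set G) := by
    rw [← hPz, Subgroup.mem_normalizer_iff]
    refine fun y => ⟨hmap y, fun hy => ?_⟩
    have h := hmap _ hy
    rw [inv_eq_of_mul_eq_one_left hu] at h
    simpa [mul_assoc, hu, ← mul_assoc u u] using h
  have h1 := Subgroup.orderOf_dvd_natCard _ hmem
  rw [L.norm P] at h1
  have h2 : orderOf u ∣ 2 := orderOf_dvd_of_pow_eq_one (by rw [sq, hu])
  exact orderOf_eq_one_iff.1 (Nat.eq_one_of_dvd_coprimes (by norm_num) h1 h2)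

omit hG in
theorem apply_conj (χ : IrrCharacter G) (g c : G) :
    (χ : G → ℂ) (c * g * c⁻¹) = (χ : G → ℂ) g := by
  haveI := Fintype.ofFinite G
  exact isClassFunction_irr χ g c

set_option maxHeartbeats 1000000 in
/-- The table. -/
theorem exists_table (L : LocalEleven G) : Nonempty (Table G) := by
  classical
  haveI := Fact.mk (show Nat.Prime 11 by norm_num)
  haveI := Fintype.ofFinite G
  haveI := irrFintype G
  obtain ⟨P⟩ := (inferInstance : Nonempty (Sylow 11 G))
  have hP : Nat.card (P : Subgroup G) = 11 := by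
    simpa using card_sylow_eq (p := 11) 1 8640 (by rw [hG]; rfl) (by norm_num) P
  obtain ⟨z, hzP, hz1⟩ : ∃ z ∈ (P : Subgroup G), z ≠ 1 :=
    (Subgroup.bot_or_exists_ne_one (P : Subgroup G)).resolve_left fun h => by
      rw [h, Subgroup.card_bot] at hP
      omega
  have hzo : orderOf z = 11 := by
    rcases (Nat.dvd_prime (show Nat.Prime 11 by norm_num)).1
      (hP ▸ Subgroup.orderOf_dvd_natCard _ hzP) with h | h
    · exact absurd (orderOf_eq_one_iff.1 h) hz1
    · exact h
  have hC : Subgroup.centralizer ((P : Subgroup G) : Set G) = (P : Subgroup G) := by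
    refine (Subgroup.eq_of_le_of_card_ge ?_ ?_).symm
    · haveI := (isCyclic_of_prime_card hP).isMulCommutative
      exact Subgroup.le_centralizer (P : Subgroup G)
    · rw [hP]
      exact (Nat.le_of_dvd Nat.card_pos (Subgroup.card_dvd_of_le
        (Subgroup.centralizer_le (Set.singleton_subset_iff.2 hzP)))).trans (L.cent z hzo).le
  have hrel' : (Subgroup.centralizer ((P : Subgroup G) : Set G)).relIndex
      (Subgroup.normalizer ((P : Subgroup G) : Set G)) = 5 := by
    have hle : Subgroup.centralizer ((P : Subgroup G) : Set G) ≤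
        Subgroup.normalizer ((P : Subgroup G) : Set G) := Subgroup.centralizer_le_normalizer _
    have h := Subgroup.relIndex_mul_relIndex _ _ _ bot_le hle
    rw [Subgroup.relIndex_bot_left, Subgroup.relIndex_bot_left, L.norm P, hC, hP] at h
    rw [hC]
    omega
  obtain ⟨M, hM⟩ := CharApps.exists_pModular (p := 11)
  haveI := hM.2.1.isPrime
  obtain ⟨X, Y, σ, ε, hB, hdisj, hX, hY, hXp, hε, hYd, hYeq, hrel⟩ :=
    Small.O7920.exists_block_data (by norm_num) hM P hP hrel'
  norm_num at hY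
  have h1one : ¬ 11 ∣ orderOf (1 : G) := by rw [orderOf_one]; norm_num
  have hprin : principal G ∈ X := by
    rcases (hB _).1 (CfsgLib.Blocks.principal_mem_principalBlock M) with h | h
    · exact h
    exfalso
    obtain ⟨a, ha, hane⟩ := Finset.exists_mem_ne (show 1 < Y.card by omega) (principal G)
    have h1 := hYeq a ha _ h 1 h1one
    rw [deg_eq, principal_apply, Nat.cast_eq_one] at h1
    exact hane (eq_principal hG h1)
  -- the four non-exceptional characters, sorted by degree
  set X' := X.erase (principal G) with hX'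
  have hX'c : X'.card = 4 := by rw [hX', Finset.card_erase_of_mem hprin, hX]
  let e₀ : Fin 4 ≃ X' := (X'.equivFinOfCardEq hX'c).symm
  let b : Fin 4 → IrrCharacter G := fun i => (e₀ i : IrrCharacter G)
  let p : Equiv.Perm (Fin 4) := Tuple.sort fun i => charDegree (b i : G → ℂ)
  let a : Fin 4 → IrrCharacter G := fun i => b (p i)
  have hmono : Monotone fun i => charDegree (a i : G → ℂ) :=
    Tuple.monotone_sort fun i => charDegree (b i : G → ℂ)
  have ha : ∀ i, a i ∈ X ∧ a i ≠ principal G := fun i =>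
    ⟨Finset.mem_of_mem_erase (e₀ (p i)).2, Finset.ne_of_mem_erase (e₀ (p i)).2⟩
  have hainj : Function.Injective a := fun i j h => p.injective (e₀.injective (Subtype.ext h))
  have hasurj : ∀ χ ∈ X, χ ≠ principal G → ∃ i, χ = a i := by
    intro χ hχ hne
    obtain ⟨i, hi⟩ := e₀.surjective ⟨χ, Finset.mem_erase.2 ⟨hne, hχ⟩⟩
    obtain ⟨j, hj⟩ := p.surjective i
    exact ⟨j, by show χ = b (p j); rw [hj]; exact (congrArg Subtype.val hi).symm⟩
  obtain ⟨θ₀, θ₁, hθne, hYe⟩ := Finset.card_eq_two.1 hY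
  let θ : Fin 2 → IrrCharacter G := ![θ₀, θ₁]
  have hθ : ∀ j, θ j ∈ Y := fun j => by rw [hYe]; fin_cases j <;> simp [θ]
  have hθp : ∀ j, θ j ≠ principal G := fun j h =>
    Finset.disjoint_left.1 hdisj hprin (h ▸ hθ j)
  -- degrees and signs
  have hdeg : ∀ i, charDegree (a i : G → ℂ) ∈ neDegs ∧
      σ (a i) = sgnDeg (charDegree (a i : G → ℂ)) := by
    intro i
    obtain ⟨hlt, hdvd, -⟩ := degree_facts hG (a i)
    obtain ⟨hs, hmod, -⟩ := hXp (a i) (ha i).1
    have h1 : charDegree (a i : G → ℂ) ≠ 1 := fun h => (ha i).2 (eq_principal hG h)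
    rw [Int.modEq_iff_dvd] at hmod
    refine ⟨ne_degree_list _ hlt hdvd h1 ?_, ?_⟩
    · rcases hs with h | h <;> rw [h] at hmod <;> omega
    · unfold sgnDeg
      rcases hs with h | h <;> rw [h] at hmod ⊢ <;> split_ifs with h' <;> omega
  have hσp : σ (principal G) = 1 := by
    have h := (hXp _ hprin).2.1
    rw [principal_degree hG, Int.modEq_iff_dvd] at h
    rcases (hXp _ hprin).1 with h' | h' <;> rw [h'] at h ⊢ <;> omega
  have hsumX : ∀ F : IrrCharacter G → ℂ, ∑ χ ∈ X, F χ = F (principal G) + ∑ i, F (a i) := by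
    intro F
    rw [← Finset.add_sum_erase _ _ hprin, ← hX',
      ← Finset.sum_bij (fun i _ => a i) (fun i _ => Finset.mem_erase.2 ⟨(ha i).2, (ha i).1⟩)
        (fun i _ j _ h => hainj h)
        (fun χ hχ => by
          rw [Finset.mem_erase] at hχ
          obtain ⟨i, hi⟩ := hasurj χ hχ.2 hχ.1
          exact ⟨i, Finset.mem_univ _, hi.symm⟩) (fun i _ => rfl)]
  have hrelA : ∀ j, ∀ g : G, ¬ 11 ∣ orderOf g →
      (ε : ℂ) * (θ j : G → ℂ) g = 1 + ∑ i, (σ (a i) : ℂ) * (a i : G → ℂ) g := by
    intro j g hg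
    rw [hrel (θ j) (hθ j) g hg, hsumX, hσp, principal_apply]
    simp
  have hθdeg : ∀ j, charDegree (θ j : G → ℂ) = charDegree (θ₀ : G → ℂ) := by
    intro j
    have h := hYeq (θ j) (hθ j) θ₀ (hθ 0) 1 h1one
    rw [deg_eq, deg_eq, Nat.cast_inj] at h
    exact h
  set de := charDegree (θ₀ : G → ℂ) with hde
  have hde1 : 2 ≤ de := by
    have := (degree_facts hG θ₀).2.2
    by_contra h
    exact hθp 0 (eq_principal hG (show charDegree (θ₀ : G → ℂ) = 1 by omega))
  have hT : excDeg (charDegree (a 0 : G → ℂ)) (charDegree (a 1 : G → ℂ))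
      (charDegree (a 2 : G → ℂ)) (charDegree (a 3 : G → ℂ)) = ε * (de : ℤ) := by
    have h := hrelA 0 1 h1one
    simp only [deg_eq, hθdeg 0, Fin.sum_univ_four, (hdeg _).2] at h
    unfold excDeg
    have h2 : ((ε * (de : ℤ) : ℤ) : ℂ) = ((1 + (sgnDeg (charDegree (a 0 : G → ℂ)) *
        (charDegree (a 0 : G → ℂ) : ℤ) + sgnDeg (charDegree (a 1 : G → ℂ)) *
        (charDegree (a 1 : G → ℂ) : ℤ) + sgnDeg (charDegree (a 2 : G → ℂ)) *
        (charDegree (a 2 : G → ℂ) : ℤ) + sgnDeg (charDegree (a 3 : G → ℂ)) *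
        (charDegree (a 3 : G → ℂ) : ℤ)) : ℤ) : ℂ) := by
      push_cast
      linear_combination h
    exact (Int.cast_injective h2).symm
  -- characters outside the block
  have hcover : ∀ χ : IrrCharacter G, χ = principal G ∨ (∃ i, χ = Fin.append a θ i) ∨
      (11 ∣ charDegree (χ : G → ℂ) ∧ ∀ x : G, orderOf x = 11 → (χ : G → ℂ) x = 0) := by
    intro χ
    by_cases h : 11 ∣ charDegree (χ : G → ℂ)
    · refine Or.inr (Or.inr ⟨h, fun x hx => ?_⟩)
      exact eq_zero_of_dvd_orderOf χ.2 (n := 1) (p := 11) (by norm_num) (deg_eq χ)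
        (not_sq_dvd_card hG (Or.inr rfl)) (by rw [pow_one]; exact h) (by rw [hx])
    rcases (hB χ).1 (mem_principalBlock_of_selfCentral hM P hP hC χ h) with hx | hy
    · by_cases hp : χ = principal G
      · exact Or.inl hp
      · obtain ⟨i, hi⟩ := hasurj χ hx hp
        exact Or.inr (Or.inl ⟨Fin.castAdd 2 i, by rw [Fin.append_left, hi]⟩)
    · rw [hYe, Finset.mem_insert, Finset.mem_singleton] at hy
      rcases hy with rfl | rfl
      · exact Or.inr (Or.inl ⟨Fin.natAdd 4 0, by rw [Fin.append_right]; rfl⟩)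
      · exact Or.inr (Or.inl ⟨Fin.natAdd 4 1, by rw [Fin.append_right]; rfl⟩)
  have hinj : Function.Injective (Fin.append a θ) := by
    intro i j h
    induction i using Fin.addCases with
    | left i =>
      induction j using Fin.addCases with
      | left j => rw [Fin.append_left, Fin.append_left] at h; rw [hainj h]
      | right j =>
        rw [Fin.append_left, Fin.append_right] at h
        exact absurd (hθ j) (fun hy => Finset.disjoint_left.1 hdisj (ha i).1 (h ▸ hy))
    | right i =>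
      induction j using Fin.addCases with
      | left j =>
        rw [Fin.append_left, Fin.append_right] at h
        exact absurd (hθ i) (fun hy => Finset.disjoint_left.1 hdisj (ha j).1 (h ▸ hy))
      | right j =>
        rw [Fin.append_right, Fin.append_right] at h
        fin_cases i <;> fin_cases j <;> simp [θ, hθne, hθne.symm] at h ⊢
  have hnep : ∀ i, Fin.append a θ i ≠ principal G := fun i => by
    induction i using Fin.addCases with
    | left i => rw [Fin.append_left]; exact (ha i).2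
    | right i => rw [Fin.append_right]; exact hθp i
  have hsumall : ∀ F : IrrCharacter G → ℂ,
      (∀ χ : IrrCharacter G, (∀ x : G, orderOf x = 11 → (χ : G → ℂ) x = 0) → F χ = 0) →
      ∑ χ, F χ = F (principal G) + ((∑ i, F (a i)) + (F θ₀ + F θ₁)) := by
    intro F hF
    have hsub : ∑ χ ∈ insert (principal G) (Finset.univ.image (Fin.append a θ)), F χ = ∑ χ, F χ :=
      Finset.sum_subset (Finset.subset_univ _) fun χ _ hχ => by
        refine hF χ ?_
        rcases hcover χ with h | ⟨i, h⟩ | h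
        · exact absurd (Finset.mem_insert.2 (Or.inl h)) hχ
        · exact absurd (Finset.mem_insert_of_mem
            (Finset.mem_image.2 ⟨i, Finset.mem_univ _, h.symm⟩)) hχ
        · exact h.2
    rw [← hsub, Finset.sum_insert (fun h => by
      obtain ⟨i, -, hi⟩ := Finset.mem_image.1 h
      exact hnep i hi), Finset.sum_image fun i _ j _ h => hinj h, Fin.sum_univ_add]
    simp [θ]
  have hatA : ∀ i, ∀ x : G, orderOf x = 11 → (a i : G → ℂ) x = (σ (a i) : ℂ) := by
    intro i x hx
    obtain ⟨Q, hQ⟩ := (IsPGroup.of_card (p := 11) (n := 1)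
      (show Nat.card (Subgroup.zpowers x) = 11 ^ 1 by
        rw [Nat.card_zpowers, hx, pow_one])).exists_le_sylow
    obtain ⟨c, hc⟩ := MulAction.exists_smul_eq G Q P
    have hmem : c * x * c⁻¹ ∈ (P : Subgroup G) := by
      rw [← hc, Sylow.smul_def]
      exact Subgroup.mem_map_of_mem (MulAut.conj c).toMonoidHom (hQ (Subgroup.mem_zpowers _))
    rw [← apply_conj (a i) x c]
    exact (hXp (a i) (ha i).1).2.2 _ hmem fun h => by
      rw [conj_eq_one_iff] at h
      rw [h, orderOf_one] at hx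
      omega
  have hatθ : ∀ x : G, orderOf x = 11 → (θ 0 : G → ℂ) x + (θ 1 : G → ℂ) x = -(ε : ℂ) := by
    intro x hx
    have hcol := sum_degree_mul (G := G) x
    rw [if_neg (fun h => by rw [h, orderOf_one] at hx; omega),
      hsumall (fun χ => (χ : G → ℂ) 1 * (χ : G → ℂ) x) fun χ h => by simp [h x hx]] at hcol
    have hrel1 := hrelA 0 1 h1one
    simp only [deg_eq, hθdeg 0] at hrel1
    have hd0 : (θ₀ : G → ℂ) 1 = (de : ℂ) := by rw [hde, deg_eq]
    have hd1 : (θ₁ : G → ℂ) 1 = (de : ℂ) := by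
      rw [deg_eq, show θ₁ = θ 1 from rfl, hθdeg]
    have hs : ∑ i, (a i : G → ℂ) 1 * (a i : G → ℂ) x =
        ∑ i, (σ (a i) : ℂ) * (charDegree (a i : G → ℂ) : ℂ) :=
      Finset.sum_congr rfl fun i _ => by rw [deg_eq, hatA i x hx, mul_comm]
    rw [principal_apply, principal_apply, hd0, hd1, hs] at hcol
    have hdne : (de : ℂ) ≠ 0 := Nat.cast_ne_zero.2 (by omega)
    have h3 : (de : ℂ) * ((ε : ℂ) + ((θ₀ : G → ℂ) x + (θ₁ : G → ℂ) x)) = 0 := by
      linear_combination hcol + hrel1
    show (θ₀ : G → ℂ) x + (θ₁ : G → ℂ) x = -(ε : ℂ)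
    linear_combination (mul_eq_zero.1 h3).resolve_left hdne
  -- the values at a central involution
  obtain ⟨t, hto, hcent⟩ := exists_central_involution hG L
  have ht : t * t = 1 := by rw [← sq, ← hto, pow_orderOf_eq_one]
  have ht1 : t ≠ 1 := fun h => by rw [h, orderOf_one] at hto; omega
  have hvals : ∀ χ : IrrCharacter G, χ ≠ principal G → ∃ m : ℤ, (m : ℂ) = (χ : G → ℂ) t ∧
      (4 : ℤ) ∣ (charDegree (χ : G → ℂ) : ℤ) - m ∧ m.natAbs < charDegree (χ : G → ℂ) ∧
      (charDegree (χ : G → ℂ) : ℤ) ∣ ((95040 / Nat.card (cen t) : ℕ) : ℤ) * m := by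
    intro χ hne
    obtain ⟨m, hm, h4, hlo, hhi⟩ :=
      involution_value hG ht ht1 χ fun h => hne (eq_principal hG h)
    refine ⟨m, hm, h4, ?_, ?_⟩
    · have : m ≠ -(charDegree (χ : G → ℂ) : ℤ) := fun h =>
        apply_ne_neg_degree hG ht ht1 χ hne (by rw [← hm, h]; simp)
      omega
    · have hk : 95040 / Nat.card (cen t) = (cen t).index := by
        rw [← index_mul_card_cen hG t, Nat.mul_div_cancel _ Nat.card_pos]
      rw [hk]
      exact dvd_index_mul χ hm
  choose v hv hv4 hvlt hvdvd using fun i => hvals (a i) (ha i).2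
  obtain ⟨w, hw, hw4, hwlt, hwdvd⟩ := hvals θ₀ (hθp 0)
  have h11t : ¬ 11 ∣ orderOf t := by rw [hto]; norm_num
  have hwval : w = ε * (1 + ∑ i, σ (a i) * v i) := by
    have h := hrelA 0 t h11t
    have hε2 : ε * ε = 1 := by rcases hε with h | h <;> rw [h] <;> norm_num
    have h2 : ((ε * w : ℤ) : ℂ) = ((1 + ∑ i, σ (a i) * v i : ℤ) : ℂ) := by
      push_cast
      simp only [hv, hw]
      exact h
    rw [← Int.cast_injective h2, ← mul_assoc, hε2, one_mul]
  have hsq : 1 + (∑ i, v i * v i) + 2 * (w * w) ≤ (Nat.card (cen t) : ℤ) := by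
    let F : IrrCharacter G → ℤ := fun χ => (exists_int_apply_involution ht χ).choose
    have hF : ∀ χ, (F χ : ℂ) = (χ : G → ℂ) t := fun χ =>
      (exists_int_apply_involution ht χ).choose_spec
    refine le_trans (le_of_eq ?_) (sum_sq_le_card_cen
      (insert (principal G) (Finset.univ.image (Fin.append a θ))) F fun χ _ => hF χ)
    rw [Finset.sum_insert (fun h => by
      obtain ⟨i, -, hi⟩ := Finset.mem_image.1 h
      exact hnep i hi), Finset.sum_image fun i _ j _ h => hinj h, Fin.sum_univ_add]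
    have e1 : F (principal G) = 1 := by
      have h := hF (principal G)
      rw [principal_apply] at h
      exact_mod_cast h
    have e2 : ∀ i, F (a i) = v i := fun i => by
      exact_mod_cast (hF (a i)).trans (hv i).symm
    have e3 : ∀ j, F (θ j) = w := fun j => by
      have h := (hF (θ j)).trans ((hYeq (θ j) (hθ j) θ₀ (hθ 0) t h11t).trans hw.symm)
      exact_mod_cast h
    simp only [Fin.append_left, Fin.append_right, e1, e2, e3, Fin.sum_univ_two, sq]
    ring
  have hinv : (1 : ℂ) + (∑ i, (σ (a i) : ℂ) * (v i : ℂ) ^ 2 / (charDegree (a i : G → ℂ) : ℂ)) -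
      (ε : ℂ) * (w : ℂ) ^ 2 / (de : ℂ) = 0 := by
    have h := card_conj_mul_conj t t z⁻¹
    rw [inv_inv] at h
    haveI : IsEmpty {ab : G × G // (ab.1 * t * ab.1⁻¹) * (ab.2 * t * ab.2⁻¹) = z⁻¹} := by
      refine ⟨fun ⟨⟨c, d⟩, hab⟩ => ?_⟩
      have h1 : (c * t * c⁻¹) * (c * t * c⁻¹) = 1 := by
        rw [← sq, conj_pow, sq, ht, mul_one, mul_inv_cancel]
      have h2 : (d * t * d⁻¹) * (d * t * d⁻¹) = 1 := by
        rw [← sq, conj_pow, sq, ht, mul_one, mul_inv_cancel]
      have hu := eq_one_of_inverts hG L (x := z⁻¹) (by rw [orderOf_inv, hzo]) h1 ?_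
      · exact ht1 (conj_eq_one_iff.1 hu)
      · simp only at hab
        generalize c * t * c⁻¹ = u at hab h1 ⊢
        generalize d * t * d⁻¹ = r at hab h2
        rw [← hab, mul_inv_rev u r, inv_eq_of_mul_eq_one_left h2, inv_eq_of_mul_eq_one_left h1,
          ← mul_assoc, h1, one_mul]
    rw [Nat.card_of_isEmpty, Nat.cast_zero, eq_comm, mul_eq_zero] at h
    have h0 := h.resolve_left (Chars.card_ne_zero G)
    rw [hsumall (fun χ => (χ : G → ℂ) t * (χ : G → ℂ) t * (χ : G → ℂ) z / (χ : G → ℂ) 1)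
      fun χ h => by simp [h z hzo]] at h0
    have hs : ∑ i, (a i : G → ℂ) t * (a i : G → ℂ) t * (a i : G → ℂ) z / (a i : G → ℂ) 1 =
        ∑ i, (σ (a i) : ℂ) * (v i : ℂ) ^ 2 / (charDegree (a i : G → ℂ) : ℂ) :=
      Finset.sum_congr rfl fun i _ => by rw [← hv i, deg_eq, hatA i z hzo]; ring
    have hd1 : (θ₁ : G → ℂ) 1 = (de : ℂ) := by rw [deg_eq, show θ₁ = θ 1 from rfl, hθdeg]
    have hw1 : (θ₁ : G → ℂ) t = (w : ℂ) := by
      rw [hw]; exact hYeq θ₁ (hθ 1) θ₀ (hθ 0) t h11t
    rw [principal_apply, principal_apply, principal_apply, hs, hw1, ← hw,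
      show (θ₀ : G → ℂ) 1 = (de : ℂ) from deg_eq _, hd1] at h0
    have hz2 : (θ₀ : G → ℂ) z + (θ₁ : G → ℂ) z = -(ε : ℂ) := hatθ z hzo
    linear_combination h0 - ((w : ℂ) ^ 2 / (de : ℂ)) * hz2
  -- the table
  have hTabs : (excDeg (charDegree (a 0 : G → ℂ)) (charDegree (a 1 : G → ℂ))
      (charDegree (a 2 : G → ℂ)) (charDegree (a 3 : G → ℂ))).natAbs = de := by
    rw [hT]; rcases hε with h | h <;> simp [h]
  have hTsign : (excDeg (charDegree (a 0 : G → ℂ)) (charDegree (a 1 : G → ℂ))
      (charDegree (a 2 : G → ℂ)) (charDegree (a 3 : G → ℂ))).sign = ε := by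
    have hde' : Int.sign (de : ℤ) = 1 := Int.sign_eq_one_of_pos (by omega)
    rw [hT, Int.sign_mul, hde', mul_one]
    rcases hε with h | h <;> simp [h]
  have hord : charDegree (a 0 : G → ℂ) ≤ charDegree (a 1 : G → ℂ) ∧
      charDegree (a 1 : G → ℂ) ≤ charDegree (a 2 : G → ℂ) ∧
      charDegree (a 2 : G → ℂ) ≤ charDegree (a 3 : G → ℂ) :=
    ⟨hmono (by decide), hmono (by decide), hmono (by decide)⟩
  have hkey : ([charDegree (a 0 : G → ℂ), charDegree (a 1 : G → ℂ), charDegree (a 2 : G → ℂ),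
      charDegree (a 3 : G → ℂ)], de) ∈ tableLists := by
    rw [← hTabs]
    refine tables_arith _ (hdeg 0).1 _ (hdeg 1).1 _ (hdeg 2).1 _ (hdeg 3).1 hord.1 hord.2.1 hord.2.2
      (by rw [hTabs]; exact hde1) (by rw [hTabs]; exact (degree_facts hG θ₀).1)
      (by rw [hTabs]; exact (degree_facts hG θ₀).2.1) ?_
    have hd8 := exc_dvd _ (hdeg 0).1 _ (hdeg 1).1 _ (hdeg 2).1 _ (hdeg 3).1 hord.1 hord.2.1
      hord.2.2 (by rw [hTabs]; exact hde1) (by rw [hTabs]; exact (degree_facts hG θ₀).1)
      (by rw [hTabs]; exact (degree_facts hG θ₀).2.1)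
    rw [hTabs] at hd8
    have hC : Nat.card (cen t) ≤ 8640 := by
      have : ∀ c ∈ centralCents, c ≤ 8640 := by decide
      exact this _ hcent
    have hmem : ∀ i, v i ∈ vals (charDegree (a i : G → ℂ)) (Nat.card (cen t)) := by
      intro i
      have h1 : v i * v i ≤ (Nat.card (cen t) : ℤ) := by
        have := Finset.single_le_sum (f := fun j => v j * v j) (fun j _ => mul_self_nonneg _)
          (Finset.mem_univ i)
        nlinarith [mul_self_nonneg w, this, hsq]
      have h2 : (v i).natAbs ≤ 92 := by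
        by_contra h
        have h93 : 93 * 93 ≤ (v i).natAbs * (v i).natAbs := Nat.mul_le_mul (by omega) (by omega)
        have h4 : (((v i).natAbs * (v i).natAbs : ℕ) : ℤ) = v i * v i := by
          push_cast; exact abs_mul_abs_self _
        omega
      have := hvlt i
      refine List.mem_filter.2 ⟨List.mem_map.2 ⟨(v i + (reach (charDegree (a i : G → ℂ)) : ℤ)).toNat,
        List.mem_range.2 ?_, ?_⟩, decide_eq_true ⟨hv4 i, hvdvd i, h1⟩⟩
      · simp only [reach]; omega
      · simp only [reach]; omega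
    refine List.any_eq_true.2 ⟨_, hcent, List.any_eq_true.2 ⟨_, hmem 0, List.any_eq_true.2
      ⟨_, hmem 1, List.any_eq_true.2 ⟨_, hmem 2, List.any_eq_true.2 ⟨_, hmem 3, ?_⟩⟩⟩⟩⟩
    have hw' : ε * (1 + (sgnDeg (charDegree (a 0 : G → ℂ)) * v 0 +
        sgnDeg (charDegree (a 1 : G → ℂ)) * v 1 + sgnDeg (charDegree (a 2 : G → ℂ)) * v 2 +
        sgnDeg (charDegree (a 3 : G → ℂ)) * v 3)) = w := by
      rw [hwval, Fin.sum_univ_four, (hdeg 0).2, (hdeg 1).2, (hdeg 2).2, (hdeg 3).2]
    simp only [fitsValues, hTabs, hTsign, hw', decide_eq_true_eq]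
    refine ⟨hwlt, hw4, hwdvd, ?_, ?_⟩
    · rw [Fin.sum_univ_four] at hsq
      exact hsq
    · have hdiv : ∀ d : ℕ, d ∣ 8640 → d ≠ 0 →
          (((8640 / d : ℕ) : ℤ) : ℂ) = 8640 / (d : ℂ) := fun d hd hd0 => by
        rw [Int.cast_natCast, Nat.cast_div hd (Nat.cast_ne_zero.2 hd0)]
        norm_num
      have hne : ∀ d ∈ neDegs, d ∣ 8640 ∧ d ≠ 0 := by decide +kernel
      apply Int.cast_injective (α := ℂ)
      rw [Fin.sum_univ_four, (hdeg 0).2, (hdeg 1).2, (hdeg 2).2, (hdeg 3).2] at hinv
      simp only [Int.cast_add, Int.cast_sub, Int.cast_mul, Int.cast_zero, Int.cast_ofNat,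
        hdiv _ (hne _ (hdeg 0).1).1 (hne _ (hdeg 0).1).2,
        hdiv _ (hne _ (hdeg 1).1).1 (hne _ (hdeg 1).1).2,
        hdiv _ (hne _ (hdeg 2).1).1 (hne _ (hdeg 2).1).2,
        hdiv _ (hne _ (hdeg 3).1).1 (hne _ (hdeg 3).1).2, hdiv _ hd8 (by omega)]
      linear_combination (8640 : ℂ) * hinv
  obtain ⟨⟨f, de'⟩, hmemT, heq⟩ := List.mem_map.1 hkey
  simp only [Prod.mk.injEq] at heq
  have hf : ∀ i, f i = charDegree (a i : G → ℂ) := by
    have h : f = fun i => charDegree (a i : G → ℂ) := List.ofFn_injective (by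
      rw [heq.1]
      simp [List.ofFn_succ])
    intro i
    exact congrFun h i
  exact ⟨{
    a := a
    θ := θ
    sgn := fun i => σ (a i)
    ε := ε
    list := (f, de')
    mem := hmemT
    deg_a := fun i => (hf i).symm
    deg_θ := fun j => (hθdeg j).trans heq.2.symm
    inj := hinj
    ne_principal := hnep
    sgn_eq := fun i => ⟨(hXp (a i) (ha i).1).1, by
      have h := (hXp (a i) (ha i).1).2.1
      rw [Int.modEq_iff_dvd] at h
      simp only [hf i]
      omega⟩
    ε_eq := ⟨hε, by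
      have h := hYd θ₀ (hθ 0)
      rw [Int.modEq_iff_dvd, ← hde] at h
      simp only [heq.2]
      omega⟩
    at_eleven := hatA
    at_eleven_θ := hatθ
    rel := hrelA
    cover := hcover }⟩

omit hG in
/-- Piece B, first half. -/
theorem table : TableStmt.{u} := by
  intro G _ _ hs hG L
  haveI := hs
  exact exists_table hG L

end CfsgLib.M12Order.BlockTable
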