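import Cfsg.Agent.Lib.M12Order.Defs
import Cfsg.Agent.Lib.Spor.MathieuSimple
import Cfsg.Prelude.Def_Sporadic

/-!
# The dodecad stabilizer and uniqueness by the order
-/

set_option autoImplicit false

open Cfsg
open scoped Pointwise

namespace CfsgLib.M12Order

universe u

/-- A group satisfying the abstract conditions of the Mathieu group of degree twelve is the
stabilizer of a dodecad in the Mathieu group of degree twenty four. -/
theorem stab_of_unique (U : Unique.{u}) {G : Type u} [Group G] [Finite G] (hG : Cfsg.IsM12 G)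
    (d : Finset Cfsg.GolayPt) (hd : d ∈ Cfsg.dodecads) :
    Nonempty (G ≃* ↥(MulAction.stabilizer Cfsg.M24 d)) := by
  let S := ↥(MulAction.stabilizer Cfsg.M24 d)
  have : IsSimpleGroup S := CfsgLib.Spor.isSimpleGroup_stab_dodecad hd
  let e : ULift.{u} S ≃* S := MulEquiv.ulift
  have : Nontrivial (ULift.{u} S) := e.toEquiv.nontrivial
  have hs : IsSimpleGroup (ULift.{u} S) :=
    IsSimpleGroup.isSimpleGroup_of_surjective e.symm.toMonoidHom e.symm.surjective
  have hc : Nat.card (ULift.{u} S) = 95040 := by
    rw [Nat.card_congr e.toEquiv]; exact CfsgLib.Spor.natCard_stab_dodecad hd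
  obtain ⟨f⟩ := U G hG.1 hG.2
  obtain ⟨f'⟩ := U (ULift.{u} S) hs hc
  exact ⟨f.trans (f'.symm.trans e)⟩

end CfsgLib.M12Order
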