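import Cfsg.Agent.Lib.M12Order.Tools
import Cfsg.Agent.Lib.Small.Order7920

/-!
# Simple groups of order 95040: the Sylow subgroups of order eleven

If the centralizer of a Sylow subgroup `P` of order eleven had an involution `t`, every
non-principal character of the principal block would have degree at least twenty-two, as
`χ(t) ≡ χ(1)` modulo forty-four; the divisibilities of `|class of t| χ(t)` by `χ(1)` then
contradict the column orthogonality at `t`.
-/

set_option autoImplicit false
set_option linter.style.haveILetI false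
set_option linter.unusedSectionVars false

open Cfsg CfsgLib.Chars CfsgLib.CharApps CfsgLib.Blocks CfsgLib.Small

namespace CfsgLib.M12Order

universe u

/-- The signed degrees possible next to a central involution. -/
def bigSigned : Finset ℤ := {-32, 45, -54, -120, 144}

/-- A lower bound for the class size from the signed degrees occurring. -/
def classBound (i j l : ℕ) : ℕ :=
  Nat.lcm (if i = 0 then 1 else 8) (Nat.lcm (if j = 0 then 1 else 45) (if l = 0 then 1 else 27))

/-- A lower bound for the centralizer from the signed degrees occurring. -/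
def centBound (i j l m q : ℕ) : ℕ := 1 + 144 * i + j + 100 * l + 144 * m + 144 * q

section

set_option maxRecDepth 100000
set_option synthInstance.maxHeartbeats 100000
set_option synthInstance.maxSize 4096

theorem counts_arith : ∀ n ∈ ([1, 4, 10] : List ℕ), ∀ i < n + 1, ∀ j < n + 1 - i, ∀ l < n + 1 - (i + j),
    ∀ m < n + 1 - (i + j + l),
    ((n = 10 → 1 - 32 * (i : ℤ) + 45 * j - 54 * l - 120 * m + 144 * (n - (i + j + l + m) : ℕ) = 0) ∧
      (n ≠ 10 →
        22 ≤ (1 - 32 * (i : ℤ) + 45 * j - 54 * l - 120 * m + 144 * (n - (i + j + l + m) : ℕ)).natAbs ∧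
        (1 - 32 * (i : ℤ) + 45 * j - 54 * l - 120 * m + 144 * (n - (i + j + l + m) : ℕ)).natAbs
          ∣ 95040)) →
      95040 < classBound i j l * centBound i j l m (n - (i + j + l + m)) := by
  decide +kernel

theorem degree_list : ∀ d < (309 : ℕ), d ∣ 95040 → 22 ≤ d →
    (d % 11 = 1 → d = 45 ∨ d = 144) ∧ (d % 11 = 10 → d = 32 ∨ d = 54 ∨ d = 120) := by
  decide +kernel

theorem sylow_count_eleven : ∀ a < (786 : ℕ), 8640 % (11 * a + 1) = 0 →
    a = 0 ∨ a = 1 ∨ a = 4 ∨ a = 13 ∨ a = 29 ∨ a = 49 ∨ a = 157 := by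
  decide +kernel

end

theorem value_cases {d v : ℤ} {k : ℕ} (h4 : 4 ∣ d - v) (h11 : 11 ∣ v - d) (hlo : -d ≤ v)
    (hhi : v < d) (hk : d ∣ (k : ℤ) * v) :
    (d = 32 → 8 ∣ k ∧ 144 ≤ v ^ 2) ∧ (d = 45 → 45 ∣ k ∧ 1 ≤ v ^ 2) ∧
      (d = 54 → 27 ∣ k ∧ 100 ≤ v ^ 2) ∧ (d = 120 → 144 ≤ v ^ 2) ∧ (d = 144 → 144 ≤ v ^ 2) := by
  refine ⟨?_, ?_, ?_, ?_, ?_⟩ <;> rintro rfl
  · obtain rfl : v = -12 := by omega
    exact ⟨by omega, by norm_num⟩
  · obtain rfl | rfl : v = 1 ∨ v = -43 := by omega
    all_goals exact ⟨by omega, by norm_num⟩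
  · obtain rfl | rfl : v = 10 ∨ v = -34 := by omega
    all_goals exact ⟨by omega, by norm_num⟩
  · obtain h | h : v ≤ -12 ∨ 12 ≤ v := by omega
    all_goals nlinarith
  · obtain h | h : v ≤ -12 ∨ 12 ≤ v := by omega
    all_goals nlinarith

variable {G : Type u} [Group G] [Finite G] [IsSimpleGroup G] (hG : Nat.card G = 95040)

include hG

/-- The nonprincipal characters of the principal block next to a central involution. -/
theorem false_of_signed {t : G} (ht : t * t = 1) (ht1 : t ≠ 1)
    (hC11 : 11 ∣ Nat.card (cen t)) {M : Ideal AlgInt} (hM : IsPModular 11 M) {n : ℕ}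
    (hn : n = 1 ∨ n = 4 ∨ n = 10) (S : Finset (IrrCharacter G)) (hS : S.card = n)
    (hSB : ∀ χ ∈ S, χ ∈ principalBlock M G ∧ χ ≠ principal G) (s : IrrCharacter G → ℤ)
    (hs : ∀ χ ∈ S, (s χ = 1 ∨ s χ = -1) ∧
      (s χ * (charDegree (χ : G → ℂ) : ℤ) - 1) % 11 = 0) {T : ℤ}
    (hT : T = 1 + ∑ χ ∈ S, s χ * (charDegree (χ : G → ℂ) : ℤ))
    (hT0 : n = 10 → T = 0) (hT1 : n ≠ 10 → 22 ≤ T.natAbs ∧ T.natAbs ∣ 95040) : False := by
  classical
  haveI := Fintype.ofFinite G
  haveI := irrFintype G
  haveI := Fact.mk (show Nat.Prime 11 by norm_num)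
  haveI := hM.2.1.isPrime
  have hdata : ∀ χ : IrrCharacter G, ∃ m : ℤ, (m : ℂ) = (χ : G → ℂ) t := fun χ =>
    exists_int_apply_involution ht χ
  choose v hv using hdata
  set k := (cen t).index with hk
  set f : IrrCharacter G → ℤ := fun χ => s χ * (charDegree (χ : G → ℂ) : ℤ) with hf
  let g : ℤ → ℤ := fun c => if c = 45 then 1 else if c = -54 then 100 else 144
  have hper : ∀ χ ∈ S, f χ ∈ bigSigned ∧ g (f χ) ≤ v χ ^ 2 ∧ (f χ = -32 → 8 ∣ k) ∧
      (f χ = 45 → 45 ∣ k) ∧ (f χ = -54 → 27 ∣ k) := by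
    intro χ hχ
    obtain ⟨hB, hne⟩ := hSB χ hχ
    obtain ⟨hs1, hs2⟩ := hs χ hχ
    have hd1 : charDegree (χ : G → ℂ) ≠ 1 := fun h => hne (eq_principal hG h)
    obtain ⟨m, hm, h4, hlo, hhi⟩ := involution_value hG ht ht1 χ hd1
    have hmv : m = v χ := by exact_mod_cast hm.trans (hv χ).symm
    subst hmv
    have h11 := int_congr_of_principalBlock hM (not_sq_dvd_card hG (Or.inr rfl)) hB hC11 (hv χ)
    obtain ⟨hlt, hdvd, -⟩ := degree_facts hG χ
    have hkm := dvd_index_mul χ (hv χ)
    obtain ⟨k1, k2⟩ := degree_list _ hlt hdvd (by omega)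
    rw [← hk] at hkm
    obtain ⟨e32, e45, e54, e120, e144⟩ := value_cases h4 (by omega) hlo hhi hkm
    simp only [bigSigned, Finset.mem_insert, Finset.mem_singleton, g, hf]
    rcases hs1 with h | h <;> rw [h] at hs2 ⊢
    · rcases k1 (by omega) with e | e <;> rw [e]
      · obtain ⟨a1, a2⟩ := e45 (by omega)
        norm_num [a1, a2]
      · norm_num [e144 (by omega)]
    · rcases k2 (by omega) with e | e | e <;> rw [e]
      · obtain ⟨a1, a2⟩ := e32 (by omega)
        norm_num [a1, a2]
      · obtain ⟨a1, a2⟩ := e54 (by omega)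
        norm_num [a1, a2]
      · norm_num [e120 (by omega)]
  -- the counts
  set i := (S.filter fun χ => f χ = -32).card with hi
  set j := (S.filter fun χ => f χ = 45).card with hj
  set l := (S.filter fun χ => f χ = -54).card with hl
  set m := (S.filter fun χ => f χ = -120).card with hm
  set q := (S.filter fun χ => f χ = 144).card with hq
  have hsum : ∀ F : ℤ → ℤ, ∑ χ ∈ S, F (f χ) =
      i * F (-32) + (j * F 45 + (l * F (-54) + (m * F (-120) + q * F 144))) := by
    intro F
    rw [← Finset.sum_fiberwise_of_maps_to' (g := f) (t := bigSigned) (fun χ hχ => (hper χ hχ).1) F]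
    simp only [bigSigned, Finset.sum_const, nsmul_eq_mul]
    rw [Finset.sum_insert (by decide), Finset.sum_insert (by decide), Finset.sum_insert (by decide),
      Finset.sum_insert (by decide), Finset.sum_singleton]
  have hcount : i + (j + (l + (m + q))) = n := by
    have h := hsum fun _ => 1
    simp only [Finset.sum_const, nsmul_eq_mul, mul_one, hS] at h
    exact_mod_cast h.symm
  have hTc : T = 1 - 32 * (i : ℤ) + 45 * j - 54 * l - 120 * m + 144 * q := by
    have h := hsum fun c => c
    simp only [hf] at h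
    rw [hT, h]
    ring
  have hqe : q = n - (i + j + l + m) := by omega
  have hkey := counts_arith n (by rcases hn with h | h | h <;> simp [h]) i (by omega) j (by omega) l
    (by omega) m (by omega) (by rw [← hqe, ← hTc]; exact ⟨hT0, hT1⟩)
  rw [← hqe] at hkey
  have hsq : (centBound i j l m q : ℤ) ≤ Nat.card (cen t) := by
    have hprin : principal G ∉ S := fun h => (hSB _ h).2 rfl
    refine le_trans ?_ (sum_sq_le_card_cen (insert (principal G) S) v fun χ _ => hv χ)
    have h1 : v (principal G) = 1 := by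
      have h := hv (principal G)
      rw [principal_apply] at h
      exact_mod_cast h
    have h2 := hsum g
    rw [Finset.sum_insert hprin, h1]
    have h3 : ∑ χ ∈ S, g (f χ) ≤ ∑ χ ∈ S, v χ ^ 2 := Finset.sum_le_sum fun χ hχ => (hper χ hχ).2.1
    simp only [g] at h2
    norm_num at h2
    rw [centBound]
    push_cast
    simp only [g] at h3
    linarith
  have hdvdk : classBound i j l ∣ k := by
    have hmem : ∀ c, (S.filter fun χ => f χ = c).card ≠ 0 → ∃ χ ∈ S, f χ = c := fun c h => by
      obtain ⟨χ, hχ⟩ := Finset.card_pos.1 (Nat.pos_of_ne_zero h)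
      exact ⟨χ, (Finset.mem_filter.1 hχ).1, (Finset.mem_filter.1 hχ).2⟩
    refine Nat.lcm_dvd ?_ (Nat.lcm_dvd ?_ ?_) <;> split_ifs with h <;>
      first
        | exact one_dvd _
        | (obtain ⟨χ, hχ, e⟩ := hmem _ h
           have := hper χ hχ
           tauto)
  have hkC := index_mul_card_cen hG t
  have hk0 : 0 < k := Nat.pos_of_ne_zero (Subgroup.index_ne_zero_of_finite)
  have : classBound i j l * centBound i j l m q ≤ k * Nat.card (cen t) :=
    Nat.mul_le_mul (Nat.le_of_dvd hk0 hdvdk) (by exact_mod_cast hsq)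
  rw [hk] at this
  omega

/-- A Sylow subgroup of order eleven is self-centralizing with normalizer of order 55. -/
theorem sylow_eleven_data (P : Sylow 11 G) :
    Nat.card (P : Subgroup G) = 11 ∧
      Subgroup.centralizer ((P : Subgroup G) : Set G) = (P : Subgroup G) ∧
      Nat.card (Subgroup.normalizer ((P : Subgroup G) : Set G)) = 55 := by
  classical
  haveI := Fact.mk (show Nat.Prime 11 by norm_num)
  haveI := Fintype.ofFinite G
  have hn := nonabelian hG
  have hP : Nat.card (P : Subgroup G) = 11 := by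
    simpa using card_sylow_eq (p := 11) 1 8640 (by rw [hG]; rfl) (by norm_num) P
  obtain ⟨e, he1, hed, hce⟩ := exists_normalizer_centralizer hn P hP
  obtain ⟨c, hc⟩ := dvd_card_centralizer P hP
  have hmul := card_normalizer_mul P
  rw [← hce, hc, hG] at hmul
  set n := Nat.card (Sylow 11 G) with hndef
  have hnm : n % 11 = 1 := card_sylow_modEq_one 11 G
  have hnd : n ∣ 8640 := card_sylow_dvd (p := 11) 1 8640 (by rw [hG]; rfl) (by norm_num)
  have he10 : e = 2 ∨ e = 5 ∨ e = 10 := by
    have h := Nat.le_of_dvd (by norm_num) hed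
    norm_num at hed h
    interval_cases e <;> omega
  have hn1 : 1 < n := one_lt_card_sylow hn (by rw [hG]; norm_num)
  have hgood : (e = 5 ∧ c = 1) ∨ 2 ∣ c := by
    have hle := Nat.le_of_dvd (by norm_num) hnd
    have := sylow_count_eleven (n / 11) (by omega) (by
      rw [show 11 * (n / 11) + 1 = n by omega]; exact Nat.mod_eq_zero_of_dvd hnd)
    have hn' : n = 11 * (n / 11) + 1 := by omega
    rw [hn'] at hmul
    rcases he10 with rfl | rfl | rfl <;> rcases this with h | h | h | h | h | h | h <;>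
      rw [h] at hmul <;> omega
  rcases hgood with ⟨rfl, rfl⟩ | h2c
  · refine ⟨hP, (Subgroup.eq_of_le_of_card_ge ?_ (by rw [hc, hP])).symm, by rw [← hce, hc]⟩
    have hcyc : IsCyclic (P : Subgroup G) := isCyclic_of_prime_card hP
    haveI := hcyc.isMulCommutative
    exact Subgroup.le_centralizer (P : Subgroup G)
  exfalso
  obtain ⟨⟨t, htC⟩, hto⟩ := exists_prime_orderOf_dvd_card' (G := Subgroup.centralizer
    ((P : Subgroup G) : Set G)) 2 (by rw [hc]; exact h2c.mul_left 11)
  rw [Subgroup.orderOf_mk] at hto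
  have ht : t * t = 1 := by rw [← sq, ← hto, pow_orderOf_eq_one]
  have ht1 : t ≠ 1 := fun h => by rw [h, orderOf_one] at hto; omega
  have hdvdC : 11 ∣ Nat.card (cen t) := by
    rw [← hP]
    exact Subgroup.card_dvd_of_le fun y hy =>
      Subgroup.mem_centralizer_singleton_iff.2 (Subgroup.mem_centralizer_iff.1 htC y hy)
  obtain ⟨M, hM⟩ := CharApps.exists_pModular (p := 11)
  haveI := hM.2.1.isPrime
  have hrel' : (Subgroup.centralizer ((P : Subgroup G) : Set G)).relIndex
      (Subgroup.normalizer ((P : Subgroup G) : Set G)) = e := by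
    have hle : Subgroup.centralizer ((P : Subgroup G) : Set G) ≤
        Subgroup.normalizer ((P : Subgroup G) : Set G) := Subgroup.centralizer_le_normalizer _
    have h := Subgroup.relIndex_mul_relIndex _ _ _ bot_le hle
    rw [Subgroup.relIndex_bot_left, Subgroup.relIndex_bot_left, ← hce] at h
    exact Nat.eq_of_mul_eq_mul_left Nat.card_pos h
  obtain ⟨X, Y, σ, ε, hB, hdisj, hX, hY, hXp, hε, hYd, hYeq, hrel⟩ :=
    Small.O7920.exists_block_data (by norm_num) hM P hP hrel'
  -- no small degree
  have hbig : ∀ χ, χ ∈ principalBlock M G → charDegree (χ : G → ℂ) ≠ 1 →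
      22 ≤ charDegree (χ : G → ℂ) := by
    intro χ hχ h1
    obtain ⟨m, hm, h4, hlo, hhi⟩ := involution_value hG ht ht1 χ h1
    have h11 := int_congr_of_principalBlock hM (not_sq_dvd_card hG (Or.inr rfl)) hχ hdvdC hm
    omega
  obtain ⟨θ, hθ⟩ : Y.Nonempty :=
    Finset.card_pos.1 (by rw [hY]; rcases he10 with rfl | rfl | rfl <;> norm_num)
  have h1one : ¬ 11 ∣ orderOf (1 : G) := by rw [orderOf_one]; norm_num
  have hσp : ∀ h : principal G ∈ X, σ (principal G) = 1 := fun h => by
    have h' := (hXp _ h).2.1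
    rw [principal_degree hG, Int.modEq_iff_dvd] at h'
    rcases (hXp _ h).1 with h'' | h'' <;> rw [h''] at h' ⊢ <;> omega
  have hTeq : ε * (charDegree (θ : G → ℂ) : ℤ) =
      ∑ χ ∈ X, σ χ * (charDegree (χ : G → ℂ) : ℤ) := by
    have h := hrel θ hθ 1 h1one
    simp only [deg_eq] at h
    exact_mod_cast h
  obtain ⟨hθlt, hθd, hθ0⟩ := degree_facts hG θ
  have hθy := hYd θ hθ
  rw [Int.modEq_iff_dvd] at hθy
  have hXmod : ∀ χ ∈ X, (σ χ = 1 ∨ σ χ = -1) ∧
      (σ χ * (charDegree (χ : G → ℂ) : ℤ) - 1) % 11 = 0 := fun χ hχ => by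
    have h := (hXp χ hχ).2.1
    rw [Int.modEq_iff_dvd] at h
    exact ⟨(hXp χ hχ).1, by omega⟩
  by_cases hmemY : principal G ∈ Y
  · -- then there is only one exceptional character
    have he : e = 10 := by
      by_contra hne
      have hY2 : 1 < Y.card := by rw [hY]; rcases he10 with rfl | rfl | rfl <;> omega
      obtain ⟨a, ha, hane⟩ := Finset.exists_mem_ne hY2 (principal G)
      have h1 := hYeq a ha _ hmemY 1 h1one
      rw [deg_eq, principal_apply, Nat.cast_eq_one] at h1
      exact hane (eq_principal hG h1)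
    subst he
    have hY1 : θ = principal G := by
      obtain ⟨a, ha⟩ := Finset.card_eq_one.1 (show Y.card = 1 by rw [hY])
      rw [ha, Finset.mem_singleton] at hθ hmemY
      rw [hθ, ← hmemY]
    have hε1 : ε = -1 := by
      rw [hY1, principal_degree hG] at hθy
      rcases hε with h | h <;> rw [h] at hθy ⊢ <;> omega
    refine false_of_signed hG ht ht1 hdvdC hM (n := 10) (by omega) X hX ?_ σ hXmod (T := 0) ?_
      (fun _ => rfl) (fun h => absurd rfl h)
    · exact fun χ hχ => ⟨(hB χ).2 (Or.inl hχ), fun h =>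
        Finset.disjoint_left.1 hdisj hχ (h ▸ hmemY)⟩
    · rw [← hTeq, hε1, hY1, principal_degree hG]
      norm_num
  have hprin : principal G ∈ X :=
    ((hB _).1 (CfsgLib.Blocks.principal_mem_principalBlock M)).resolve_right hmemY
  have hθne : θ ≠ principal G := fun h => hmemY (h ▸ hθ)
  rw [← Finset.add_sum_erase _ _ hprin, hσp hprin, principal_degree hG] at hTeq
  have hX' : ∀ χ ∈ X.erase (principal G), χ ∈ principalBlock M G ∧ χ ≠ principal G := fun χ hχ =>
    ⟨(hB χ).2 (Or.inl (Finset.mem_of_mem_erase hχ)), Finset.ne_of_mem_erase hχ⟩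
  have hθX : θ ∉ X := fun h => Finset.disjoint_left.1 hdisj h hθ
  by_cases he : e = 10
  · subst he
    refine false_of_signed hG ht ht1 hdvdC hM (n := 10) (by omega) (insert θ (X.erase (principal G)))
      ?_ ?_ (fun χ => if χ = θ then -ε else σ χ) ?_ (T := 0) ?_ (fun _ => rfl)
      (fun h => absurd rfl h)
    · rw [Finset.card_insert_of_notMem (fun h => hθX (Finset.mem_of_mem_erase h)),
        Finset.card_erase_of_mem hprin, hX]
    · intro χ hχ
      rcases Finset.mem_insert.1 hχ with rfl | h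
      · exact ⟨(hB χ).2 (Or.inr hθ), hθne⟩
      · exact hX' χ h
    · intro χ hχ
      rcases Finset.mem_insert.1 hχ with rfl | h
      · rw [if_pos rfl]
        rcases hε with h' | h' <;> rw [h'] at hθy ⊢ <;> omega
      · rw [if_neg fun e : χ = θ => hθX (e ▸ Finset.mem_of_mem_erase h)]
        exact hXmod χ (Finset.mem_of_mem_erase h)
    · rw [Finset.sum_insert (fun h => hθX (Finset.mem_of_mem_erase h)), if_pos rfl,
        Finset.sum_congr rfl (g := fun χ => σ χ * (charDegree (χ : G → ℂ) : ℤ)) fun χ hχ => by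
          rw [if_neg fun e : χ = θ => hθX (e ▸ Finset.mem_of_mem_erase hχ)]]
      linear_combination hTeq
  · have hθ1 : charDegree (θ : G → ℂ) ≠ 1 := fun h => hθne (eq_principal hG h)
    refine false_of_signed hG ht ht1 hdvdC hM (n := e - 1) (by omega) (X.erase (principal G))
      (by rw [Finset.card_erase_of_mem hprin, hX]) hX' σ
      (fun χ hχ => hXmod χ (Finset.mem_of_mem_erase hχ))
      (T := ε * (charDegree (θ : G → ℂ) : ℤ)) (by rw [hTeq]; norm_num) (fun h => by omega) fun _ => ?_
    have habs : (ε * (charDegree (θ : G → ℂ) : ℤ)).natAbs = charDegree (θ : G → ℂ) := by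
      rcases hε with h | h <;> simp [h]
    rw [habs]
    exact ⟨hbig θ ((hB θ).2 (Or.inr hθ)) hθ1, hθd⟩

omit hG in
/-- Piece A. -/
theorem eleven : ElevenStmt.{u} := by
  intro G _ _ hs hG
  haveI := hs
  haveI := Fact.mk (show Nat.Prime 11 by norm_num)
  refine ⟨fun x hx => ?_, fun P => (sylow_eleven_data hG P).2.2⟩
  obtain ⟨P, hle⟩ := (IsPGroup.of_card (p := 11) (n := 1)
    (show Nat.card (Subgroup.zpowers x) = 11 ^ 1 by
      rw [Nat.card_zpowers, hx, pow_one])).exists_le_sylow
  obtain ⟨hP, hC, -⟩ := sylow_eleven_data hG P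
  have hPz : Subgroup.zpowers x = (P : Subgroup G) :=
    Subgroup.eq_of_le_of_card_ge hle (by rw [hP, Nat.card_zpowers, hx])
  have hCx : cen x = Subgroup.centralizer (Subgroup.zpowers x : Set G) := by
    rw [Subgroup.zpowers_eq_closure, Subgroup.centralizer_closure]
  rw [hCx, hPz, hC, hP]

end CfsgLib.M12Order
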