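import Cfsg.Agent.Lib.M12Order.Interface
import Cfsg.Agent.Lib.M12Nse.CentT

/-!
# Simple groups of order 95040: the identification

Two classes of involutions, and the elements of order three in the centralizer of the central one
have centralizers of order 54. The recognition by that centralizer then gives the Mathieu group.
-/

set_option autoImplicit false
set_option linter.style.haveILetI false
set_option linter.unusedSectionVars false

namespace CfsgLib.M12Order

open Cfsg CfsgLib.Chars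
open CfsgLib.M12Nse (mem_cen ord_conj unique_invol pairs_card card_split card_class orderOf_of_isConj
  card_commute_congr card_three_cen Invols)

universe u

variable {G : Type u} [Group G] [Finite G]

/-- In a group with cyclic centralizers of order ten at five, the involutions meeting five are
conjugate. -/
theorem conj_of_five (hG : Nat.card G = 95040) (h5 : LocalFive G) {a b : G} (ha : orderOf a = 2)
    (hb : orderOf b = 2) (ha5 : 5 ∣ Nat.card (cen a)) (hb5 : 5 ∣ Nat.card (cen b)) : IsConj a b := by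
  haveI : Fact (Nat.Prime 5) := ⟨by norm_num⟩
  obtain ⟨⟨y, hya⟩, hy⟩ := exists_prime_orderOf_dvd_card' 5 ha5
  obtain ⟨⟨z, hzb⟩, hz⟩ := exists_prime_orderOf_dvd_card' 5 hb5
  rw [Subgroup.orderOf_mk] at hy hz
  let Sy : ∀ w : G, orderOf w = 5 → Sylow 5 G := fun w hw => Sylow.ofCard (Subgroup.zpowers w) (by
    rw [Nat.card_zpowers, hw, hG, show 95040 = 5 ^ 1 * 19008 by norm_num,
      Nat.factorization_mul (by norm_num) (by norm_num), Nat.factorization_pow]
    simp [Nat.factorization_eq_zero_of_not_dvd (show ¬ 5 ∣ 19008 by norm_num),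
      Nat.Prime.factorization_self (show Nat.Prime 5 by norm_num)])
  obtain ⟨g, hg⟩ := MulAction.exists_smul_eq G (Sy y hy) (Sy z hz)
  have hmem : g * y * g⁻¹ ∈ Subgroup.zpowers z := by
    have h1 : g * y * g⁻¹ ∈ ((g • Sy y hy : Sylow 5 G) : Subgroup G) := by
      rw [Sylow.smul_def]
      exact Subgroup.mem_map_of_mem (MulAut.conj g).toMonoidHom
        (by rw [show ((Sy y hy : Sylow 5 G) : Subgroup G) = Subgroup.zpowers y from Sylow.coe_ofCard _ _]
            exact Subgroup.mem_zpowers y)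
    rw [hg, show ((Sy z hz : Sylow 5 G) : Subgroup G) = Subgroup.zpowers z from Sylow.coe_ofCard _ _] at h1
    exact h1
  have hzp : Subgroup.zpowers (g * y * g⁻¹) = Subgroup.zpowers z :=
    Subgroup.eq_of_le_of_card_ge (Subgroup.zpowers_le.2 hmem)
      (by rw [Nat.card_zpowers, Nat.card_zpowers, hz, ord_conj, hy])
  obtain ⟨k, hk⟩ := Subgroup.mem_zpowers_iff.1 (hzp ▸ Subgroup.mem_zpowers z)
  have hcomm : Commute (g * a * g⁻¹) z := by
    rw [← hk]
    exact ((show Commute a y from (mem_cen.1 hya).symm).map (MulAut.conj g).toMonoidHom).zpow_right k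
  refine isConj_iff.2 ⟨g, ?_⟩
  exact unique_invol (p := 5) ⟨2, rfl⟩ (h5.cent z hz) hz hb (mem_cen.2 rfl)
    (mem_cen.2 (mem_cen.1 hzb).symm) (mem_cen.1 hzb).symm (mem_cen.2 hcomm.eq)
    ((ord_conj g a).trans ha)

/-- Two possible columns are never orthogonal. -/
theorem spec15_colT : ∀ v ∈ spec15.colT, ∀ w ∈ spec15.colT, ∑ i, v i * w i ≠ 0 := by
  decide +kernel

theorem spec13_colT : ∀ v ∈ spec13.colT, ∀ w ∈ spec13.colT, ∑ i, v i * w i ≠ 0 := by
  decide +kernel

/-- The involutions not meeting five form one class. -/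
theorem conj_of_not_five {S : Spec} (C : Chars G S)
    (hne : ∀ v ∈ S.colT, ∀ w ∈ S.colT, ∑ i, v i * w i ≠ 0) {a b : G} (ha : orderOf a = 2)
    (hb : orderOf b = 2) (ha5 : ¬ 5 ∣ Nat.card (cen a)) (hb5 : ¬ 5 ∣ Nat.card (cen b)) :
    IsConj a b := by
  classical
  haveI := irrFintype G
  obtain ⟨-, v, hv, hva⟩ := C.invol_other a ha ha5
  obtain ⟨-, w, hw, hwb⟩ := C.invol_other b hb hb5
  by_contra h
  have h1 := second_orthogonality (G := G) a b
  rw [if_neg fun h' => h h'.symm, ← Equiv.sum_comp C.c] at h1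
  simp only [hva, hwb, map_intCast] at h1
  exact hne v hv w hw (by exact_mod_cast h1)

/-- At most nine involutions in a group of order 36 with a central element of order three. -/
theorem card_invol_le {D : Type u} [Group D] [Finite D] (hD : Nat.card D = 36) {z : D}
    (hz : orderOf z = 3) (hzc : ∀ d, Commute d z) : Nat.card {i : D // orderOf i = 2} ≤ 9 := by
  classical
  haveI : Fact (Nat.Prime 3) := ⟨Nat.prime_three⟩
  obtain ⟨P⟩ := (inferInstance : Nonempty (Sylow 3 D))
  have hP : Nat.card (P : Subgroup D) = 9 :=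
    (CfsgLib.Small.card_sylow_eq 2 4 (by rw [hD]; norm_num) (by norm_num) P).trans (by norm_num)
  let f : {i : D // orderOf i = 2} × Subgroup.zpowers z → {d : D // d ∉ (P : Subgroup D)} := fun p =>
    ⟨p.1.1 * p.2.1, fun hmem => by
      have hc : Commute p.1.1 p.2.1 := by
        obtain ⟨k, hk⟩ := Subgroup.mem_zpowers_iff.1 p.2.2
        rw [← hk]; exact (hzc p.1.1).zpow_right k
      have ho : orderOf p.2.1 ∣ 3 := hz ▸ orderOf_dvd_of_mem_zpowers p.2.2
      have hcop : (orderOf p.1.1).Coprime (orderOf p.2.1) := by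
        rw [p.1.2]; exact Nat.Coprime.coprime_dvd_right ho (by norm_num)
      have h2 : 2 ∣ orderOf (p.1.1 * p.2.1) := by
        rw [hc.orderOf_mul_eq_mul_orderOf_of_coprime hcop, p.1.2]; exact dvd_mul_right _ _
      have h9 := h2.trans (Subgroup.orderOf_dvd_natCard _ hmem)
      rw [hP] at h9
      omega⟩
  have hf : Function.Injective f := by
    rintro ⟨⟨i, hi⟩, w, hw⟩ ⟨⟨j, hj⟩, w', hw'⟩ h
    have h' : i * w = j * w' := congrArg Subtype.val h
    have hc : ∀ (a x : D), x ∈ Subgroup.zpowers z → Commute a x := fun a x hx => by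
      obtain ⟨k, rfl⟩ := Subgroup.mem_zpowers_iff.1 hx
      exact (hzc a).zpow_right k
    have hcube : ∀ (a x : D), orderOf a = 2 → x ∈ Subgroup.zpowers z → (a * x) ^ 3 = a := by
      intro a x ha hx
      have ha2 : a ^ 2 = 1 := by rw [← ha]; exact pow_orderOf_eq_one a
      have hx3 : x ^ 3 = 1 := orderOf_dvd_iff_pow_eq_one.1 (hz ▸ orderOf_dvd_of_mem_zpowers hx)
      rw [(hc a x hx).mul_pow, hx3, mul_one, pow_succ, ha2, one_mul]
    obtain rfl : i = j := by rw [← hcube i w hi hw, h', hcube j w' hj hw']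
    obtain rfl : w = w' := mul_left_cancel h'
    rfl
  have h1 := Nat.card_le_card_of_injective f hf
  rw [Nat.card_prod, Nat.card_zpowers, hz] at h1
  have h2 := card_split (fun _ : D => True) (fun d => d ∈ (P : Subgroup D))
  rw [Nat.card_congr (Equiv.subtypeUnivEquiv fun _ => trivial), hD,
    Nat.card_congr (Equiv.subtypeEquivRight (p := fun d => True ∧ d ∈ (P : Subgroup D)) (q := fun d => d ∈ (P : Subgroup D)) fun d => by simp),
    Nat.card_congr (Equiv.subtypeEquivRight (p := fun d => True ∧ d ∉ (P : Subgroup D)) (q := fun d => d ∉ (P : Subgroup D)) fun d => by simp),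
    show Nat.card {d : D // d ∈ (P : Subgroup D)} = 9 from hP] at h2
  omega

/-- Nine conjugate involutions in a centralizer of order 54. -/
theorem invol_in_54 {z : G} (hz : orderOf z = 3) (hC : Nat.card (cen z) = 54)
    (h6 : ∀ i : G, orderOf i = 2 → i * z = z * i → Nat.card (cen i ⊓ cen z : Subgroup G) = 6) :
    ∃ i : G, orderOf i = 2 ∧ i * z = z * i ∧
      Nat.card {b : G // orderOf b = 2 ∧ b * z = z * b} = 9 ∧
      ∀ b : G, orderOf b = 2 → b * z = z * b → IsConj i b := by
  classical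
  haveI : Fact (Nat.Prime 2) := ⟨Nat.prime_two⟩
  obtain ⟨i, hi⟩ := exists_prime_orderOf_dvd_card' (G := cen z) 2 (by rw [hC]; norm_num)
  have hiG : orderOf (i : G) = 2 := (Subgroup.orderOf_coe i).trans hi
  have hiz : (i : G) * z = z * i := mem_cen.1 i.2
  -- all involutions are conjugate in the centralizer
  have hconj : ∀ b : cen z, orderOf b = 2 → IsConj i b := by
    intro b hb
    let Sy : ∀ w : cen z, orderOf w = 2 → Sylow 2 (cen z) := fun w hw =>
      Sylow.ofCard (Subgroup.zpowers w) (by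
        rw [Nat.card_zpowers, hw, hC, show 54 = 2 ^ 1 * 27 by norm_num,
          Nat.factorization_mul (by norm_num) (by norm_num), Nat.factorization_pow]
        simp [Nat.factorization_eq_zero_of_not_dvd (show ¬ 2 ∣ 27 by norm_num),
          Nat.Prime.factorization_self Nat.prime_two])
    obtain ⟨g, hg⟩ := MulAction.exists_smul_eq (cen z) (Sy i hi) (Sy b hb)
    have h1 : g * i * g⁻¹ ∈ ((g • Sy i hi : Sylow 2 (cen z)) : Subgroup (cen z)) := by
      rw [Sylow.smul_def]
      exact Subgroup.mem_map_of_mem (MulAut.conj g).toMonoidHom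
        (by rw [show ((Sy i hi : Sylow 2 _) : Subgroup (cen z)) = Subgroup.zpowers i from Sylow.coe_ofCard _ _]
            exact Subgroup.mem_zpowers i)
    rw [hg, show ((Sy b hb : Sylow 2 _) : Subgroup (cen z)) = Subgroup.zpowers b from Sylow.coe_ofCard _ _,
      mem_zpowers_iff_mem_range_orderOf, hb, Finset.mem_image] at h1
    obtain ⟨j, hj, hj'⟩ := h1
    rw [Finset.mem_range] at hj
    refine isConj_iff.2 ⟨g, ?_⟩
    interval_cases j
    · rw [pow_zero] at hj'
      have := (ord_conj g i).trans hi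
      rw [← hj', orderOf_one] at this
      omega
    · rw [← hj', pow_one]
  refine ⟨i, hiG, hiz, ?_, fun b hb hbz => ?_⟩
  · have h := card_class (G := cen z) i
    rw [hC, show Nat.card (CfsgLib.M12Nse.cen i) = 6 by
      rw [← h6 i hiG hiz]
      exact Nat.card_congr
        { toFun := fun w => ⟨w.1.1, mem_cen.2 (congrArg Subtype.val (mem_cen.1 w.2) :), w.1.2⟩
          invFun := fun w => ⟨⟨w.1, w.2.2⟩, mem_cen.2 (Subtype.ext (mem_cen.1 w.2.1))⟩
          left_inv := fun w => rfl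
          right_inv := fun w => rfl }] at h
    have h' : Nat.card {b : cen z // IsConj i b} = 9 := by omega
    rw [← h']
    exact Nat.card_congr
      { toFun := fun b => ⟨⟨b.1, mem_cen.2 b.2.2⟩, hconj _ (by rw [← Subgroup.orderOf_coe]; exact b.2.1)⟩
        invFun := fun b => ⟨b.1.1, by rw [Subgroup.orderOf_coe]; exact (orderOf_of_isConj b.2).trans hi,
          mem_cen.1 b.1.2⟩
        left_inv := fun b => rfl
        right_inv := fun b => rfl }
  · obtain ⟨g, hg⟩ := isConj_iff.1 (hconj ⟨b, mem_cen.2 hbz⟩ (by rw [← Subgroup.orderOf_coe]; exact hb))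
    exact isConj_iff.2 ⟨g, congrArg Subtype.val hg⟩

/-- The intersection of two centralizers has order six. -/
theorem card_inter_six {i z : G} {N m : ℕ} (hi : orderOf i = 2) (hz : orderOf z = 3)
    (hiz : i * z = z * i) (hCi : Nat.card (cen i) = N) (hCz : Nat.card (cen z) = m)
    (h : Nat.gcd N m ≤ 6) : Nat.card (cen i ⊓ cen z : Subgroup G) = 6 := by
  have hd : Nat.card (cen i ⊓ cen z : Subgroup G) ∣ Nat.gcd N m :=
    Nat.dvd_gcd (hCi ▸ Subgroup.card_dvd_of_le inf_le_left) (hCz ▸ Subgroup.card_dvd_of_le inf_le_right)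
  have hmem : i * z ∈ cen i ⊓ cen z :=
    ⟨mul_mem (mem_cen.2 rfl) (mem_cen.2 hiz.symm), mul_mem (mem_cen.2 hiz) (mem_cen.2 rfl)⟩
  have h6 := Subgroup.orderOf_dvd_natCard _ hmem
  rw [(show Commute i z from hiz).orderOf_mul_eq_mul_orderOf_of_coprime (by rw [hi, hz]; norm_num), hi, hz] at h6
  have hpos : 0 < Nat.gcd N m := Nat.gcd_pos_of_pos_left _ (hCi ▸ Nat.card_pos)
  have h7 := Nat.le_of_dvd Nat.card_pos h6
  have h8 := Nat.le_of_dvd hpos hd
  omega

theorem cent_three_arith {n n' a b c d : ℕ} (hn : n ∣ 80) (hn' : n' ∣ 64) (h1 : n % 3 = 1)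
    (h1' : n' % 3 = 1) (hU : 396 * (2 * n) = 2640 * a + 1760 * b)
    (hT : 495 * (2 * n') = 2640 * c + 1760 * d) (hac : a + c ≤ 9)
    (hbd : (b = 9 ∧ d = 0) ∨ (b = 0 ∧ d = 9)) : c = 0 ∧ d = 9 := by
  have hn80 := Nat.le_of_dvd (by norm_num) hn
  have hn64 := Nat.le_of_dvd (by norm_num) hn'
  have key : ∀ m < 81, m ∣ 80 → m % 3 = 1 → m ∈ [1, 4, 10, 16, 40] := by decide +kernel
  have key' : ∀ m < 65, m ∣ 64 → m % 3 = 1 → m ∈ [1, 4, 16, 64] := by decide +kernel
  have h := key n (by omega) hn h1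
  have h' := key' n' (by omega) hn' h1'
  simp only [List.mem_cons, List.not_mem_nil, or_false] at h h'
  omega

/-- The two classes of involutions and the elements of order three at the central one. -/
theorem exists_invols (hG : Nat.card G = 95040) (h5 : LocalFive G) {S : Spec} (C : Chars G S)
    (hne : ∀ v ∈ S.colT, ∀ w ∈ S.colT, ∑ i, v i * w i ≠ 0) (h3 : LocalThree G) :
    ∃ u t : G, Invols u t := by
  classical
  haveI : Fact (Nat.Prime 2) := ⟨Nat.prime_two⟩
  haveI : Fact (Nat.Prime 3) := ⟨Nat.prime_three⟩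
  haveI : Fact (Nat.Prime 5) := ⟨by norm_num⟩
  obtain ⟨y, hy⟩ := exists_prime_orderOf_dvd_card' (G := G) 5 (by rw [hG]; norm_num)
  obtain ⟨⟨u, huy⟩, hu⟩ := exists_prime_orderOf_dvd_card' (G := cen y) 2
    (by rw [h5.cent y hy]; norm_num)
  rw [Subgroup.orderOf_mk] at hu
  have hu5 : 5 ∣ Nat.card (cen u) :=
    hy ▸ Subgroup.orderOf_dvd_natCard _ (mem_cen.2 (mem_cen.1 huy).symm : y ∈ cen u)
  have hcu := (C.invol_five u hu hu5).1
  obtain ⟨t, ht, ht5⟩ : ∃ t : G, orderOf t = 2 ∧ ¬ 5 ∣ Nat.card (cen t) := by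
    obtain ⟨P⟩ := (inferInstance : Nonempty (Sylow 2 G))
    have hP : Nat.card (P : Subgroup G) = 2 ^ 6 :=
      CfsgLib.Small.card_sylow_eq 6 1485 (by rw [hG]; norm_num) (by norm_num) P
    haveI : Nontrivial (P : Subgroup G) := by rw [← Finite.one_lt_card_iff_nontrivial, hP]; norm_num
    haveI := P.2.center_nontrivial
    obtain ⟨w, hw⟩ := exists_prime_orderOf_dvd_card' (G := Subgroup.center (P : Subgroup G)) 2 (by
      obtain ⟨k, hk⟩ := IsPGroup.iff_card.1 (P.2.to_subgroup (Subgroup.center (P : Subgroup G)))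
      have h1 := Finite.one_lt_card (α := Subgroup.center (P : Subgroup G))
      rw [hk] at h1 ⊢
      rcases k with _ | k
      · simp at h1
      · exact dvd_pow_self 2 k.succ_ne_zero)
    rw [← Subgroup.orderOf_coe, ← Subgroup.orderOf_coe] at hw
    refine ⟨((w : (P : Subgroup G)) : G), hw, fun h => ?_⟩
    have h64 : 64 ∣ Nat.card (cen ((w : (P : Subgroup G)) : G)) := by
      rw [show 64 = Nat.card (P : Subgroup G) by rw [hP]; norm_num]
      exact Subgroup.card_dvd_of_le fun x hx => mem_cen.2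
        (congrArg Subtype.val (Subgroup.mem_center_iff.1 w.2 ⟨x, hx⟩) :)
    have := (C.invol_five _ hw h).1
    omega
  have hct := (C.invol_other t ht ht5).1
  have hnc : ¬ IsConj u t := fun h => by
    obtain ⟨g, hg⟩ := isConj_iff.1 h
    have := CfsgLib.M12Nse.card_cen_conj g u
    rw [hg] at this
    rw [this, hcu] at hct
    omega
  have hcls : ∀ a : G, orderOf a = 2 → IsConj u a ∨ IsConj t a := fun a ha => by
    by_cases h : 5 ∣ Nat.card (cen a)
    · exact Or.inl (conj_of_five hG h5 hu ha hu5 h)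
    · exact Or.inr (conj_of_not_five C hne ht ha ht5 h)
  have hcen : ∀ a : G, orderOf a = 2 → Nat.card (cen a) = 240 ∨ Nat.card (cen a) = 192 := fun a ha => by
    by_cases h : 5 ∣ Nat.card (cen a)
    · exact Or.inl (C.invol_five a ha h).1
    · exact Or.inr (C.invol_other a ha h).1
  have h6 : ∀ z : G, orderOf z = 3 → Nat.card (cen z) = 54 → ∀ i : G, orderOf i = 2 → i * z = z * i →
      Nat.card (cen i ⊓ cen z : Subgroup G) = 6 := fun z hz hC i hi hiz => by
    rcases hcen i hi with h | h <;>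
      exact card_inter_six hi hz hiz h hC (by norm_num)
  -- an element of order three with centralizer of order 54
  obtain ⟨z₁, hz₁, hC₁⟩ : ∃ z : G, orderOf z = 3 ∧ Nat.card (cen z) = 54 := by
    obtain ⟨P⟩ := (inferInstance : Nonempty (Sylow 3 G))
    have hP : Nat.card (P : Subgroup G) = 3 ^ 3 :=
      CfsgLib.Small.card_sylow_eq 3 3520 (by rw [hG]; norm_num) (by norm_num) P
    haveI : Nontrivial (P : Subgroup G) := by rw [← Finite.one_lt_card_iff_nontrivial, hP]; norm_num
    haveI := P.2.center_nontrivial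
    obtain ⟨w, hw⟩ := exists_prime_orderOf_dvd_card' (G := Subgroup.center (P : Subgroup G)) 3 (by
      obtain ⟨k, hk⟩ := IsPGroup.iff_card.1 (P.2.to_subgroup (Subgroup.center (P : Subgroup G)))
      have h1 := Finite.one_lt_card (α := Subgroup.center (P : Subgroup G))
      rw [hk] at h1 ⊢
      rcases k with _ | k
      · simp at h1
      · exact dvd_pow_self 3 k.succ_ne_zero)
    rw [← Subgroup.orderOf_coe, ← Subgroup.orderOf_coe] at hw
    refine ⟨((w : (P : Subgroup G)) : G), hw, (h3.card _ hw).resolve_left fun h => ?_⟩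
    have h27 : 27 ∣ Nat.card (cen ((w : (P : Subgroup G)) : G)) := by
      rw [show 27 = Nat.card (P : Subgroup G) by rw [hP]; norm_num]
      exact Subgroup.card_dvd_of_le fun x hx => mem_cen.2
        (congrArg Subtype.val (Subgroup.mem_center_iff.1 w.2 ⟨x, hx⟩) :)
    rw [h] at h27
    omega
  obtain ⟨i₁, hi₁, hiz₁, hN₁, hconj₁⟩ := invol_in_54 hz₁ hC₁ (h6 z₁ hz₁ hC₁)
  -- counting commuting pairs
  let k : G → G → ℕ := fun v z => Nat.card {b : G // IsConj v b ∧ b * z = z * b}
  have hinv : ∀ v g b : G, IsConj v (g * b * g⁻¹) ↔ IsConj v b := fun v g b =>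
    ⟨fun h => h.trans (isConj_iff.2 ⟨g, rfl⟩).symm, fun h => h.trans (isConj_iff.2 ⟨g, rfl⟩)⟩
  have hk : ∀ v z z' : G, orderOf z = 3 → orderOf z' = 3 → Nat.card (cen z) = Nat.card (cen z') →
      k v z' = k v z := fun v z z' hz hz' h => card_commute_congr (hinv v) (h3.conj z z' hz hz' h)
  have hsize : ∀ z : G, orderOf z = 3 → ∀ m, Nat.card (cen z) = m →
      Nat.card {w : G // orderOf w = 3 ∧ Nat.card (cen w) = m} * m = 95040 := by
    intro z hz m hm
    rw [← hG, ← card_class z, show Nat.card (CfsgLib.M12Nse.cen z) = m from hm]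
    refine congrArg (· * m) (Nat.card_congr (Equiv.subtypeEquivRight fun w => ?_))
    refine ⟨fun h => h3.conj z w hz h.1 (hm.trans h.2.symm), fun h => ?_⟩
    obtain ⟨g, rfl⟩ := isConj_iff.1 h
    exact ⟨(ord_conj g z).trans hz, (CfsgLib.M12Nse.card_cen_conj g z).trans hm⟩
  obtain ⟨q, hq, hq36⟩ : ∃ q : G → ℕ, (∀ v, ∀ z : G, orderOf z = 3 → Nat.card (cen z) = 36 → k v z = q v) ∧
      ∀ v, Nat.card {p : G × G // (orderOf p.1 = 3 ∧ Nat.card (cen p.1) = 36) ∧ IsConj v p.2 ∧
        p.2 * p.1 = p.1 * p.2} = 2640 * q v := by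
    by_cases hex : ∃ z : G, orderOf z = 3 ∧ Nat.card (cen z) = 36
    · obtain ⟨z₀, hz₀, hC₀⟩ := hex
      refine ⟨fun v => k v z₀, fun v z hz hC => hk v z₀ z hz₀ hz (hC₀.trans hC.symm), fun v => ?_⟩
      rw [pairs_card (P := fun w : G => orderOf w = 3 ∧ Nat.card (cen w) = 36) (Q := fun b => IsConj v b)
        (R := fun a b => b * a = a * b) (k := k v z₀)
        fun w hw => hk v z₀ w hz₀ hw.1 (hC₀.trans hw.2.symm)]
      have := hsize z₀ hz₀ 36 hC₀
      rw [show Nat.card {w : G // orderOf w = 3 ∧ Nat.card (cen w) = 36} = 2640 by omega]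
    · refine ⟨fun _ => 0, fun v z hz hC => absurd ⟨z, hz, hC⟩ hex, fun v => ?_⟩
      haveI : IsEmpty {p : G × G // (orderOf p.1 = 3 ∧ Nat.card (cen p.1) = 36) ∧ IsConj v p.2 ∧
        p.2 * p.1 = p.1 * p.2} := ⟨fun p => hex ⟨p.1.1, p.2.1⟩⟩
      rw [Nat.card_of_isEmpty, mul_zero]
  have hcount : ∀ v : G, Nat.card {b : G // IsConj v b} * Nat.card {w : G // orderOf w = 3 ∧ w * v = v * w}
      = 2640 * q v + 1760 * k v z₁ := by
    intro v
    rw [← pairs_card (P := fun a => IsConj v a) (Q := fun w => orderOf w = 3)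
      (R := fun a w => w * a = a * w) fun a ha => card_commute_congr (fun g w => by rw [ord_conj]) ha]
    rw [card_split _ fun p : G × G => Nat.card (cen p.2) = 36, ← hq36 v]
    refine congr_arg₂ (· + ·) (Nat.card_congr ((Equiv.prodComm G G).subtypeEquiv fun p => ?_)) ?_
    · show (IsConj v p.1 ∧ orderOf p.2 = 3 ∧ p.2 * p.1 = p.1 * p.2) ∧ Nat.card (cen p.2) = 36 ↔
        (orderOf p.2 = 3 ∧ Nat.card (cen p.2) = 36) ∧ IsConj v p.1 ∧ p.1 * p.2 = p.2 * p.1
      exact ⟨fun h => ⟨⟨h.1.2.1, h.2⟩, h.1.1, h.1.2.2.symm⟩, fun h => ⟨⟨h.2.1, h.1.1, h.2.2.symm⟩, h.1.2⟩⟩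
    · have h54 := hsize z₁ hz₁ 54 hC₁
      rw [← show Nat.card {w : G // orderOf w = 3 ∧ Nat.card (cen w) = 54} = 1760 by omega,
        ← pairs_card (P := fun w : G => orderOf w = 3 ∧ Nat.card (cen w) = 54) (Q := fun b => IsConj v b)
          (R := fun a b => b * a = a * b) (k := k v z₁)
          fun w hw => hk v z₁ w hz₁ hw.1 (hC₁.trans hw.2.symm)]
      refine Nat.card_congr ((Equiv.prodComm G G).subtypeEquiv fun p => ?_)
      show (IsConj v p.1 ∧ orderOf p.2 = 3 ∧ p.2 * p.1 = p.1 * p.2) ∧ ¬ Nat.card (cen p.2) = 36 ↔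
        (orderOf p.2 = 3 ∧ Nat.card (cen p.2) = 54) ∧ IsConj v p.1 ∧ p.1 * p.2 = p.2 * p.1
      exact ⟨fun h => ⟨⟨h.1.2.1, (h3.card _ h.1.2.1).resolve_left h.2⟩, h.1.1, h.1.2.2.symm⟩,
        fun h => ⟨⟨h.2.1, h.1.1, h.2.2.symm⟩, by rw [h.1.2]; norm_num⟩⟩
  obtain ⟨n, hn, hn3, hA⟩ := card_three_cen (v := u) (a := 1) (m := 80)
    (by show Nat.card (cen u) = _; rw [hcu]; norm_num) rfl (by norm_num)
  obtain ⟨n', hn', hn3', hB⟩ := card_three_cen (v := t) (a := 1) (m := 64)
    (by show Nat.card (cen t) = _; rw [hct]; norm_num) rfl (by norm_num)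
  have hU : Nat.card {b : G // IsConj u b} = 396 := by
    have := card_class u
    rw [show Nat.card (CfsgLib.M12Nse.cen u) = 240 from hcu, hG] at this
    omega
  have hT : Nat.card {b : G // IsConj t b} = 495 := by
    have := card_class t
    rw [show Nat.card (CfsgLib.M12Nse.cen t) = 192 from hct, hG] at this
    omega
  have eU := hcount u
  have eT := hcount t
  rw [hU, hA] at eU
  rw [hT, hB] at eT
  have hac : q u + q t ≤ 9 := by
    by_cases hex : ∃ z : G, orderOf z = 3 ∧ Nat.card (cen z) = 36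
    · obtain ⟨z, hz, hC⟩ := hex
      rw [← hq u z hz hC, ← hq t z hz hC]
      refine le_trans ?_ (card_invol_le (D := cen z) hC (z := ⟨z, mem_cen.2 rfl⟩)
        (by rw [Subgroup.orderOf_mk]; exact hz) fun d => Subtype.ext (mem_cen.1 d.2))
      rw [← Nat.card_sum]
      refine Nat.card_le_card_of_injective (Sum.elim
        (fun b : {b : G // IsConj u b ∧ b * z = z * b} => (⟨⟨b.1, mem_cen.2 b.2.2⟩,
          by rw [Subgroup.orderOf_mk]; exact (orderOf_of_isConj b.2.1).trans hu⟩ : {i : cen z // orderOf i = 2}))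
        (fun b : {b : G // IsConj t b ∧ b * z = z * b} => ⟨⟨b.1, mem_cen.2 b.2.2⟩,
          by rw [Subgroup.orderOf_mk]; exact (orderOf_of_isConj b.2.1).trans ht⟩)) ?_
      rintro (b | b) (b' | b') h <;> have h' := congrArg (fun w => ((w.1 : cen z) : G)) h <;>
        simp only [Sum.elim_inl, Sum.elim_inr] at h'
      · exact congrArg Sum.inl (Subtype.ext h')
      · exact absurd (b.2.1.trans (h' ▸ b'.2.1.symm)) hnc
      · exact absurd (b'.2.1.trans (h'.symm ▸ b.2.1.symm)) hnc
      · exact congrArg Sum.inr (Subtype.ext h')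
    · have h0 : ∀ v, q v = 0 := fun v => by
        have hv := hq36 v
        haveI : IsEmpty {p : G × G // (orderOf p.1 = 3 ∧ Nat.card (cen p.1) = 36) ∧ IsConj v p.2 ∧
          p.2 * p.1 = p.1 * p.2} := ⟨fun p => hex ⟨p.1.1, p.2.1⟩⟩
        rw [Nat.card_of_isEmpty] at hv
        omega
      rw [h0, h0]; norm_num
  have hbd : (k u z₁ = 9 ∧ k t z₁ = 0) ∨ (k u z₁ = 0 ∧ k t z₁ = 9) := by
    have hall : ∀ v, orderOf v = 2 → IsConj v i₁ → k v z₁ = 9 := fun v hv h => hN₁ ▸
      Nat.card_congr (Equiv.subtypeEquivRight fun b =>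
        ⟨fun hb => ⟨(orderOf_of_isConj hb.1).trans hv, hb.2⟩,
          fun hb => ⟨h.trans (hconj₁ b hb.1 hb.2), hb.2⟩⟩)
    have hnone : ∀ v, orderOf v = 2 → ¬ IsConj v i₁ → k v z₁ = 0 := fun v hv h => by
      haveI : IsEmpty {b : G // IsConj v b ∧ b * z₁ = z₁ * b} := ⟨fun b =>
        h (b.2.1.trans (hconj₁ b.1 ((orderOf_of_isConj b.2.1).trans hv) b.2.2).symm)⟩
      exact Nat.card_of_isEmpty
    rcases hcls i₁ hi₁ with h | h
    · exact Or.inl ⟨hall u hu h, hnone t ht fun h' => hnc (h.trans h'.symm)⟩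
    · exact Or.inr ⟨hnone u hu fun h' => hnc (h'.trans h.symm), hall t ht h⟩
  obtain ⟨hq0, -⟩ := cent_three_arith hn hn' hn3 hn3' eU eT hac hbd
  refine ⟨u, t, ⟨hu, ht, hcu, hct, hnc, hcls, fun w hw hwt => ?_⟩⟩
  refine h6 w hw ((h3.card w hw).resolve_left fun h36 => ?_) t ht hwt.symm
  have h0 := hq t w hw h36
  rw [hq0] at h0
  haveI : Nonempty {b : G // IsConj t b ∧ b * w = w * b} := ⟨⟨t, IsConj.refl t, hwt.symm⟩⟩
  exact absurd h0 Nat.card_pos.ne'

/-- Piece F. -/
theorem ident : EndStmt.{u} := by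
  intro G _ _ hs hG _ h5 hC h3
  rcases hC with ⟨⟨C⟩⟩ | ⟨⟨C⟩⟩
  · obtain ⟨u, t, I⟩ := exists_invols hG h5 C spec15_colT h3
    exact CfsgLib.M12Nse.iso_of_invols hs hG I
  · obtain ⟨u, t, I⟩ := exists_invols hG h5 C spec13_colT h3
    exact CfsgLib.M12Nse.iso_of_invols hs hG I

end CfsgLib.M12Order
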