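import Cfsg.Agent.Lib.M12Order.FiveEvenTools
import Cfsg.Agent.Lib.Small.Order7920

/-!
# Simple groups of order 95040: the structure at five, when five-centralizers have even order

Write `c` for `|C(y)| / 5`.  The characters of degree 54 have `3`-defect zero, so their value at
`y` is divisible by the `3`-part of `c`; with the value `1 - a + β` of the exceptional characters
of the block at eleven, the column of `y` (or of `y u`) then leaves only `c = 2`.
-/

set_option autoImplicit false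
set_option linter.style.haveILetI false
set_option linter.unusedSectionVars false

open Cfsg CfsgLib.Chars CfsgLib.CharApps CfsgLib.Blocks CfsgLib.Small

namespace CfsgLib.M12Order.FiveEven

universe u

variable {G : Type u} [Group G] [Finite G]

section

variable [IsSimpleGroup G] (hG : Nat.card G = 95040) (h11 : LocalEleven G) (T : Table G)
  (hmain : T.list = mainTable)

include hG h11 hmain

theorem not_eleven_dvd {y g : G} (hy : orderOf y = 5) (hc : Commute g y) : ¬ 11 ∣ orderOf g := by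
  intro h
  have hx : orderOf (g ^ (orderOf g / 11)) = 11 :=
    orderOf_pow_orderOf_div (orderOf_pos g).ne' h
  have hd := Subgroup.orderOf_dvd_natCard (cen (g ^ (orderOf g / 11)))
    (Subgroup.mem_centralizer_singleton_iff.2 (hc.pow_left _).eq.symm : y ∈ cen _)
  rw [hy, h11.cent _ hx] at hd
  norm_num at hd

theorem deg_vals :
    charDegree (T.a 0 : G → ℂ) = 45 ∧ charDegree (T.a 1 : G → ℂ) = 54 ∧
      charDegree (T.a 2 : G → ℂ) = 120 ∧ charDegree (T.a 3 : G → ℂ) = 144 ∧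
      ∀ j, charDegree (T.θ j : G → ℂ) = 16 := by
  refine ⟨?_, ?_, ?_, ?_, fun j => ?_⟩ <;>
    first
      | (rw [T.deg_a, hmain]; rfl)
      | (rw [T.deg_θ, hmain]; rfl)

theorem degree_options (χ : IrrCharacter G) :
    (χ = principal G ∧ charDegree (χ : G → ℂ) = 1) ∨
      (χ = T.a 0 ∧ charDegree (χ : G → ℂ) = 45) ∨ (χ = T.a 1 ∧ charDegree (χ : G → ℂ) = 54) ∨
      (χ = T.a 2 ∧ charDegree (χ : G → ℂ) = 120) ∨ (χ = T.a 3 ∧ charDegree (χ : G → ℂ) = 144) ∨
      ((∃ j, χ = T.θ j) ∧ charDegree (χ : G → ℂ) = 16) ∨ 11 ∣ charDegree (χ : G → ℂ) := by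
  obtain ⟨d0, d1, d2, d3, dθ⟩ := deg_vals hG h11 T hmain
  rcases T.cover χ with rfl | ⟨i, rfl⟩ | ⟨h, -⟩
  · exact Or.inl ⟨rfl, principal_degree hG⟩
  · induction i using Fin.addCases with
    | left i =>
      rw [Fin.append_left]
      fin_cases i
      · exact Or.inr (Or.inl ⟨rfl, d0⟩)
      · exact Or.inr (Or.inr (Or.inl ⟨rfl, d1⟩))
      · exact Or.inr (Or.inr (Or.inr (Or.inl ⟨rfl, d2⟩)))
      · exact Or.inr (Or.inr (Or.inr (Or.inr (Or.inl ⟨rfl, d3⟩))))
    | right j =>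
      rw [Fin.append_right]
      exact Or.inr (Or.inr (Or.inr (Or.inr (Or.inr (Or.inl ⟨⟨j, rfl⟩, dθ j⟩)))))
  · exact Or.inr (Or.inr (Or.inr (Or.inr (Or.inr (Or.inr h)))))

theorem rel_at {g : G} (hg : ¬ 11 ∣ orderOf g) (j : Fin 2) :
    (T.θ j : G → ℂ) g = 1 + (T.a 0 : G → ℂ) g - (T.a 1 : G → ℂ) g - (T.a 2 : G → ℂ) g +
      (T.a 3 : G → ℂ) g := by
  have h := T.rel j g hg
  have hs : T.sgn 0 = 1 ∧ T.sgn 1 = -1 ∧ T.sgn 2 = -1 ∧ T.sgn 3 = 1 ∧ T.ε = 1 := by
    have h0 := T.sgn_eq 0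
    have h1 := T.sgn_eq 1
    have h2 := T.sgn_eq 2
    have h3 := T.sgn_eq 3
    have he := T.ε_eq
    simp only [hmain, mainTable] at h0 h1 h2 h3 he
    refine ⟨?_, ?_, ?_, ?_, ?_⟩
    · rcases h0.1 with h | h <;> simp [h] at h0 ⊢
    · rcases h1.1 with h | h <;> simp [h] at h1 ⊢
    · rcases h2.1 with h | h <;> simp [h] at h2 ⊢
    · rcases h3.1 with h | h <;> simp [h] at h3 ⊢
    · rcases he.1 with h | h <;> simp [h] at he ⊢
  rw [Fin.sum_univ_four, hs.1, hs.2.1, hs.2.2.1, hs.2.2.2.1, hs.2.2.2.2] at h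
  push_cast at h
  linear_combination h

theorem exists_int_at {g : G} (hg : ¬ 11 ∣ orderOf g) (χ : IrrCharacter G)
    (hχ : χ = T.a 1 ∨ χ = T.a 3 ∨ ∃ j, χ = T.θ j) : ∃ m : ℤ, (m : ℂ) = (χ : G → ℂ) g := by
  obtain ⟨d0, d1, d2, d3, dθ⟩ := deg_vals hG h11 T hmain
  refine exists_int_of_galois χ g fun σ => ?_
  have hd := charDegree_galois σ χ
  rcases degree_options hG h11 T hmain (galoisIrr σ χ) with
    ⟨-, h⟩ | ⟨-, h⟩ | ⟨e, h⟩ | ⟨-, h⟩ | ⟨e, h⟩ | ⟨⟨k, e⟩, h⟩ | h <;>
    rcases hχ with rfl | rfl | ⟨j, rfl⟩ <;>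
    first
      | (rw [hd, d1] at h; norm_num at h; done)
      | (rw [hd, d3] at h; norm_num at h; done)
      | (rw [hd, dθ] at h; norm_num at h; done)
      | (rw [e]; done)
      | (rw [e, rel_at hG h11 T hmain hg, rel_at hG h11 T hmain hg])

theorem fiftyfour_apply {g : G} (hg : 3 ∣ orderOf g) : (T.a 1 : G → ℂ) g = 0 :=
  apply_eq_zero (n := 3) Nat.prime_three _ (by rw [hG]; norm_num) (by rw [hG]; norm_num)
    (by rw [(deg_vals hG h11 T hmain).2.1]; norm_num) hg

/-- The column at an element of order divisible by five commuting with an element of order five. -/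
theorem column {y g : G} (hy : orderOf y = 5) (hc : Commute g y) (h5 : 5 ∣ orderOf g) :
    ∃ a β b : ℤ, (a : ℂ) = (T.a 1 : G → ℂ) g ∧ b = 1 - a + β ∧
      a ^ 2 + β ^ 2 + 2 * b ^ 2 ≤ (Nat.card (cen g) : ℤ) := by
  classical
  obtain ⟨d0, d1, d2, d3, dθ⟩ := deg_vals hG h11 T hmain
  have hg := not_eleven_dvd hG h11 T hmain hy hc
  obtain ⟨a, ha⟩ := exists_int_at hG h11 T hmain hg (T.a 1) (Or.inl rfl)
  obtain ⟨β, hβ⟩ := exists_int_at hG h11 T hmain hg (T.a 3) (Or.inr (Or.inl rfl))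
  obtain ⟨b, hb⟩ := exists_int_at hG h11 T hmain hg (T.θ 0) (Or.inr (Or.inr ⟨0, rfl⟩))
  have hz0 : (T.a 0 : G → ℂ) g = 0 := apply_eq_zero (n := 1) Nat.prime_five _
    (by rw [hG]; norm_num) (by rw [hG]; norm_num) (by rw [d0]; norm_num) h5
  have hz2 : (T.a 2 : G → ℂ) g = 0 := apply_eq_zero (n := 1) Nat.prime_five _
    (by rw [hG]; norm_num) (by rw [hG]; norm_num) (by rw [d2]; norm_num) h5
  have hrel : b = 1 - a + β := by
    have h := rel_at hG h11 T hmain hg 0
    rw [hz0, hz2, ← hb, ← ha, ← hβ] at h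
    apply Int.cast_injective (α := ℂ)
    push_cast
    linear_combination h
  have hb1 : (b : ℂ) = (T.θ 1 : G → ℂ) g := by
    rw [hb, rel_at hG h11 T hmain hg, rel_at hG h11 T hmain hg]
  refine ⟨a, β, b, ha, hrel, ?_⟩
  have n13 : T.a 1 ≠ T.a 3 := fun h => by rw [h, d3] at d1; norm_num at d1
  have n1θ : ∀ j, T.a 1 ≠ T.θ j := fun j h => by rw [h, dθ] at d1; norm_num at d1
  have n3θ : ∀ j, T.a 3 ≠ T.θ j := fun j h => by rw [h, dθ] at d3; norm_num at d3
  have nθ : T.θ 0 ≠ T.θ 1 := fun h => by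
    have := T.inj (a₁ := Fin.natAdd 4 (0 : Fin 2)) (a₂ := Fin.natAdd 4 (1 : Fin 2))
      (by rw [Fin.append_right, Fin.append_right, h])
    simp [Fin.ext_iff] at this
  set v : IrrCharacter G → ℤ := fun χ => if χ = T.a 1 then a else if χ = T.a 3 then β else b
    with hv
  have hle := sum_sq_le_card_cen (g := g) {T.a 1, T.a 3, T.θ 0, T.θ 1} v (fun χ hχ => by
    simp only [Finset.mem_insert, Finset.mem_singleton] at hχ
    rcases hχ with rfl | rfl | rfl | rfl
    · simp [hv, ha]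
    · simp [hv, n13.symm, hβ]
    · simp [hv, (n1θ 0).symm, (n3θ 0).symm, hb]
    · simp [hv, (n1θ 1).symm, (n3θ 1).symm, hb1])
  rw [Finset.sum_insert (by simp [n13, n1θ]), Finset.sum_insert (by simp [n3θ]),
    Finset.sum_pair nθ] at hle
  simp only [hv, if_pos, if_neg n13.symm, if_neg (n1θ 0).symm, if_neg (n3θ 0).symm,
    if_neg (n1θ 1).symm, if_neg (n3θ 1).symm] at hle
  linarith

/-- The value of the character of degree 54 is divisible by the order of a centralized 3-group. -/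
theorem card_dvd_value {g : G} {R : Subgroup G} (hR : IsPGroup 3 R)
    (hc : ∀ v ∈ R, Commute g v) (hg3 : ¬ 3 ∣ orderOf g) {a : ℤ}
    (ha : (a : ℂ) = (T.a 1 : G → ℂ) g) : (Nat.card R : ℤ) ∣ a := by
  classical
  haveI := Fact.mk Nat.prime_three
  haveI := Fintype.ofFinite R
  refine card_dvd_sum (T.a 1) R hc ?_
  rw [Finset.sum_eq_single (1 : R), ha, OneMemClass.coe_one, mul_one]
  · intro v _ hv
    refine fiftyfour_apply hG h11 T hmain ?_
    obtain ⟨k, hk⟩ := IsPGroup.iff_orderOf.1 hR v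
    rw [← Subgroup.orderOf_coe] at hk
    rcases k with _ | k
    · rw [pow_zero, orderOf_eq_one_iff] at hk
      exact absurd (Subtype.ext hk) hv
    have hcop : Nat.Coprime (orderOf g) (orderOf (v : G)) := by
      rw [hk]
      exact (((Nat.prime_three.coprime_iff_not_dvd).2 hg3).symm).pow_right _
    rw [(hc v v.2).orderOf_mul_eq_mul_orderOf_of_coprime hcop, hk, pow_succ]
    exact (dvd_mul_left 3 _).mul_left _
  · exact fun h => absurd (Finset.mem_univ _) h

theorem exists_pgroup_le {p k : ℕ} [Fact p.Prime] {H : Subgroup G} (h : p ^ k ∣ Nat.card H) :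
    ∃ R : Subgroup G, R ≤ H ∧ Nat.card R = p ^ k ∧ IsPGroup p R := by
  obtain ⟨K, hK⟩ := Sylow.exists_subgroup_card_pow_prime p h
  have hc : Nat.card (K.map H.subtype) = p ^ k := by
    rw [← hK]
    exact (Nat.card_congr
      (K.equivMapOfInjective H.subtype H.subtype_injective).toEquiv).symm
  exact ⟨K.map H.subtype, Subgroup.map_subtype_le K, hc, IsPGroup.of_card hc⟩

/-- The value at `y` and the column there. -/
theorem at_five {y : G} (hy : orderOf y = 5) {k : ℕ} (hk : 3 ^ k ∣ Nat.card (cen y)) :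
    ∃ a β : ℤ, (3 : ℤ) ^ k ∣ a ∧ (5 : ℤ) ∣ a - 54 ∧ (a : ℂ) = (T.a 1 : G → ℂ) y ∧
      a ^ 2 + β ^ 2 + 2 * (1 - a + β) ^ 2 ≤ (Nat.card (cen y) : ℤ) := by
  haveI := Fact.mk Nat.prime_three
  haveI := Fact.mk Nat.prime_five
  obtain ⟨a, β, b, ha, rfl, hle⟩ :=
    column hG h11 T hmain hy (Commute.refl y) (by rw [hy])
  obtain ⟨R, hRy, hRc, hR⟩ := exists_pgroup_le hG h11 T hmain (H := cen y) hk
  have h1 := card_dvd_value hG h11 T hmain hR
    (fun v hv => (Subgroup.mem_centralizer_singleton_iff.1 (hRy hv)).symm)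
    (by rw [hy]; norm_num) ha
  have h2 := int_congr_of_pow_eq_one (p := 5) (T.a 1) (g := y)
    (by rw [← hy, pow_orderOf_eq_one]) ha
  rw [(deg_vals hG h11 T hmain).2.1] at h2
  rw [hRc] at h1
  exact ⟨a, β, by exact_mod_cast h1, by exact_mod_cast h2, ha, hle⟩

theorem card_ne_twelve {y : G} (hy : orderOf y = 5) : Nat.card (cen y) ≠ 60 := by
  intro h
  obtain ⟨a, β, ⟨m, rfl⟩, h5, -, hle⟩ :=
    at_five hG h11 T hmain hy (k := 1) (by rw [h]; norm_num)
  rw [h] at hle
  norm_num at hle h5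
  have hm1 : -2 ≤ m ∧ m ≤ 2 := by
    constructor <;> nlinarith [sq_nonneg β, sq_nonneg (1 - 3 * m + β)]
  obtain ⟨hm2, hm3⟩ := hm1
  obtain rfl : m = -2 := by omega
  nlinarith [sq_nonneg (3 * β + 14)]

theorem card_ne_big {y : G} (hy : orderOf y = 5) : Nat.card (cen y) ≠ 2160 := by
  intro h
  obtain ⟨a, β, ⟨m, rfl⟩, h5, -, hle⟩ :=
    at_five hG h11 T hmain hy (k := 3) (by rw [h]; norm_num)
  rw [h] at hle
  norm_num at hle h5
  have hm1 : -1 ≤ m ∧ m ≤ 1 := by
    constructor <;> nlinarith [sq_nonneg β, sq_nonneg (1 - 27 * m + β)]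
  obtain ⟨hm2, hm3⟩ := hm1
  omega

theorem card_ne_middle (hv : ∀ t : G, orderOf t = 2 → InvolValues G T t) {y : G}
    (hy : orderOf y = 5) : Nat.card (cen y) ≠ 360 := by
  intro h
  haveI := Fact.mk Nat.prime_two
  haveI := Fact.mk Nat.prime_three
  haveI := Fact.mk Nat.prime_five
  obtain ⟨a, β₀, ⟨m, rfl⟩, h5, ha, hle⟩ :=
    at_five hG h11 T hmain hy (k := 2) (by rw [h]; norm_num)
  rw [h] at hle
  norm_num at hle h5 ha
  obtain rfl : m = 1 := by
    have hm1 : -2 ≤ m ∧ m ≤ 2 := by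
      constructor <;> nlinarith [sq_nonneg β₀, sq_nonneg (1 - 9 * m + β₀)]
    obtain ⟨hm2, hm3⟩ := hm1
    omega
  -- a central involution of a Sylow 2-subgroup of the centralizer
  obtain ⟨R, hRy, hRc, hR⟩ := exists_pgroup_le hG h11 T hmain (H := cen y) (p := 2) (k := 3)
    (by rw [h]; norm_num)
  haveI : Nontrivial R := Finite.one_lt_card_iff_nontrivial.1 (by rw [hRc]; norm_num)
  haveI := hR.center_nontrivial
  obtain ⟨j, hj, hjc⟩ := (hR.to_subgroup (Subgroup.center R)).nontrivial_iff_card.1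
    inferInstance
  obtain ⟨⟨⟨t, htR⟩, htZ⟩, hto⟩ := exists_prime_orderOf_dvd_card' (G := Subgroup.center R) 2
    (by rw [hjc]; exact dvd_pow_self 2 hj.ne')
  rw [Subgroup.orderOf_mk, Subgroup.orderOf_mk] at hto
  have hyt : Commute y t := (Subgroup.mem_centralizer_singleton_iff.1 (hRy htR)).symm
  have hRt : R ≤ cen t := fun v hvR => by
    refine Subgroup.mem_centralizer_singleton_iff.2 ?_
    exact congrArg Subtype.val (Subgroup.mem_center_iff.1 htZ ⟨v, hvR⟩)
  set D := cen y ⊓ cen t with hD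
  have hyD : y ∈ D := ⟨Subgroup.mem_centralizer_singleton_iff.2 rfl,
    Subgroup.mem_centralizer_singleton_iff.2 hyt.eq⟩
  have h5t : 5 ∣ Nat.card (cen t) := hy ▸ Subgroup.orderOf_dvd_natCard _ hyD.2
  obtain ⟨hCt, hval⟩ : (Nat.card (cen t) = 120 ∨ Nat.card (cen t) = 240) ∧
      (T.a 1 : G → ℂ) t = 6 := by
    rcases (hv t hto).main hmain with ⟨h', -⟩ | ⟨h', s, -, hw, -⟩
    · rw [h'] at h5t; norm_num at h5t
    · exact ⟨h', by simpa using hw 1⟩
  have hD8 : 8 ∣ Nat.card D := by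
    rw [show 8 = Nat.card R by rw [hRc]; norm_num]
    exact Subgroup.card_dvd_of_le (le_inf hRy hRt)
  have hD5 : 5 ∣ Nat.card D := hy ▸ Subgroup.orderOf_dvd_natCard _ hyD
  have hD360 : Nat.card D ∣ 360 := h ▸ Subgroup.card_dvd_of_le inf_le_left
  have hDt : Nat.card D ∣ 240 := by
    have h1 : Nat.card D ∣ Nat.card (cen t) := Subgroup.card_dvd_of_le inf_le_right
    rcases hCt with h' | h' <;> rw [h'] at h1
    · exact h1.trans (by norm_num)
    · exact h1
  have hDle : Nat.card D = 40 ∨ Nat.card D = 120 := by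
    have h1 : Nat.card D ∣ 120 := by
      have := Nat.dvd_gcd hD360 hDt
      norm_num at this
      exact this
    have h2 := Nat.le_of_dvd (by norm_num) h1
    interval_cases hn : Nat.card D <;> omega
  rcases hDle with hD40 | hD120
  · -- no element of order three
    refine card_cen_ne_forty (G := cen t) hCt (y := ⟨y, hyD.2⟩)
      (by rw [Subgroup.orderOf_mk, hy]) ?_
    have he : cen (⟨y, hyD.2⟩ : cen t) = D.subgroupOf (cen t) := by
      ext w
      simp only [hD, cen, Subgroup.mem_subgroupOf, Subgroup.mem_inf,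
        Subgroup.mem_centralizer_singleton_iff, Subtype.ext_iff, Subgroup.coe_mul]
      exact ⟨fun hw => ⟨hw, Subgroup.mem_centralizer_singleton_iff.1 w.2⟩, fun hw => hw.1⟩
    rw [he, Nat.card_congr (Subgroup.subgroupOfEquivOfLe (inf_le_right : D ≤ cen t)).toEquiv]
    exact hD40
  obtain ⟨R₃, hR₃D, hR₃c, hR₃⟩ := exists_pgroup_le hG h11 T hmain (H := D) (p := 3) (k := 1)
    (by rw [hD120]; norm_num)
  have ht2 : t ^ 2 = 1 := by rw [← hto, pow_orderOf_eq_one]
  have hy5 : y ^ 5 = 1 := by rw [← hy, pow_orderOf_eq_one]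
  set g := y * t with hg
  have hg6 : g ^ 6 = y := by
    rw [hg, hyt.mul_pow, show 6 = 5 + 1 from rfl, pow_succ y, hy5, one_mul,
      show 5 + 1 = 2 * 3 from rfl, pow_mul, ht2, one_pow, mul_one]
  have hg5 : g ^ 5 = t := by
    rw [hg, hyt.mul_pow, hy5, one_mul, show 5 = 2 * 2 + 1 from rfl, pow_succ, pow_mul, ht2,
      one_pow, one_mul]
  have hgo : orderOf g = 10 := by
    rw [hg, hyt.orderOf_mul_eq_mul_orderOf_of_coprime (by rw [hy, hto]; norm_num), hy, hto]
  have hgy : Commute g y := (Commute.refl y).mul_left hyt.symm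
  obtain ⟨α, β, b, hα, rfl, hcol⟩ := column hG h11 T hmain hy hgy (by rw [hgo]; norm_num)
  have h3 : (3 : ℤ) ∣ α := by
    have h1 := card_dvd_value hG h11 T hmain hR₃ (g := g)
      (fun v hvR => by
        have c1 : Commute v y := Subgroup.mem_centralizer_singleton_iff.1 (hR₃D hvR).1
        have c2 : Commute v t := Subgroup.mem_centralizer_singleton_iff.1 (hR₃D hvR).2
        exact c1.symm.mul_left c2.symm)
      (by rw [hgo]; norm_num) hα
    rw [hR₃c] at h1
    simpa using h1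
  have hg10 : g ^ 10 = 1 := by rw [← hgo, pow_orderOf_eq_one]
  have hmod2 := int_congr_pow (p := 2) (T.a 1) (x := g) (k := 6) (n := 1) (m' := 9)
    (by norm_num) (by norm_num [hg10]) hα (by rw [hg6, ← ha]; norm_num)
  have hmod5 := int_congr_pow (p := 5) (T.a 1) (x := g) (k := 5) (n := 1) (m' := 6)
    (by norm_num) (by rw [show (5 - 1) * 5 ^ 1 = 10 * 2 from rfl, pow_mul, hg10, one_pow]) hα
    (by rw [hg5, hval]; norm_num)
  have hcg : (Nat.card (cen g) : ℤ) ≤ 120 := by
    have : cen g ≤ D := fun w hw => by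
      have hwg : Commute w g := Subgroup.mem_centralizer_singleton_iff.1 hw
      exact ⟨Subgroup.mem_centralizer_singleton_iff.2 (hg6 ▸ hwg.pow_right 6).eq,
        Subgroup.mem_centralizer_singleton_iff.2 (hg5 ▸ hwg.pow_right 5).eq⟩
    exact_mod_cast (hD120 ▸ Nat.le_of_dvd Nat.card_pos (Subgroup.card_dvd_of_le this))
  obtain ⟨n, rfl⟩ := h3
  have hn : -3 ≤ n ∧ n ≤ 3 := by
    constructor <;> nlinarith [sq_nonneg β, sq_nonneg (1 - 3 * n + β)]
  obtain ⟨hn1, hn2⟩ := hn
  norm_num at hmod2 hmod5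
  obtain rfl : n = -3 := by omega
  nlinarith [sq_nonneg (3 * β + 20)]

theorem two_arith {d dt : ℕ}
    (hd : d ∈ ([45, 54, 120, 144, 16] : List ℕ) ∨ (11 ∣ d ∧ d < 309 ∧ d ∣ 95040))
    (hdt : dt ∈ ([1, 45, 54, 120, 144, 16] : List ℕ) ∨ (11 ∣ dt ∧ dt < 309 ∧ dt ∣ 95040))
    {s t : ℤ} (hs : s = d ∨ s = -(d : ℤ)) (ht : t = dt ∨ t = -(dt : ℤ)) (hs1 : s % 5 = 1)
    (ht2 : t % 5 = 2) (h : 1 + s = t) : False := by
  have key : ∀ k < 309, 11 ∣ k → k ∣ 95040 →
      k ∈ ([11, 22, 33, 44, 55, 66, 88, 99, 110, 132, 165, 176, 198, 220, 264, 297] :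
        List ℕ) := by decide +kernel
  have hd' : d ∈ ([45, 54, 120, 144, 16] : List ℕ) ∨ d ∈
      ([11, 22, 33, 44, 55, 66, 88, 99, 110, 132, 165, 176, 198, 220, 264, 297] : List ℕ) :=
    hd.imp id fun ⟨h1, h2, h3⟩ => key d h2 h1 h3
  have hdt' : dt ∈ ([1, 45, 54, 120, 144, 16] : List ℕ) ∨ dt ∈
      ([11, 22, 33, 44, 55, 66, 88, 99, 110, 132, 165, 176, 198, 220, 264, 297] : List ℕ) :=
    hdt.imp id fun ⟨h1, h2, h3⟩ => key dt h2 h1 h3
  simp only [List.mem_cons, List.not_mem_nil, or_false] at hd' hdt'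
  omega

/-- The index of the centralizer in the normalizer is not two. -/
theorem index_ne_two (P : Sylow 5 G) (hP : Nat.card (P : Subgroup G) = 5) :
    (Subgroup.centralizer ((P : Subgroup G) : Set G)).relIndex
      (Subgroup.normalizer ((P : Subgroup G) : Set G)) ≠ 2 := by
  classical
  intro hrel'
  haveI := Fact.mk Nat.prime_five
  haveI := Fintype.ofFinite G
  obtain ⟨M, hM⟩ := CharApps.exists_pModular (p := 5)
  haveI := hM.2.1.isPrime
  obtain ⟨X, Y, σ, ε, hB, hdisj, hX, hY, hXp, hε, hYd, hYeq, hrel⟩ :=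
    Small.O7920.exists_block_data (by norm_num) hM P hP hrel'
  norm_num at hY
  have h5one : ¬ 5 ∣ orderOf (1 : G) := by rw [orderOf_one]; norm_num
  obtain ⟨θ₁, θ₂, hθne, rfl⟩ := Finset.card_eq_two.1 hY
  have hθm : θ₁ ∈ ({θ₁, θ₂} : Finset (IrrCharacter G)) := by simp
  have hprin : CfsgLib.Chars.principal G ∈ X := by
    rcases (hB _).1 (CfsgLib.Blocks.principal_mem_principalBlock M) with h | h
    · exact h
    exfalso
    have key : ∀ ψ ∈ ({θ₁, θ₂} : Finset (IrrCharacter G)), ψ = CfsgLib.Chars.principal G := fun ψ hψ => by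
      have h1 := hYeq ψ hψ _ h 1 h5one
      rw [deg_eq, principal_apply, Nat.cast_eq_one] at h1
      exact eq_principal hG h1
    exact hθne ((key _ hθm).trans (key _ (by simp)).symm)
  obtain ⟨χ, hχe⟩ := Finset.card_eq_one.1 (show (X.erase (CfsgLib.Chars.principal G)).card = 1 by
    rw [Finset.card_erase_of_mem hprin, hX])
  have hχX : χ ∈ X ∧ χ ≠ CfsgLib.Chars.principal G := by
    have h : χ ∈ X.erase (CfsgLib.Chars.principal G) := by simp [hχe]
    rw [Finset.mem_erase] at h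
    exact ⟨h.2, h.1⟩
  have hσp : σ (CfsgLib.Chars.principal G) = 1 := by
    have h := (hXp _ hprin).2.1
    rw [principal_degree hG, Int.modEq_iff_dvd] at h
    rcases (hXp _ hprin).1 with h' | h' <;> rw [h'] at h ⊢ <;> omega
  have hT : ε * (charDegree (θ₁ : G → ℂ) : ℤ) = 1 + σ χ * (charDegree (χ : G → ℂ) : ℤ) := by
    have h := hrel θ₁ hθm 1 h5one
    rw [← Finset.add_sum_erase _ _ hprin, hχe, Finset.sum_singleton, hσp, principal_apply,
      deg_eq, deg_eq, Int.cast_one, one_mul] at h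
    exact_mod_cast h
  have hall : ∀ ψ : IrrCharacter G,
      charDegree (ψ : G → ℂ) ∈ ([1, 45, 54, 120, 144, 16] : List ℕ) ∨
        (11 ∣ charDegree (ψ : G → ℂ) ∧ charDegree (ψ : G → ℂ) < 309 ∧
          charDegree (ψ : G → ℂ) ∣ 95040) := by
    intro ψ
    obtain ⟨hlt, hdvd, -⟩ := degree_facts hG ψ
    rcases degree_options hG h11 T hmain ψ with
      ⟨-, h⟩ | ⟨-, h⟩ | ⟨-, h⟩ | ⟨-, h⟩ | ⟨-, h⟩ | ⟨-, h⟩ | h
    all_goals first
      | exact Or.inr ⟨h, hlt, hdvd⟩
      | exact Or.inl (by simp [h])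
  have h1 := (hXp χ hχX.1).2.1
  have h2 := hYd θ₁ hθm
  rw [Int.ModEq] at h1 h2
  norm_num at h1 h2
  refine two_arith hG h11 T hmain (d := charDegree (χ : G → ℂ)) ?_ (hall θ₁) ?_ ?_ h1 h2 hT.symm
  · rcases hall χ with h | h
    · simp only [List.mem_cons, List.not_mem_nil, or_false] at h ⊢
      rcases h with h | h
      · exact absurd (eq_principal hG h) hχX.2
      · exact Or.inl h
    · exact Or.inr h
  · rcases (hXp χ hχX.1).1 with h | h <;> simp [h]
  · rcases hε with h | h <;> simp [h]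

end

end CfsgLib.M12Order.FiveEven

namespace CfsgLib.M12Order

open FiveEven

universe u

theorem five_arith {c n : ℕ} (hn : n % 5 = 1) (h2 : 2 ∣ c) (h11 : ¬ 11 ∣ c)
    (h : c * n = 4752) : c = 2 ∨ c = 12 ∨ c = 72 ∨ c = 432 := by
  have key : ∀ k < 433, 4752 % k = 0 ∧ k % 2 = 0 ∧ k % 11 ≠ 0 ∧ 4752 / k % 5 = 1 →
      k ∈ ([2, 12, 72, 432] : List ℕ) := by decide +kernel
  have hcop : Nat.Coprime c 11 :=
    (((by norm_num : Nat.Prime 11).coprime_iff_not_dvd).2 h11).symm
  have hle : c ≤ 432 := Nat.le_of_dvd (by norm_num)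
    (hcop.dvd_of_dvd_mul_left (show c ∣ 11 * 432 from ⟨n, h.symm⟩))
  have hc0 : 0 < c := Nat.pos_of_ne_zero (by rintro rfl; simp at h)
  have h4 := key c (by omega) ⟨by rw [← h]; exact Nat.mul_mod_right c n, by omega, by omega, by
    rw [← h, Nat.mul_div_cancel_left _ hc0]; exact hn⟩
  simpa using h4

/-- Piece C2: the local structure at five. -/
theorem five_even : FiveEvenStmt.{u} := by
  intro G _ _ hs hG h11 T hv heven
  haveI := Fact.mk Nat.prime_two
  haveI := Fact.mk Nat.prime_five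
  have h5sq : ¬ 5 ^ 2 ∣ Nat.card G := not_sq_dvd_card hG (Or.inl rfl)
  have key : ∀ P : Sylow 5 G, Nat.card (Subgroup.centralizer ((P : Subgroup G) : Set G)) = 10 ∧
      Nat.card (Subgroup.normalizer ((P : Subgroup G) : Set G)) = 40 := by
    intro P
    have hP : Nat.card (P : Subgroup G) = 5 := by
      simpa using card_sylow_eq (p := 5) 1 19008 (by rw [hG]; rfl) (by norm_num) P
    obtain ⟨⟨y, hyP⟩, hy⟩ := exists_prime_orderOf_dvd_card' (G := (P : Subgroup G)) 5
      (by rw [hP])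
    rw [Subgroup.orderOf_mk] at hy
    have hPy : (P : Subgroup G) = Subgroup.zpowers y :=
      (Subgroup.eq_of_le_of_card_ge (Subgroup.zpowers_le.2 hyP)
        (by rw [Nat.card_zpowers, hy, hP])).symm
    have hCy : Subgroup.centralizer ((P : Subgroup G) : Set G) = cen y := by
      rw [hPy, centralizer_zpowers]
    obtain ⟨⟨t, htC⟩, hto⟩ := exists_prime_orderOf_dvd_card' (G := cen y) 2 (heven y hy)
    rw [Subgroup.orderOf_mk] at hto
    have hmain : T.list = mainTable := (hv t hto).five (hy ▸ Subgroup.orderOf_dvd_natCard _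
      (Subgroup.mem_centralizer_singleton_iff.2
        (Subgroup.mem_centralizer_singleton_iff.1 htC).symm : y ∈ cen t))
    obtain ⟨e, he1, hed, hce⟩ := exists_normalizer_centralizer (M12Order.nonabelian hG) P hP
    obtain ⟨c, hc⟩ := dvd_card_centralizer P hP
    have hmul := card_normalizer_mul P
    rw [← hce, hc, hG] at hmul
    set n := Nat.card (Sylow 5 G)
    have hnm : n % 5 = 1 := card_sylow_modEq_one 5 G
    have hrel' : (Subgroup.centralizer ((P : Subgroup G) : Set G)).relIndex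
        (Subgroup.normalizer ((P : Subgroup G) : Set G)) = e := by
      have hle : Subgroup.centralizer ((P : Subgroup G) : Set G) ≤
          Subgroup.normalizer ((P : Subgroup G) : Set G) := Subgroup.centralizer_le_normalizer _
      have h := Subgroup.relIndex_mul_relIndex _ _ _ bot_le hle
      rw [Subgroup.relIndex_bot_left, Subgroup.relIndex_bot_left, ← hce] at h
      exact Nat.eq_of_mul_eq_mul_left Nat.card_pos h
    obtain rfl : e = 4 := by
      have h := Nat.le_of_dvd (by norm_num) hed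
      have h2 := index_ne_two hG h11 T hmain P hP
      rw [hrel'] at h2
      norm_num at hed h
      interval_cases e <;> omega
    have hmul' : c * n = 4752 := by
      have : 20 * (c * n) = 20 * 4752 := by linarith
      omega
    have h2c : 2 ∣ c := by
      have h := heven y hy
      rw [← hCy, hc] at h
      exact (Nat.Coprime.dvd_of_dvd_mul_left (by norm_num : Nat.Coprime 2 5) h)
    have h11c : ¬ 11 ∣ c := by
      intro h
      haveI := Fact.mk (show Nat.Prime 11 by norm_num)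
      obtain ⟨⟨x, hxC⟩, hxo⟩ := exists_prime_orderOf_dvd_card' (G := cen y) 11
        (by rw [← hCy, hc]; exact h.mul_left 5)
      rw [Subgroup.orderOf_mk] at hxo
      exact not_eleven_dvd hG h11 T hmain hy
        (Subgroup.mem_centralizer_singleton_iff.1 hxC) (by rw [hxo])
    rcases five_arith hnm h2c h11c hmul' with rfl | rfl | rfl | rfl
    · exact ⟨hc, by rw [← hce, hc]⟩
    · exact absurd (by rw [← hCy, hc]) (card_ne_twelve hG h11 T hmain hy)
    · exact absurd (by rw [← hCy, hc]) (card_ne_middle hG h11 T hmain hv hy)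
    · exact absurd (by rw [← hCy, hc]) (card_ne_big hG h11 T hmain hy)
  refine ⟨fun y hy => ?_, fun P => (key P).2⟩
  obtain ⟨S, hS, -⟩ := exists_sylow_zpowers h5sq hy
  rw [← centralizer_zpowers, ← hS]
  exact (key S).1

/-- The same piece, under a second name. -/
theorem fiveEven : FiveEvenStmt.{u} := five_even

end CfsgLib.M12Order
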