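import Cfsg.Agent.Lib.M12Order.Interface
import Cfsg.Agent.Lib.M12Order.Tools
import Cfsg.Agent.Lib.Small.Order7920
import Cfsg.Agent.Lib.Chars.Misc
import Cfsg.Agent.Lib.Chars.DefectZero
import Cfsg.Agent.Lib.CharApps.Galois

/-!
# Simple groups of order 95040: piece C1

The centralizer of an element of order five has even order.  The case `|C(P)/P| = 27` contradicts
Sylow's theorems in the normalizer of a Sylow three-subgroup; the case of order nine forces the
second or fourth table, and then a rational character of degree five or ten vanishing off the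
five-regular elements is incompatible with the three-part of `C(P)`.
-/

set_option autoImplicit false
set_option linter.style.haveILetI false

open Cfsg CfsgLib.Chars CfsgLib.CharApps CfsgLib.Blocks Finset

namespace CfsgLib.M12Order.FiveOdd

universe u

variable {G : Type u} [Group G] [Finite G]

theorem exists_subgroup_sum {χ : G → ℂ} (h : IsCharacter G χ) (H : Subgroup G) [Fintype H] :
    ∃ k : ℕ, ∑ x : H, χ (x : G) = (Nat.card H : ℂ) * (k : ℂ) := by
  obtain ⟨n, ρ, rfl⟩ := h
  have h0 := inner_one_eq_finrank_invariants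
    ((MonoidHom.comp ρ H.subtype : Representation ℂ H (Fin n → ℂ)))
  refine ⟨Module.finrank ℂ (Representation.invariants
    ((MonoidHom.comp ρ H.subtype : Representation ℂ H (Fin n → ℂ)))), ?_⟩
  rw [← h0, inner_def, ← mul_assoc, mul_inv_cancel₀ (Nat.cast_ne_zero.2 Nat.card_pos.ne'), one_mul]
  simp only [map_one, mul_one]
  rfl

theorem exists_cyclic_sum {χ : G → ℂ} (h : IsCharacter G χ) {g : G} {n : ℕ} (hg : orderOf g = n) :
    ∃ k : ℕ, ∑ j ∈ range n, χ (g ^ j) = (n : ℂ) * (k : ℂ) := by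
  classical
  haveI := Fintype.ofFinite (Subgroup.zpowers g)
  obtain ⟨k, hk⟩ := exists_subgroup_sum h (Subgroup.zpowers g)
  refine ⟨k, ?_⟩
  rw [Nat.card_zpowers] at hk
  rw [← hg, ← hk, ← (finEquivZPowers (isOfFinOrder_of_finite g)).sum_comp,
    ← Fin.sum_univ_eq_sum_range]
  rfl

/-- A rational value from two integer-linear sums. -/
theorem exists_int_value (χ : IrrCharacter G) (g : G) {a b : ℕ} (hb : b ≠ 0) (c : ℤ)
    (h : (a : ℂ) + (b : ℂ) * (χ : G → ℂ) g = (c : ℂ)) : ∃ m : ℤ, (m : ℂ) = (χ : G → ℂ) g := by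
  refine exists_int_of_rat (char_isIntegral (isCharacter_of_irr χ.2) g) ⟨((c : ℚ) - a) / b, ?_⟩
  push_cast
  rw [← h, add_sub_cancel_left, mul_div_assoc, mul_comm]
  exact div_mul_cancel₀ _ (Nat.cast_ne_zero.2 hb)

/-- Rationality on the elements of order prime to eleven. -/
def RatChar (χ : IrrCharacter G) : Prop :=
  ∀ g : G, ¬ 11 ∣ orderOf g → ∀ k : ℕ, k.Coprime (orderOf g) → (χ : G → ℂ) (g ^ k) = (χ : G → ℂ) g

theorem exists_conj_char (χ : IrrCharacter G) {g : G} {k : ℕ} (hk : k.Coprime (orderOf g)) :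
    ∃ ψ : IrrCharacter G, charDegree (ψ : G → ℂ) = charDegree (χ : G → ℂ) ∧
      (ψ : G → ℂ) g = (χ : G → ℂ) (g ^ k) := by
  haveI : NeZero (orderOf g) := ⟨(orderOf_pos g).ne'⟩
  obtain ⟨σ, hσ⟩ := exists_galois_pow (orderOf g) hk
  refine ⟨galoisIrr σ χ, ?_, ?_⟩
  · have h : ((charDegree (galoisIrr σ χ : G → ℂ) : ℕ) : ℂ) = ((charDegree (χ : G → ℂ) : ℕ) : ℂ) := by
      rw [← deg_eq, ← deg_eq, galoisIrr_apply, deg_eq, map_natCast]
    exact_mod_cast h
  · rw [galoisIrr_apply, galois_apply σ hσ (isCharacter_of_irr χ.2) g (pow_orderOf_eq_one g)]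

/-- The elements whose powers matter: products with an element of order five. -/
theorem apply_mul_eq_zero (hG : Nat.card G = 95040) {χ : IrrCharacter G}
    (hdvd : 5 ∣ charDegree (χ : G → ℂ)) {y q : G} (hy : orderOf y = 5) (hyq : Commute y q)
    (hq : Nat.Coprime 5 (orderOf q)) {j : ℕ} (hj : ¬ 5 ∣ j) :
    (χ : G → ℂ) ((y * q) ^ j) = 0 := by
  haveI := Fintype.ofFinite G
  refine eq_zero_of_dvd_orderOf (p := 5) (n := 1) χ.2 (by norm_num) (deg_eq χ)
    (by rw [hG]; norm_num) (by simpa using hdvd) ?_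
  have hcop : (orderOf (y ^ j)).Coprime (orderOf (q ^ j)) := by
    refine Nat.Coprime.coprime_dvd_left (orderOf_pow_dvd j) ?_
    refine Nat.Coprime.coprime_dvd_right (orderOf_pow_dvd j) ?_
    rw [hy]; exact hq
  rw [hyq.mul_pow, (hyq.pow_pow j j).orderOf_mul_eq_mul_orderOf_of_coprime hcop]
  refine Dvd.dvd.mul_right ?_ _
  rw [Nat.Coprime.orderOf_pow (by rw [hy]; exact ((Nat.Prime.coprime_iff_not_dvd (by norm_num)).2 hj)), hy]

theorem apply_ne_degree' [IsSimpleGroup G] (χ : IrrCharacter G) {q : G} (hq : q ≠ 1)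
    (h1 : 1 < charDegree (χ : G → ℂ)) :
    (χ : G → ℂ) q ≠ (charDegree (χ : G → ℂ) : ℂ) := by
  haveI := Fintype.ofFinite G
  rw [← deg_eq]
  refine apply_ne_degree (fun K hK hqK => hK.eq_bot_or_eq_top.resolve_left fun h => hq (by
    rwa [h, Subgroup.mem_bot] at hqK)) χ fun h => ?_
  rw [h] at h1
  have : charDegree (principal G : G → ℂ) = 1 := by
    have h2 : ((charDegree (principal G : G → ℂ) : ℕ) : ℂ) = ((1 : ℕ) : ℂ) := by
      rw [← deg_eq, principal_apply, Nat.cast_one]
    exact_mod_cast h2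
  omega

/-- The value at an element of order three commuting with an element of order five. -/
theorem value_three [IsSimpleGroup G] (hG : Nat.card G = 95040) {χ : IrrCharacter G} {d : ℕ}
    (hd : charDegree (χ : G → ℂ) = d) (hd' : d = 5 ∨ d = 10) (hr : RatChar χ) {y q : G}
    (hy : orderOf y = 5) (hyq : Commute y q) (hq : orderOf q = 3) :
    d = 10 ∧ (χ : G → ℂ) q = -5 := by
  classical
  have h2 : (χ : G → ℂ) (q ^ 2) = (χ : G → ℂ) q :=
    hr q (by rw [hq]; norm_num) 2 (by rw [hq]; norm_num)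
  have hord : orderOf (y * q) = 15 := by
    rw [hyq.orderOf_mul_eq_mul_orderOf_of_coprime (by rw [hy, hq]; norm_num), hy, hq]
  obtain ⟨k, hk⟩ := exists_cyclic_sum (isCharacter_of_irr χ.2) hord
  have hp : ∀ j, (y * q) ^ (5 * j) = q ^ (5 * j) := fun j => by
    rw [hyq.mul_pow, pow_mul y, ← hy, pow_orderOf_eq_one, one_pow, one_mul]
  have e5 : (y * q) ^ 5 = q ^ 2 := by
    rw [show 5 = 5 * 1 from rfl, hp, show 5 * 1 = 3 + 2 from rfl, pow_add, ← hq, pow_orderOf_eq_one, one_mul]
  have e10 : (y * q) ^ 10 = q := by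
    rw [show 10 = 5 * 2 from rfl, hp, show 5 * 2 = 3 * 3 + 1 from rfl, pow_add, pow_mul, ← hq,
      pow_orderOf_eq_one, one_pow, one_mul, pow_one]
  have hz : ∀ j : ℕ, ¬ 5 ∣ j → (χ : G → ℂ) ((y * q) ^ j) = 0 := fun j hj =>
    apply_mul_eq_zero hG (by rw [hd]; omega) hy hyq (by rw [hq]; norm_num) hj
  simp only [Finset.sum_range_succ, Finset.sum_range_zero, pow_zero, e5, e10,
    hz 1 (by norm_num), hz 2 (by norm_num), hz 3 (by norm_num), hz 4 (by norm_num),
    hz 6 (by norm_num), hz 7 (by norm_num), hz 8 (by norm_num), hz 9 (by norm_num),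
    hz 11 (by norm_num), hz 12 (by norm_num), hz 13 (by norm_num), hz 14 (by norm_num),
    h2, deg_eq, hd, add_zero, zero_add] at hk
  obtain ⟨m, hm⟩ := exists_int_value χ q (a := d) (b := 2) (by norm_num) (15 * k)
    (by push_cast; linear_combination hk)
  rw [← hm] at hk
  have hk' : (d : ℤ) + 2 * m = 15 * (k : ℤ) := by
    apply Int.cast_injective (α := ℂ)
    push_cast
    linear_combination hk
  have hle := char_norm_le (isCharacter_of_irr χ.2) q
  rw [← hm, deg_eq, hd, Complex.norm_intCast, Complex.natCast_re] at hle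
  have hle' : |m| ≤ (d : ℤ) := by exact_mod_cast hle
  have hne : m ≠ (d : ℤ) := fun h => apply_ne_degree' χ (q := q)
    (fun e => by rw [e, orderOf_one] at hq; norm_num at hq) (by omega)
    (by rw [← hm, hd, h]; push_cast; rfl)
  obtain ⟨h5, h6⟩ := abs_le.1 hle'
  rcases hd' with rfl | rfl
  · exfalso; omega
  · refine ⟨rfl, ?_⟩
    obtain rfl : m = -5 := by omega
    rw [← hm]; norm_num

/-- No element of order nine commutes with an element of order five. -/
theorem no_nine [IsSimpleGroup G] (hG : Nat.card G = 95040) {χ : IrrCharacter G}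
    (hd : charDegree (χ : G → ℂ) = 10) (hr : RatChar χ) {y q : G} (hy : orderOf y = 5)
    (hyq : Commute y q) (hq : orderOf q = 9) : False := by
  classical
  have h11 : ¬ 11 ∣ orderOf q := by rw [hq]; norm_num
  have hu : ∀ j : ℕ, j.Coprime 9 → (χ : G → ℂ) (q ^ j) = (χ : G → ℂ) q := fun j hj =>
    hr q h11 j (by rw [hq]; exact hj)
  have h3 : orderOf (q ^ 3) = 3 := by
    rw [orderOf_pow' q (by norm_num), hq]; norm_num
  have v3 := (value_three hG hd (Or.inr rfl) hr hy (hyq.pow_right 3) h3).2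
  have v6 : (χ : G → ℂ) (q ^ 6) = -5 := by
    rw [show q ^ 6 = (q ^ 3) ^ 2 by rw [← pow_mul], hr (q ^ 3) (by rw [h3]; norm_num) 2
      (by rw [h3]; norm_num), v3]
  obtain ⟨k, hk⟩ := exists_cyclic_sum (isCharacter_of_irr χ.2) hq
  simp only [Finset.sum_range_succ, Finset.sum_range_zero, pow_zero, pow_one, v3, v6,
    hu 2 (by norm_num), hu 4 (by norm_num), hu 5 (by norm_num), hu 7 (by norm_num),
    hu 8 (by norm_num), deg_eq, hd, zero_add] at hk
  obtain ⟨m, hm⟩ := exists_int_value χ q (a := 0) (b := 6) (by norm_num) (9 * k)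
    (by push_cast at hk ⊢; linear_combination hk)
  have hord : orderOf (y * q) = 45 := by
    rw [hyq.orderOf_mul_eq_mul_orderOf_of_coprime (by rw [hy, hq]; norm_num), hy, hq]
  have hz : ∀ j : ℕ, ¬ 5 ∣ j → (χ : G → ℂ) ((y * q) ^ j) = 0 := fun j hj =>
    apply_mul_eq_zero hG (by rw [hd]; norm_num) hy hyq (by rw [hq]; norm_num) hj
  have hp : ∀ j i : ℕ, (5 * j) % 9 = i → (y * q) ^ (5 * j) = q ^ i := fun j i hi => by
    rw [hyq.mul_pow, pow_mul y, ← hy, pow_orderOf_eq_one, one_pow, one_mul, hy,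
      ← pow_mod_orderOf q (5 * j), hq, hi]
  have a5 : (χ : G → ℂ) ((y * q) ^ 5) = m := by
    rw [show (5 : ℕ) = 5 * 1 from rfl, hp 1 5 (by norm_num), hu 5 (by norm_num), hm]
  have a10 : (χ : G → ℂ) ((y * q) ^ 10) = m := by
    rw [show (10 : ℕ) = 5 * 2 from rfl, hp 2 1 (by norm_num), pow_one, hm]
  have a15 : (χ : G → ℂ) ((y * q) ^ 15) = -5 := by
    rw [show (15 : ℕ) = 5 * 3 from rfl, hp 3 6 (by norm_num), v6]
  have a20 : (χ : G → ℂ) ((y * q) ^ 20) = m := by
    rw [show (20 : ℕ) = 5 * 4 from rfl, hp 4 2 (by norm_num), hu 2 (by norm_num), hm]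
  have a25 : (χ : G → ℂ) ((y * q) ^ 25) = m := by
    rw [show (25 : ℕ) = 5 * 5 from rfl, hp 5 7 (by norm_num), hu 7 (by norm_num), hm]
  have a30 : (χ : G → ℂ) ((y * q) ^ 30) = -5 := by
    rw [show (30 : ℕ) = 5 * 6 from rfl, hp 6 3 (by norm_num), v3]
  have a35 : (χ : G → ℂ) ((y * q) ^ 35) = m := by
    rw [show (35 : ℕ) = 5 * 7 from rfl, hp 7 8 (by norm_num), hu 8 (by norm_num), hm]
  have a40 : (χ : G → ℂ) ((y * q) ^ 40) = m := by
    rw [show (40 : ℕ) = 5 * 8 from rfl, hp 8 4 (by norm_num), hu 4 (by norm_num), hm]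
  have hfun : ∀ j ∈ range 45, (χ : G → ℂ) ((y * q) ^ j) =
      (((if j = 0 then 10 else if j % 5 ≠ 0 then 0 else if j % 3 = 0 then -5 else m) : ℤ) : ℂ) := by
    intro j hj
    rw [Finset.mem_range] at hj
    by_cases h5 : j % 5 = 0
    · obtain ⟨i, rfl⟩ : 5 ∣ j := Nat.dvd_of_mod_eq_zero h5
      have hi : i < 9 := by omega
      interval_cases i <;> simp_all [deg_eq]
    · rw [if_neg (by omega), if_pos h5, hz j (by omega)]
      simp
  obtain ⟨k₁, hk₁⟩ := exists_cyclic_sum (isCharacter_of_irr χ.2) hord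
  obtain ⟨k₂, hk₂⟩ := exists_cyclic_sum
    (isCharacter_mul (isCharacter_of_irr χ.2) (isCharacter_of_irr χ.2)) hord
  rw [Finset.sum_congr rfl hfun] at hk₁
  rw [Finset.sum_congr rfl (g := fun j => ((((if j = 0 then 10 else if j % 5 ≠ 0 then 0 else
    if j % 3 = 0 then -5 else m) : ℤ) ^ 2 : ℤ) : ℂ)) fun j hj => by
      rw [Pi.mul_apply, hfun j hj, sq, Int.cast_mul]] at hk₂
  simp only [Finset.sum_range_succ, Finset.sum_range_zero] at hk₁ hk₂
  norm_num at hk₁ hk₂
  have z1 : 6 * m = 45 * (k₁ : ℤ) := by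
    apply Int.cast_injective (α := ℂ)
    push_cast
    linear_combination hk₁
  have z2 : 150 + 6 * (m * m) = 45 * (k₂ : ℤ) := by
    apply Int.cast_injective (α := ℂ)
    push_cast
    linear_combination hk₂
  obtain ⟨i, rfl⟩ : (15 : ℤ) ∣ m := by omega
  rw [show 15 * i * (15 * i) = 225 * (i * i) by ring] at z2
  omega

/-- No group of order nine centralizes an element of order five. -/
theorem no_order_nine [IsSimpleGroup G] (hG : Nat.card G = 95040) {χ : IrrCharacter G} {d : ℕ}
    (hd : charDegree (χ : G → ℂ) = d) (hd' : d = 5 ∨ d = 10) (hr : RatChar χ) {y : G}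
    (hy : orderOf y = 5) (Q : Subgroup G) (hQ : Nat.card Q = 9)
    (hyQ : ∀ q ∈ Q, Commute y q) : False := by
  classical
  haveI := Fact.mk (show Nat.Prime 3 by norm_num)
  haveI := Fintype.ofFinite Q
  obtain ⟨⟨q, hqQ⟩, hq⟩ := exists_prime_orderOf_dvd_card' (G := Q) 3 (by rw [hQ]; norm_num)
  rw [Subgroup.orderOf_mk] at hq
  obtain rfl := (value_three hG hd hd' hr hy (hyQ q hqQ) hq).1
  have hval : ∀ x : Q, x ≠ 1 → (χ : G → ℂ) (x : G) = -5 := by
    intro x hx
    have hdvd : orderOf (x : G) ∣ 3 ^ 2 := by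
      rw [Subgroup.orderOf_coe, show (3 : ℕ) ^ 2 = 9 by norm_num, ← hQ]
      exact orderOf_dvd_natCard x
    obtain ⟨i, hi, hxo⟩ := (Nat.dvd_prime_pow (by norm_num)).1 hdvd
    interval_cases i
    · rw [pow_zero, orderOf_eq_one_iff] at hxo
      exact absurd (Subtype.ext hxo) hx
    · exact (value_three hG hd (Or.inr rfl) hr hy (hyQ _ x.2) (by simpa using hxo)).2
    · exact (no_nine hG hd hr hy (hyQ _ x.2) (by simpa using hxo)).elim
  obtain ⟨k, hk⟩ := exists_subgroup_sum (isCharacter_of_irr χ.2) Q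
  rw [← Finset.add_sum_erase _ _ (Finset.mem_univ (1 : Q)),
    Finset.sum_congr rfl (g := fun _ => (-5 : ℂ)) (fun x hx => hval x (Finset.ne_of_mem_erase hx)),
    Finset.sum_const, Finset.card_erase_of_mem (Finset.mem_univ _), Finset.card_univ,
    ← Nat.card_eq_fintype_card, hQ, OneMemClass.coe_one, deg_eq, hd] at hk
  have hk' : (10 : ℤ) + 8 * -5 = 9 * (k : ℤ) := by
    apply Int.cast_injective (α := ℂ)
    simp only [nsmul_eq_mul] at hk
    push_cast at hk ⊢
    linear_combination hk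
  omega

/-- The degrees in the tables. -/
def tableDegs : List ℕ := [5, 10, 12, 16, 27, 32, 45, 54, 60, 72, 120, 144, 160]

theorem tables_degs : ∀ L ∈ tables, L.2 ∈ tableDegs ∧ ∀ i : Fin 4, L.1 i ∈ tableDegs := by
  decide +kernel

theorem tables_twelve : ∀ L ∈ tables,
    (∃ i j : Fin (4 + 2), i ≠ j ∧ Fin.append L.1 (fun _ : Fin 2 => L.2) i = 12 ∧
      Fin.append L.1 (fun _ : Fin 2 => L.2) j = 12) →
    L.2 = 5 ∨ (L.1 0 = 10 ∧ L.2 ≠ 10 ∧ ∀ i : Fin 4, L.1 i = 10 → i = 0) := by
  decide +kernel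

variable (T : Table G)

theorem table_degree (i : Fin (4 + 2)) :
    charDegree ((Fin.append T.a T.θ i : IrrCharacter G) : G → ℂ) = Fin.append T.list.1 (fun _ : Fin 2 => T.list.2) i := by
  refine Fin.addCases (fun i => ?_) (fun i => ?_) i
  · rw [Fin.append_left, Fin.append_left, T.deg_a]
  · rw [Fin.append_right, Fin.append_right, T.deg_θ]

/-- A rational character of degree five or ten. -/
theorem exists_rat_char
    (h : T.list.2 = 5 ∨ (T.list.1 0 = 10 ∧ T.list.2 ≠ 10 ∧ ∀ i : Fin 4, T.list.1 i = 10 → i = 0)) :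
    ∃ (χ : IrrCharacter G) (d : ℕ), charDegree (χ : G → ℂ) = d ∧ (d = 5 ∨ d = 10) ∧ RatChar χ := by
  have hprin : charDegree (principal G : G → ℂ) = 1 := by
    have h2 : ((charDegree (principal G : G → ℂ) : ℕ) : ℂ) = ((1 : ℕ) : ℂ) := by
      rw [← deg_eq, principal_apply, Nat.cast_one]
    exact_mod_cast h2
  rcases h with h5 | ⟨h0, hne, huniq⟩
  · refine ⟨T.θ 0, 5, by rw [T.deg_θ, h5], Or.inl rfl, fun g hg k hk => ?_⟩
    obtain ⟨ψ, hψd, hψ⟩ := exists_conj_char (T.θ 0) hk
    rw [T.deg_θ, h5] at hψd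
    rw [← hψ]
    have hθ : ∀ j, (T.θ j : G → ℂ) g = (T.θ 0 : G → ℂ) g := fun j => by
      have h1 := T.rel j g hg
      have h2 := T.rel 0 g hg
      rcases T.ε_eq.1 with e | e <;> rw [e] at h1 h2 <;> push_cast at h1 h2
      · linear_combination h1 - h2
      · linear_combination h2 - h1
    rcases T.cover ψ with hc | ⟨i, hc⟩ | ⟨h11, -⟩
    · rw [hc, hprin] at hψd; norm_num at hψd
    · rw [hc] at hψd ⊢
      revert hψd
      refine Fin.addCases (fun i => ?_) (fun i => ?_) i
      · rw [Fin.append_left, T.deg_a]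
        intro hi
        have key : ∀ L ∈ tables, L.2 = 5 → ∀ i : Fin 4, L.1 i ≠ 5 := by decide +kernel
        exact absurd hi (key _ T.mem h5 i)
      · intro _
        rw [Fin.append_right]
        exact hθ i
    · rw [hψd] at h11; norm_num at h11
  · refine ⟨T.a 0, 10, by rw [T.deg_a, h0], Or.inr rfl, fun g hg k hk => ?_⟩
    obtain ⟨ψ, hψd, hψ⟩ := exists_conj_char (T.a 0) hk
    rw [T.deg_a, h0] at hψd
    rw [← hψ]
    rcases T.cover ψ with hc | ⟨i, hc⟩ | ⟨h11, -⟩
    · rw [hc, hprin] at hψd; norm_num at hψd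
    · rw [hc] at hψd ⊢
      revert hψd
      refine Fin.addCases (fun i => ?_) (fun i => ?_) i
      · rw [Fin.append_left, T.deg_a]
        intro hi
        rw [huniq i hi]
      · rw [Fin.append_right, T.deg_θ]
        exact fun hi => absurd hi hne
    · rw [hψd] at h11; norm_num at h11

theorem block_arith {d d' : ℕ} {s s' : ℤ} (hd : d ∈ tableDegs ∨ 11 ∣ d)
    (hd' : d' ∈ tableDegs ∨ 11 ∣ d') (hdiv : d' ∣ 95040) (hs : s = d ∨ s = -(d : ℤ))
    (hs' : s' = d' ∨ s' = -(d' : ℤ)) (h1 : s % 5 = 1) (h2 : s' % 5 = 2) (h : 1 + s = s') :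
    d' = 12 := by
  have h143 : d' ≠ 143 := by rintro rfl; norm_num at hdiv
  simp only [tableDegs, List.mem_cons, List.not_mem_nil, or_false] at hd hd'
  rcases hd with hd | hd <;> rcases hd' with hd' | hd' <;> omega

theorem five_arith {c e n : ℕ} (hodd : ¬ 2 ∣ c) (h11 : ¬ 11 ∣ c) (he : e = 2 ∨ e = 4)
    (hn : n % 5 = 1) (h : c * e * n = 19008) : (c = 9 ∧ e = 2) ∨ (c = 27 ∧ e = 4) := by
  have hc : c ∣ 2 ^ 6 * 3 ^ 3 * 11 :=
    ⟨e * n, by rw [← mul_assoc, h]; norm_num⟩
  have h2 : c.Coprime (2 ^ 6) := Nat.Coprime.pow_right _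
    ((Nat.Prime.coprime_iff_not_dvd Nat.prime_two).2 hodd).symm
  have h11' : c.Coprime 11 :=
    ((Nat.Prime.coprime_iff_not_dvd (by norm_num : Nat.Prime 11)).2 h11).symm
  obtain ⟨i, hi, rfl⟩ := (Nat.dvd_prime_pow (by norm_num : Nat.Prime 3)).1
    (h2.dvd_of_dvd_mul_left (h11'.dvd_of_dvd_mul_right hc))
  interval_cases i <;> rcases he with rfl | rfl <;> omega

theorem sylow_arith {i n : ℕ} (h : i * n = 176) (h3 : i % 3 = 1) (h5 : n % 5 = 1) :
    i = 1 ∨ i = 16 := by
  have hi : i ∣ 176 := ⟨n, h.symm⟩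
  have key : ∀ k < 177, k ∣ 176 → k % 3 = 1 → 176 / k % 5 = 1 → k = 1 ∨ k = 16 := by decide +kernel
  refine key i (Nat.lt_succ_of_le (Nat.le_of_dvd (by norm_num) hi)) hi h3 ?_
  rw [← h, Nat.mul_div_cancel_left _ (by omega)]
  exact h5

/-- The centralizer of an element of order five is not of order `5 · 27`. -/
theorem no_twentyseven [IsSimpleGroup G] (hG : Nat.card G = 95040) (L : LocalEleven G)
    (P : Sylow 5 G)
    (hC : Nat.card (Subgroup.centralizer ((P : Subgroup G) : Set G)) = 135)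
    (hN : Nat.card (Subgroup.normalizer ((P : Subgroup G) : Set G)) = 540) : False := by
  classical
  haveI := Fact.mk (show Nat.Prime 5 by norm_num)
  haveI := Fact.mk (show Nat.Prime 3 by norm_num)
  set C := Subgroup.centralizer ((P : Subgroup G) : Set G) with hCdef
  obtain ⟨S⟩ := (inferInstance : Nonempty (Sylow 3 C))
  have hS : Nat.card (S : Subgroup C) = 27 := by
    simpa using Small.card_sylow_eq (G := C) (p := 3) 3 5 (by rw [hC]; rfl) (by norm_num) S
  have hS1 : Nat.card (Sylow 3 C) = 1 := by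
    have h1 : Nat.card (Sylow 3 C) % 3 = 1 := card_sylow_modEq_one 3 C
    have h2 := Small.card_normalizer_mul S
    rw [hC] at h2
    have h3 : 27 ∣ Nat.card (Subgroup.normalizer ((S : Subgroup C) : Set C)) :=
      hS ▸ Subgroup.card_dvd_of_le Subgroup.le_normalizer
    obtain ⟨a, ha⟩ := h3
    rw [ha, mul_assoc] at h2
    have h4 : Nat.card (Sylow 3 C) ∣ 5 := ⟨a, by rw [mul_comm]; omega⟩
    rcases (Nat.dvd_prime (by norm_num)).1 h4 with h | h
    · exact h
    · rw [h] at h1; norm_num at h1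
  haveI : Subsingleton (Sylow 3 C) := (Nat.card_eq_one_iff_unique.1 hS1).1
  haveI hSn : (S : Subgroup C).Normal := Sylow.normal_of_subsingleton S
  set Q := (S : Subgroup C).map C.subtype with hQdef
  have hQ : Nat.card Q = 27 := by
    rw [hQdef, ← Nat.card_congr
      ((S : Subgroup C).equivMapOfInjective C.subtype C.subtype_injective).toEquiv, hS]
  have hQC : Q ≤ C := Subgroup.map_subtype_le _
  have hQp : IsPGroup 3 Q := IsPGroup.of_card (n := 3) (by rw [hQ]; norm_num)
  -- every three-element of `C` lies in `Q`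
  have hmemQ : ∀ x ∈ C, (∃ n, x ^ 3 ^ n = 1) → x ∈ Q := by
    rintro x hx ⟨n, hn⟩
    have hp : IsPGroup 3 (Subgroup.zpowers (⟨x, hx⟩ : C)) := by
      have hd : orderOf (⟨x, hx⟩ : C) ∣ 3 ^ n := by
        rw [Subgroup.orderOf_mk]; exact orderOf_dvd_of_pow_eq_one hn
      obtain ⟨j, -, hj⟩ := (Nat.dvd_prime_pow (by norm_num : Nat.Prime 3)).1 hd
      exact IsPGroup.of_card (n := j) (by rw [Nat.card_zpowers, hj])
    obtain ⟨S', hS'⟩ := hp.exists_le_sylow
    rw [Subsingleton.elim S' S] at hS'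
    exact ⟨⟨x, hx⟩, hS' (Subgroup.mem_zpowers _), rfl⟩
  set N := Subgroup.normalizer ((P : Subgroup G) : Set G) with hNdef
  set NQ := Subgroup.normalizer ((Q : Subgroup G) : Set G) with hNQdef
  have hNle : N ≤ NQ := by
    have hfwd : ∀ g ∈ N, ∀ x ∈ Q, g * x * g⁻¹ ∈ Q := fun g hg x hx => by
      refine hmemQ _ ?_ ?_
      · refine Subgroup.mem_centralizer_iff.2 fun p hp => ?_
        have hp' : g⁻¹ * p * g ∈ (P : Subgroup G) := by
          have := (Subgroup.mem_normalizer_iff.1 (inv_mem hg) p).1 hp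
          simpa using this
        have hc := Subgroup.mem_centralizer_iff.1 (hQC hx) _ hp'
        calc p * (g * x * g⁻¹) = g * ((g⁻¹ * p * g) * x) * g⁻¹ := by group
          _ = g * (x * (g⁻¹ * p * g)) * g⁻¹ := by rw [hc]
          _ = _ := by group
      · obtain ⟨n, hn⟩ := hQp ⟨x, hx⟩
        refine ⟨n, ?_⟩
        have hx1 : x ^ 3 ^ n = 1 := congrArg Subtype.val hn
        rw [conj_pow, hx1, mul_one, mul_inv_cancel]
    intro g hg
    rw [hNQdef, Subgroup.mem_normalizer_iff]
    refine fun x => ⟨fun hx => hfwd g hg x hx, fun hx => ?_⟩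
    simpa [mul_assoc] using hfwd g⁻¹ (inv_mem hg) _ hx
  -- `Q` is a Sylow subgroup of `G`
  let R : Sylow 3 G := Sylow.ofCard Q (by
    rw [hQ, hG, show 95040 = 3 ^ 3 * 3520 by norm_num,
      Nat.factorization_mul (by norm_num) (by norm_num), Nat.factorization_pow]
    simp [Nat.factorization_eq_zero_of_not_dvd (show ¬ 3 ∣ 3520 by norm_num),
      Nat.Prime.factorization_self (show Nat.Prime 3 by norm_num)])
  have hR : (R : Subgroup G) = Q := Sylow.coe_ofCard _ _
  have hi : Nat.card NQ * Nat.card (Sylow 3 G) = 95040 := by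
    have := Small.card_normalizer_mul R
    rwa [hR, hG] at this
  have hP5 : Nat.card (P : Subgroup G) = 5 := by
    simpa using Small.card_sylow_eq (p := 5) 1 19008 (by rw [hG]; rfl) (by norm_num) P
  have hPN : (P : Subgroup G) ≤ NQ := le_trans Subgroup.le_normalizer hNle
  let P' : Sylow 5 NQ := P.subtype hPN
  have hN' : Nat.card (Subgroup.normalizer ((P' : Subgroup NQ) : Set NQ)) = 540 := by
    have he : Subgroup.normalizer ((P' : Subgroup NQ) : Set NQ) = N.subgroupOf NQ := by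
      rw [show (P' : Subgroup NQ) = (P : Subgroup G).subgroupOf NQ from rfl]
      exact (Subgroup.subgroupOf_normalizer_eq hPN).symm
    rw [he, ← hN, Nat.card_congr (Subgroup.subgroupOfEquivOfLe hNle).toEquiv]
  have hn5 := Small.card_normalizer_mul P'
  rw [hN'] at hn5
  set n := Nat.card (Sylow 5 NQ) with hn
  have hn1 : n % 5 = 1 := card_sylow_modEq_one 5 NQ
  have hi1 : Nat.card (Sylow 3 G) % 3 = 1 := card_sylow_modEq_one 3 G
  have hprod : Nat.card (Sylow 3 G) * n = 176 := by
    rw [← hn5] at hi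
    have h1 : 540 * (Nat.card (Sylow 3 G) * n) = 540 * 176 := by
      rw [mul_left_comm, mul_comm, hi]
    omega
  rcases sylow_arith hprod hi1 hn1 with h | h
  · -- `Q` is normal
    rw [h, mul_one, ← hG] at hi
    have hnor : Q.Normal := by
      rw [← Subgroup.normalizer_eq_top_iff]
      exact Subgroup.eq_top_of_card_eq _ hi
    rcases hnor.eq_bot_or_eq_top with e | e
    · rw [e, Subgroup.card_bot] at hQ; norm_num at hQ
    · rw [e, Subgroup.card_top, hG] at hQ; norm_num at hQ
  · -- an element of order eleven centralizes `Q`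
    rw [h] at hi
    haveI := Fact.mk (show Nat.Prime 11 by norm_num)
    obtain ⟨⟨x, hx⟩, hxo⟩ := exists_prime_orderOf_dvd_card' (G := NQ) 11
      (by rw [show Nat.card NQ = 5940 by omega]; norm_num)
    rw [Subgroup.orderOf_mk] at hxo
    let φ : Subgroup.zpowers x →* MulAut Q :=
      (Q.normalizerMonoidHom).comp (Subgroup.inclusion ((Subgroup.zpowers_le).2 hx))
    letI : MulAction (Subgroup.zpowers x) Q := MulAction.compHom Q φ
    have hz : IsPGroup 11 (Subgroup.zpowers x) :=
      IsPGroup.of_card (n := 1) (by rw [Nat.card_zpowers, hxo, pow_one])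
    have hcong := hz.card_modEq_card_fixedPoints Q
    rw [hQ] at hcong
    have hfix : MulAction.fixedPoints (Subgroup.zpowers x) Q =
        ((Subgroup.centralizer ({x} : Set G)).subgroupOf Q : Set Q) := by
      ext q
      have hiff : x * (q : G) * x⁻¹ = q ↔
          (q : G) ∈ Subgroup.centralizer ({x} : Set G) := by
        rw [Subgroup.mem_centralizer_singleton_iff, mul_inv_eq_iff_eq_mul, eq_comm]
      constructor
      · intro hq
        exact hiff.1 (congrArg Subtype.val (hq ⟨x, Subgroup.mem_zpowers x⟩))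
      · rintro hq ⟨_, i, rfl⟩
        refine Subtype.ext ?_
        show x ^ i * (q : G) * (x ^ i)⁻¹ = q
        have hc : Commute x (q : G) := (Subgroup.mem_centralizer_singleton_iff.1 hq).symm
        rw [(hc.zpow_left i).eq, mul_inv_cancel_right]
    rw [hfix] at hcong
    set m := Nat.card ((Subgroup.centralizer ({x} : Set G)).subgroupOf Q) with hm
    have hdvd : m ∣ 3 ^ 3 := by
      rw [hm, show (3 : ℕ) ^ 3 = 27 by norm_num, ← hQ]
      exact Subgroup.card_subgroup_dvd_card _
    have hmod : 27 % 11 = m % 11 := hcong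
    obtain ⟨j, hj, hjm⟩ := (Nat.dvd_prime_pow (by norm_num)).1 hdvd
    rw [hjm] at hmod
    have hj3 : j = 3 := by interval_cases j <;> omega
    have hle : (Subgroup.centralizer ({x} : Set G)).subgroupOf Q = ⊤ :=
      Subgroup.eq_top_of_card_eq _ (by rw [← hm, hjm, hj3, hQ]; norm_num)
    have h2 := Subgroup.card_dvd_of_le (Subgroup.subgroupOf_eq_top.1 hle)
    rw [hQ, L.cent x hxo] at h2
    norm_num at h2

/-- The statement of the piece. -/
theorem main (hS : IsSimpleGroup G) (hG : Nat.card G = 95040) (L : LocalEleven G) (T : Table G)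
    {y : G} (hy : orderOf y = 5) : 2 ∣ Nat.card (cen y) := by
  classical
  by_contra hodd
  haveI := Fact.mk (show Nat.Prime 5 by norm_num)
  haveI := Fintype.ofFinite G
  haveI := irrFintype G
  haveI := hS
  have hn : ¬ IsMulCommutative G := nonabelian hG
  let P : Sylow 5 G := Sylow.ofCard (Subgroup.zpowers y) (by
    rw [Nat.card_zpowers, hy, hG, show 95040 = 5 ^ 1 * 19008 by norm_num,
      Nat.factorization_mul (by norm_num) (by norm_num), Nat.factorization_pow]
    simp [Nat.factorization_eq_zero_of_not_dvd (show ¬ 5 ∣ 19008 by norm_num),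
      Nat.Prime.factorization_self (show Nat.Prime 5 by norm_num)])
  have hPz : (P : Subgroup G) = Subgroup.zpowers y := Sylow.coe_ofCard _ _
  have hCeq : Subgroup.centralizer ((P : Subgroup G) : Set G) = cen y := by
    rw [hPz, Subgroup.zpowers_eq_closure, Subgroup.centralizer_closure]
  have hP : Nat.card (P : Subgroup G) = 5 := by rw [hPz, Nat.card_zpowers, hy]
  obtain ⟨e, he1, hed, hce⟩ := Small.exists_normalizer_centralizer hn P hP
  obtain ⟨c, hc⟩ := Small.dvd_card_centralizer P hP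
  have hmul := Small.card_normalizer_mul P
  rw [← hce, hc, hG] at hmul
  set n := Nat.card (Sylow 5 G) with hndef
  have hnm : n % 5 = 1 := card_sylow_modEq_one 5 G
  have hmul' : c * e * n = 19008 := by
    have : 5 * (c * e * n) = 5 * 19008 := by linarith
    omega
  have he24 : e = 2 ∨ e = 4 := by
    have h := Nat.le_of_dvd (by norm_num) hed
    norm_num at hed h
    interval_cases e <;> omega
  have hC5 : Nat.card (cen y) = 5 * c := by rw [← hCeq, hc]
  have hcodd : ¬ 2 ∣ c := fun h => hodd (by rw [hC5]; exact h.mul_left 5)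
  have hc11 : ¬ 11 ∣ c := by
    intro h11
    haveI := Fact.mk (show Nat.Prime 11 by norm_num)
    obtain ⟨⟨x, hxC⟩, hxo⟩ := exists_prime_orderOf_dvd_card' (G := cen y) 11
      (by rw [hC5]; exact h11.mul_left 5)
    rw [Subgroup.orderOf_mk] at hxo
    have hyx : y ∈ cen x := Subgroup.mem_centralizer_singleton_iff.2
      (Subgroup.mem_centralizer_singleton_iff.1 hxC).symm
    have h5 : orderOf (⟨y, hyx⟩ : cen x) ∣ Nat.card (cen x) := orderOf_dvd_natCard _
    rw [Subgroup.orderOf_mk, hy, L.cent x hxo] at h5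
    norm_num at h5
  rcases five_arith hcodd hc11 he24 hnm hmul' with ⟨rfl, rfl⟩ | ⟨rfl, rfl⟩
  swap
  · exact no_twentyseven hG L P (by rw [hc]) (by rw [← hce, hc])
  have hrel' : (Subgroup.centralizer ((P : Subgroup G) : Set G)).relIndex
      (Subgroup.normalizer ((P : Subgroup G) : Set G)) = 2 := by
    have hle : Subgroup.centralizer ((P : Subgroup G) : Set G) ≤
        Subgroup.normalizer ((P : Subgroup G) : Set G) := Subgroup.centralizer_le_normalizer _
    have h := Subgroup.relIndex_mul_relIndex _ _ _ bot_le hle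
    rw [Subgroup.relIndex_bot_left, Subgroup.relIndex_bot_left, ← hce] at h
    exact Nat.eq_of_mul_eq_mul_left Nat.card_pos h
  obtain ⟨M, hM⟩ := CharApps.exists_pModular (p := 5)
  haveI := hM.2.1.isPrime
  obtain ⟨X, Y, σ, ε, hB, -, hX, hY, hXp, hε, hYd, hYeq, hrel⟩ :=
    Small.O7920.exists_block_data (by norm_num) hM P hP hrel'
  have hprinc : charDegree (principal G : G → ℂ) = 1 := principal_degree hG
  have heq1 : ∀ χ : IrrCharacter G, charDegree (χ : G → ℂ) = 1 → χ = principal G := fun χ h =>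
    eq_principal hG h
  have h5one : ¬ 5 ∣ orderOf (1 : G) := by rw [orderOf_one]; norm_num
  norm_num at hY
  obtain ⟨θ₁, θ₂, hθne, rfl⟩ := Finset.card_eq_two.1 hY
  have hθm : θ₁ ∈ ({θ₁, θ₂} : Finset (IrrCharacter G)) := by simp
  have hθm2 : θ₂ ∈ ({θ₁, θ₂} : Finset (IrrCharacter G)) := by simp
  have hdeg2 : charDegree (θ₂ : G → ℂ) = charDegree (θ₁ : G → ℂ) := by
    have h := hYeq θ₂ hθm2 θ₁ hθm 1 h5one
    rw [deg_eq, deg_eq, Nat.cast_inj] at h
    exact h
  have hprin : principal G ∈ X := by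
    rcases (hB _).1 (CfsgLib.Blocks.principal_mem_principalBlock M) with h | h
    · exact h
    exfalso
    have key : ∀ ψ ∈ ({θ₁, θ₂} : Finset (IrrCharacter G)), ψ = principal G := fun ψ hψ => by
      have h1 := hYeq ψ hψ _ h 1 h5one
      rw [deg_eq, principal_apply, Nat.cast_eq_one] at h1
      exact heq1 ψ h1
    exact hθne ((key _ hθm).trans (key _ hθm2).symm)
  obtain ⟨χ, hχe⟩ := Finset.card_eq_one.1 (show (X.erase (principal G)).card = 1 by
    rw [Finset.card_erase_of_mem hprin, hX])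
  have hχX : χ ∈ X ∧ χ ≠ principal G := by
    have h : χ ∈ X.erase (principal G) := by simp [hχe]
    rw [Finset.mem_erase] at h
    exact ⟨h.2, h.1⟩
  have hσp : σ (principal G) = 1 := by
    have h := (hXp _ hprin).2.1
    rw [hprinc, Int.modEq_iff_dvd] at h
    rcases (hXp _ hprin).1 with h' | h' <;> rw [h'] at h ⊢ <;> omega
  have hT : ε * (charDegree (θ₁ : G → ℂ) : ℤ) = 1 + σ χ * (charDegree (χ : G → ℂ) : ℤ) := by
    have h := hrel θ₁ hθm 1 h5one
    rw [← Finset.add_sum_erase _ _ hprin, hχe, Finset.sum_singleton, hσp, principal_apply,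
      deg_eq, deg_eq, Int.cast_one, one_mul] at h
    exact_mod_cast h
  have hcases : ∀ ψ : IrrCharacter G, ψ ≠ principal G →
      charDegree (ψ : G → ℂ) ∈ tableDegs ∨ 11 ∣ charDegree (ψ : G → ℂ) := by
    intro ψ hψ
    rcases T.cover ψ with h | ⟨i, h⟩ | ⟨h, -⟩
    · exact absurd h hψ
    · left
      rw [h, table_degree]
      refine Fin.addCases (fun i => ?_) (fun i => ?_) i
      · rw [Fin.append_left]; exact (tables_degs _ T.mem).2 i
      · rw [Fin.append_right]; exact (tables_degs _ T.mem).1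
    · exact Or.inr h
  have hθp : θ₁ ≠ principal G := by
    intro h
    exact hθne (h.trans (heq1 θ₂ (by rw [hdeg2, h, hprinc])).symm)
  have h12 : charDegree (θ₁ : G → ℂ) = 12 := by
    have h1 := (hXp χ hχX.1).2.1
    have h2 := hYd θ₁ hθm
    rw [Int.ModEq] at h1 h2
    norm_num at h1 h2
    refine block_arith (hcases χ hχX.2) (hcases θ₁ hθp) (degree_facts hG θ₁).2.1 ?_ ?_ h1 h2 hT.symm
    · rcases (hXp χ hχX.1).1 with h | h <;> simp [h]
    · rcases hε with h | h <;> simp [h]
  have hidx : ∀ ψ : IrrCharacter G, charDegree (ψ : G → ℂ) = 12 →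
      ∃ i, ψ = Fin.append T.a T.θ i := by
    intro ψ hψ
    rcases T.cover ψ with h | h | ⟨h, -⟩
    · rw [h, hprinc] at hψ; norm_num at hψ
    · exact h
    · rw [hψ] at h; norm_num at h
  obtain ⟨i, hi⟩ := hidx θ₁ h12
  obtain ⟨j, hj⟩ := hidx θ₂ (by rw [hdeg2, h12])
  have hsel := tables_twelve _ T.mem ⟨i, j, fun h => hθne (by rw [hi, hj, h]),
    by rw [← table_degree, ← hi, h12], by rw [← table_degree, ← hj, hdeg2, h12]⟩
  obtain ⟨ξ, d, hd, hd', hr⟩ := exists_rat_char T hsel
  haveI := Fact.mk (show Nat.Prime 3 by norm_num)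
  obtain ⟨S⟩ := (inferInstance : Nonempty (Sylow 3 (cen y)))
  have hScard : Nat.card (S : Subgroup (cen y)) = 9 := by
    simpa using Small.card_sylow_eq (G := cen y) (p := 3) 2 5 (by rw [hC5]; rfl) (by norm_num) S
  refine no_order_nine hG hd hd' hr hy ((S : Subgroup (cen y)).map (cen y).subtype) ?_ ?_
  · rw [← Nat.card_congr
      ((S : Subgroup (cen y)).equivMapOfInjective _ (cen y).subtype_injective).toEquiv, hScard]
  · rintro q ⟨⟨q, hq⟩, -, rfl⟩
    exact (Subgroup.mem_centralizer_singleton_iff.1 hq).symm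

end CfsgLib.M12Order.FiveOdd

namespace CfsgLib.M12Order

universe u

/-- Piece C1. -/
theorem five_odd : FiveOddStmt.{u} :=
  fun _G _ _ hS hG L T _ _ hy => FiveOdd.main hS hG L T hy

end CfsgLib.M12Order
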