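import Cfsg.Agent.Lib.M12Order.ThreeBase

/-!
# Elements of order three in a simple group of order 95040: the table with thirteen characters
-/

set_option autoImplicit false
set_option linter.style.haveILetI false
set_option linter.unusedSectionVars false

open Cfsg CfsgLib.Chars CfsgLib.CharApps CfsgLib.Small
open scoped ComplexConjugate

namespace CfsgLib.M12Order.ThreeColumns

universe u

variable {G : Type u} [Group G] [Finite G]

theorem sum13 {M : Type*} [AddCommMonoid M] (F : Fin 13 → M) :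
    ∑ k, F k = F 0 + F 1 + F 2 + F 3 + F 4 + F 5 + F 6 + F 7 + F 8 + F 9 + F 10 + F 11 + F 12 := by
  simp only [Fin.sum_univ_succ, Fin.sum_univ_zero, add_zero, add_assoc]
  rfl

/-- The degrees. -/
def deg13 : Fin 13 → ℕ := spec13.deg

/-- The column at the special involution. -/
def colU13 : Fin 13 → ℤ := spec13.colU

/-- The column at the other involution. -/
def colT13 : Fin 13 → ℤ := ![1, 6, 0, 0, 0, -4, 2, 2, 3, 0, -3, -8, 7]

/-- The signs in the blocks at five. -/
def sgn13 : Fin 13 → ℤ := spec13.sgn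

/-- The values of a column. -/
def base13 (a b e f i : ℤ) : Fin 13 → ℤ :=
  ![1, a, b, vv a b f i, vv a b f i, 2 - a - 2 * b - 2 * f - 2 * i + e, e, 2 * a + e, f, gv b e f,
    hv b f, i, 1 - 2 * a - 2 * b - 2 * f]

section

variable [IsSimpleGroup G] (hG : Nat.card G = 95040) (h11 : LocalEleven G) (h5 : LocalFive G)
  (K : Chars G spec13)

include hG h11 h5

set_option maxHeartbeats 1000000 in
theorem exists_col13 (c : Fin 13 ≃ IrrCharacter G) (hc : c = K.c) {u t : G} (hu : orderOf u = 2)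
    (ht : orderOf t = 2) (hu5 : Nat.card (cen u) = 240)
    (hU : ∀ k, (c k : G → ℂ) u = (colU13 k : ℂ)) (hTv : ∀ k, (c k : G → ℂ) t = (colT13 k : ℂ)) {z : G} (hz : orderOf z = 3) :
    ∃ a b e f i : ℤ, ((Nat.card (cen z) : ℤ), a, b, e, f, i) ∈ good13 ∧
      ∀ k, (c k : G → ℂ) z = (base13 a b e f i k : ℂ) := by
  classical
  have hd : ∀ k, charDegree (c k : G → ℂ) = deg13 k := fun k => hc ▸ K.deg k
  have hC := card_cen_three hG h11 h5 hz
  obtain ⟨a, ha, hca⟩ := int_val hG c deg13 colU13 hd hU 1 (by decide +kernel) (by decide +kernel) hz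
  obtain ⟨b, hb, hcb⟩ := int_val hG c deg13 colU13 hd hU 2 (by decide +kernel) (by decide +kernel) hz
  obtain ⟨e, he, hce⟩ := int_val hG c deg13 colU13 hd hU 6 (by decide +kernel) (by decide +kernel) hz
  obtain ⟨f, hf, hcf⟩ := int_val hG c deg13 colU13 hd hU 8 (by decide +kernel) (by decide +kernel) hz
  obtain ⟨i, hi, hci⟩ :=
    int_val hG c deg13 colU13 hd hU 11 (by decide +kernel) (by decide +kernel) hz
  have h0 : ∀ g : G, (c 0 : G → ℂ) g = 1 := fun g => by
    have := K.principal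
    rw [← hc] at this
    exact (congrArg (fun χ : IrrCharacter G => (χ : G → ℂ) g) this).trans (principal_apply g)
  have hz5 : ¬ 5 ∣ orderOf z := by rw [hz]; norm_num
  have hz11 : ¬ 11 ∣ orderOf z := by rw [hz]; norm_num
  obtain ⟨h43, hV0⟩ : (c 4 : G → ℂ) z = (c 3 : G → ℂ) z ∧ (c 3 : G → ℂ) z = 1 + (c 10 : G → ℂ) z
      - (c 1 : G → ℂ) z - (c 11 : G → ℂ) z + (c 2 : G → ℂ) z := hc ▸ K.rel_eleven z hz11
  obtain ⟨hP0, hO0⟩ :
      (1 - (c 2 : G → ℂ) z + (c 6 : G → ℂ) z - (c 8 : G → ℂ) z + (c 9 : G → ℂ) z = 0) ∧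
      (-(c 1 : G → ℂ) z + (c 3 : G → ℂ) z + (c 4 : G → ℂ) z - (c 5 : G → ℂ) z +
        (c 7 : G → ℂ) z = 0) := by
    subst hc
    obtain ⟨h1, h2⟩ := K.rel_five z hz5
    have h1' : ((([0, 2, 6, 8, 9] : List (Fin 13))).map fun k =>
        (sgn13 k : ℂ) * ((K.c : Fin 13 ≃ IrrCharacter G) k : G → ℂ) z).sum = 0 := h1
    have h2' : ((([1, 3, 4, 5, 7] : List (Fin 13))).map fun k =>
        (sgn13 k : ℂ) * ((K.c : Fin 13 ≃ IrrCharacter G) k : G → ℂ) z).sum = 0 := h2
    simp [sgn13, spec13] at h1' h2'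
    exact ⟨by linear_combination h1' - h0 z, by linear_combination h2'⟩
  haveI := irrFintype G
  have hzne : z ≠ 1 := fun h => by rw [h, orderOf_one] at hz; norm_num at hz
  have hD := sum_degree_mul (G := G) z
  rw [if_neg hzne, ← c.sum_comp] at hD
  simp only [deg_eq, hd, sum13] at hD
  have hUo := orth_zero c (g := z) (h := u) (by rw [hz, hu]; norm_num)
  simp only [hU, map_intCast, sum13] at hUo
  have hTo := orth_zero c (g := z) (h := t) (by rw [hz, ht]; norm_num)
  simp only [hTv, map_intCast, sum13] at hTo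
  simp [deg13, spec13] at hD
  simp [colU13, spec13] at hUo
  simp [colT13] at hTo
  rw [h0 z] at hD hUo
  rw [h43] at hD hUo
  rw [h43] at hO0
  simp only [← ha, ← hb, ← he, ← hf, ← hi] at hD hUo hTo
  rw [← hb, ← he, ← hf] at hP0
  rw [← ha] at hO0
  rw [← ha, ← hb, ← hi] at hV0
  have hh : (c 10 : G → ℂ) z = (hv b f : ℂ) := by
    simp only [hv]; push_cast
    linear_combination (1 / 220 : ℂ) * hD + (11 / 220 : ℂ) * hUo - (120 / 220 : ℂ) * hV0 -
      (132 / 220 : ℂ) * hP0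
  have hV : (c 3 : G → ℂ) z = (vv a b f i : ℂ) := by
    simp only [vv, hv] at hh ⊢; push_cast at hh ⊢
    linear_combination hV0 + hh
  have hg : (c 9 : G → ℂ) z = (gv b e f : ℂ) := by
    simp only [gv]; push_cast
    linear_combination hP0
  have hw : (c 5 : G → ℂ) z = ((2 - a - 2 * b - 2 * f - 2 * i + e : ℤ) : ℂ) := by
    simp only [vv, hv, gv] at hV hh hg; push_cast at hV hh hg ⊢
    linear_combination (-7 / 80 : ℂ) * hUo - (32 / 80 : ℂ) * hO0 - (5 / 80 : ℂ) * hTo +
      (5 / 80 : ℂ) * h0 z + (120 / 80 : ℂ) * hV - (28 / 80 : ℂ) * hg + (20 / 80 : ℂ) * hh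
  have hA : (c 12 : G → ℂ) z = ((1 - 2 * a - 2 * b - 2 * f : ℤ) : ℂ) := by
    simp only [vv, hv, gv] at hV hh hg; push_cast at hV hh hg hw ⊢
    linear_combination (-1 / 5 : ℂ) * hUo - (6 / 5 : ℂ) * hO0 - 2 * hw + 4 * hV -
      (4 / 5 : ℂ) * hg + hh
  have he2 : (c 7 : G → ℂ) z = ((2 * a + e : ℤ) : ℂ) := by
    simp only [vv] at hV; push_cast at hV hw ⊢
    linear_combination hO0 + hw - 2 * hV
  -- the norm
  have hn := norm_sum c z
  simp only [sum13] at hn
  simp only [h0 z, h43, ← ha, ← hb, ← he, ← hf, ← hi, hV, hh, hg, hw, hA, he2] at hn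
  simp only [map_one, Complex.normSq_intCast] at hn
  have hnorm : (Nat.card (cen z) : ℤ) = sq a b e f i +
      (2 - a - 2 * b - 2 * f - 2 * i + e) * (2 - a - 2 * b - 2 * f - 2 * i + e) +
      (2 * a + e) * (2 * a + e) + (1 - 2 * a - 2 * b - 2 * f) * (1 - 2 * a - 2 * b - 2 * f) := by
    have h7 : ((Nat.card (cen z) : ℤ) : ℝ) = ((sq a b e f i +
      (2 - a - 2 * b - 2 * f - 2 * i + e) * (2 - a - 2 * b - 2 * f - 2 * i + e) +
      (2 * a + e) * (2 * a + e) +
        (1 - 2 * a - 2 * b - 2 * f) * (1 - 2 * a - 2 * b - 2 * f) : ℤ) : ℝ) := by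
      simp only [sq]; push_cast at hn ⊢
      linear_combination -hn
    exact_mod_cast h7
  -- products of two special involutions
  have h4 : u4 a b e f i % 4 = 0 := by
    obtain ⟨m, hm⟩ := card_pairs_dvd u z⁻¹
    have h1 := pairs_eq hG c deg13 hd u u z⁻¹
    rw [hm, hu5, inv_inv] at h1
    simp only [hU, sum13] at h1
    simp [deg13, colU13, spec13] at h1
    simp only [h0 z, h43, ← ha, ← hb, ← he, ← hf, hV, hh, hg, hw, hA, he2] at h1
    have h2 : ((u4 a b e f i : ℤ) : ℂ) = ((4 * (m : ℤ) : ℤ) : ℂ) := by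
      simp only [u4, hv, vv, gv] at h1 ⊢; push_cast at h1 ⊢
      linear_combination (-1 / 14400 : ℂ) * h1
    have h3 : u4 a b e f i = 4 * (m : ℤ) := by exact_mod_cast h2
    omega
  -- products of an element and its inverse equal to the special involution
  have hR : 36 * ((Nat.card (cen z) : ℤ) - sq a b e f i) ≤ zR a b e f i := by
    have h1 := pairs_eq hG c deg13 hd z z⁻¹ u
    rw [inv_involution hu] at h1
    simp only [hU, char_inv (isCharacter_of_irr (c _).2), Complex.mul_conj, sum13] at h1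
    simp [deg13, colU13, spec13] at h1
    simp only [h0 z, h43, ← ha, ← hb, ← he, ← hf, hV, hh, hg, hw, hA, he2] at h1
    simp only [map_one, Complex.normSq_intCast] at h1
    have h2 := congrArg Complex.re h1
    simp [Complex.mul_re, Complex.add_re] at h2
    have h3 : (0 : ℝ) ≤ (Nat.card (Pairs z z⁻¹ u) : ℝ) := Nat.cast_nonneg _
    have h5' : (36 : ℝ) * (((Nat.card (cen z) : ℤ) : ℝ) - (sq a b e f i : ℝ)) ≤
        (zR a b e f i : ℝ) := by
      rw [hnorm]
      simp only [zR]; push_cast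
      nlinarith [h2, h3]
    exact_mod_cast h5'
  have hsq : sq a b e f i ≤ (Nat.card (cen z) : ℤ) := by
    rw [hnorm]
    linarith [mul_self_nonneg (2 - a - 2 * b - 2 * f - 2 * i + e), mul_self_nonneg (2 * a + e),
      mul_self_nonneg (1 - 2 * a - 2 * b - 2 * f)]
  have hv16 : (95040 : ℤ) / (Nat.card (cen z) : ℤ) * vv a b f i % 16 = 0 := by
    have h1 := dvd_index_mul (c 3) hV.symm
    rw [hd] at h1
    have h2 : (Nat.card (cen z)) * (cen z).index = 95040 := by rw [Subgroup.card_mul_index, hG]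
    have h6 : (95040 : ℤ) / (Nat.card (cen z) : ℤ) = ((cen z).index : ℤ) := by
      rw [← show ((Nat.card (cen z) : ℤ) * (cen z).index) = 95040 by exact_mod_cast h2,
        Int.mul_ediv_cancel_left _ (by exact_mod_cast (Nat.card_pos (α := cen z)).ne')]
    rw [h6]
    exact Int.emod_eq_zero_of_dvd h1
  refine ⟨a, b, e, f, i, mem_good search13 hC hca hcb hce hcf hci ?_, fun k => ?_⟩
  · simp only [adm13, common, Bool.and_eq_true, decide_eq_true_eq]
    exact ⟨⟨⟨⟨hsq, hR⟩, h4⟩, hv16⟩, hnorm⟩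
  · fin_cases k
    · exact (h0 z).trans (Int.cast_one).symm
    exacts [ha.symm, hb.symm, hV, h43.trans hV, hw, he.symm, he2, hf.symm, hg, hh, hi.symm, hA]

include K in
theorem sys13 : Sys G := by
  classical
  obtain ⟨c, hc⟩ : ∃ c : Fin 13 ≃ IrrCharacter G, c = K.c := ⟨_, rfl⟩
  obtain ⟨u, hu, hu5⟩ := exists_five_involution hG h5
  obtain ⟨hu240, hU⟩ := K.invol_five u hu hu5
  obtain ⟨t, ht, ht64⟩ := exists_central_involution hG
  have hnt : ¬ 5 ∣ Nat.card (cen t) := fun h => by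
    rw [(K.invol_five t ht h).1] at ht64
    norm_num at ht64
  obtain ⟨-, T, hT, hTv⟩ := K.invol_other t ht hnt
  obtain rfl : T = colT13 := List.mem_singleton.mp hT
  have hcol := fun (z : G) (hz : orderOf z = 3) =>
    exists_col13 hG h11 h5 K c hc hu ht hu240 (fun k => hc ▸ hU k) (fun k => hc ▸ hTv k) hz
  refine ⟨fun z => (c 2 : G → ℂ) z = -3, fun z hz => ?_, fun z w hz hw hex hne => ?_⟩
  · obtain ⟨a, b, e, f, i, hm, hv⟩ := hcol z hz
    have hb : (c 2 : G → ℂ) z = (b : ℂ) := (hv 2).trans (by simp [base13])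
    simp only [good13, List.mem_cons, List.not_mem_nil, or_false, Prod.mk.injEq] at hm
    rcases hm with ⟨hC, rfl, rfl, rfl, rfl, rfl⟩ | ⟨hC, rfl, rfl, rfl, rfl, rfl⟩ |
      ⟨hC, rfl, rfl, rfl, rfl, rfl⟩ <;> simp [hb] <;> omega
  · obtain ⟨a, b, e, f, i, hm, hv⟩ := hcol z hz
    obtain ⟨a', b', e', f', i', hm', hv'⟩ := hcol w hw
    have hb : (c 2 : G → ℂ) z = (b : ℂ) := (hv 2).trans (by simp [base13])
    have hb' : (c 2 : G → ℂ) w = (b' : ℂ) := (hv' 2).trans (by simp [base13])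
    simp only [hb, hb']
    have hiff : ∀ m : ℤ, ((m : ℂ) = -3 ↔ m = -3) := fun m => by
      rw [show (-3 : ℂ) = ((-3 : ℤ) : ℂ) by norm_num, Int.cast_inj]
    rw [hiff, hiff]
    have h := orth c z w
    rw [if_neg hne] at h
    simp only [hv, hv', map_intCast] at h
    have h' : ∑ k, base13 a b e f i k * base13 a' b' e' f' i' k = 0 := by exact_mod_cast h
    simp only [good13, List.mem_cons, List.not_mem_nil, or_false, Prod.mk.injEq] at hm hm'
    rcases hm with ⟨-, rfl, rfl, rfl, rfl, rfl⟩ | ⟨-, rfl, rfl, rfl, rfl, rfl⟩ |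
      ⟨-, rfl, rfl, rfl, rfl, rfl⟩ <;>
    rcases hm' with ⟨-, rfl, rfl, rfl, rfl, rfl⟩ | ⟨-, rfl, rfl, rfl, rfl, rfl⟩ |
      ⟨-, rfl, rfl, rfl, rfl, rfl⟩ <;>
    first
    | omega
    | (revert h'; decide +kernel)

end

end CfsgLib.M12Order.ThreeColumns
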