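import Cfsg.Agent.Lib.M12Order.ThreeFifteen
import Cfsg.Agent.Lib.M12Order.ThreeThirteen

/-!
# Simple groups of order 95040: the classes of elements of order three
-/

set_option autoImplicit false
set_option linter.style.haveILetI false

open Cfsg CfsgLib.Chars CfsgLib.CharApps

namespace CfsgLib.M12Order

universe u

open ThreeColumns in
/-- Two classes of elements of order three, with centralizers of order 36 and 54. -/
theorem local_of_sys {G : Type u} [Group G] [Finite G] [IsSimpleGroup G]
    (hG : Nat.card G = 95040) (h : Sys G) : LocalThree G := by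
  classical
  haveI := Fintype.ofFinite G
  obtain ⟨M, hM, horth⟩ := h
  obtain ⟨z₀, hz₀, h27⟩ := exists_twentyseven hG
  have hC₀ : ¬ M z₀ ∧ (Nat.card (cen z₀) = 27 ∨ Nat.card (cen z₀) = 54) := by
    obtain ⟨h1, h2⟩ := hM z₀ hz₀
    have hn : ¬ M z₀ := fun hm => by
      rw [h1 hm] at h27
      norm_num at h27
    refine ⟨hn, ?_⟩
    rcases h2 hn with h | h | h | h <;> omega
  have hother : ∀ z : G, orderOf z = 3 → ¬ IsConj z₀ z → M z ∧ Nat.card (cen z) = 36 := by
    intro z hz hne
    have hm := (horth z z₀ hz hz₀ (hC₀.2.elim Or.inl fun h => Or.inr (Or.inl h)) hne).2 hC₀.1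
    exact ⟨hm, (hM z hz).1 hm⟩
  have hconj36 : ∀ z z' : G, orderOf z = 3 → orderOf z' = 3 → M z → M z' → IsConj z z' :=
    fun z z' hz hz' hm hm' => by_contra fun hne =>
      (horth z' z hz' hz (Or.inr (Or.inr hm)) hne).1 hm' hm
  have hcard : ∀ z z' : G, IsConj z z' → Nat.card (cen z') = Nat.card (cen z) := by
    intro z z' hc
    have h1 : Nat.card {g : G // IsConj z g} = Nat.card {g : G // IsConj z' g} :=
      Nat.card_congr (Equiv.subtypeEquivRight fun g => ⟨hc.symm.trans, hc.trans⟩)
    rw [card_class, card_class] at h1
    have h2 := Subgroup.card_mul_index (cen z)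
    have h3 := Subgroup.card_mul_index (cen z')
    rw [← h1, ← h2] at h3
    exact Nat.eq_of_mul_eq_mul_right (Nat.pos_of_ne_zero (Subgroup.index_ne_zero_of_finite)) h3
  have h54 : Nat.card (cen z₀) = 54 := by
    refine hC₀.2.resolve_left fun h => ?_
    -- counting the solutions of `g ^ 3 = 1`
    have h3 := three_dvd_card_cubes hz₀
    have hidx : (cen z₀).index = 3520 := by
      have := Subgroup.card_mul_index (cen z₀)
      rw [h, hG] at this
      omega
    by_cases hex : ∃ z : G, orderOf z = 3 ∧ ¬ IsConj z₀ z
    · obtain ⟨z₁, hz₁, hne₁⟩ := hex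
      have hidx₁ : (cen z₁).index = 2640 := by
        have := Subgroup.card_mul_index (cen z₁)
        rw [(hother z₁ hz₁ hne₁).2, hG] at this
        omega
      have hsplit : Nat.card {g : G // g ^ 3 = 1} = 1 + 3520 + 2640 := by
        rw [← hidx, ← hidx₁, ← card_class, ← card_class]
        have hset : ∀ g : G, g ^ 3 = 1 ↔ g = 1 ∨ IsConj z₀ g ∨ IsConj z₁ g := by
          intro g
          constructor
          · intro hg
            by_cases hg1 : g = 1
            · exact Or.inl hg1
            have hgo : orderOf g = 3 := by
              haveI := Fact.mk Nat.prime_three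
              exact orderOf_eq_prime hg hg1
            by_cases hg0 : IsConj z₀ g
            · exact Or.inr (Or.inl hg0)
            · exact Or.inr (Or.inr (hconj36 z₁ g hz₁ hgo (hother z₁ hz₁ hne₁).1
                (hother g hgo hg0).1))
          · rintro (rfl | hg | hg)
            · exact one_pow 3
            all_goals
              obtain ⟨x, rfl⟩ := isConj_iff.1 hg
              rw [conj_pow]
            · rw [← hz₀, pow_orderOf_eq_one, mul_one, mul_inv_cancel]
            · rw [← hz₁, pow_orderOf_eq_one, mul_one, mul_inv_cancel]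
        rw [Nat.card_congr (Equiv.subtypeEquivRight hset), Nat.card_eq_fintype_card,
          Nat.card_eq_fintype_card, Nat.card_eq_fintype_card, Fintype.card_subtype_or_disjoint,
          Fintype.card_subtype_or_disjoint, Fintype.card_subtype_eq, add_assoc]
        · rw [Pi.disjoint_iff]
          intro g
          simp only [Prop.disjoint_iff]
          exact fun ⟨h0, h1⟩ => hne₁ (h0.trans h1.symm)
        · rw [Pi.disjoint_iff]
          intro g
          simp only [Prop.disjoint_iff]
          rintro ⟨rfl, h0 | h1⟩
          · rw [isConj_one_left.1 h0, orderOf_one] at hz₀; norm_num at hz₀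
          · rw [isConj_one_left.1 h1, orderOf_one] at hz₁; norm_num at hz₁
      rw [hsplit] at h3
      norm_num at h3
    · push Not at hex
      have hsplit : Nat.card {g : G // g ^ 3 = 1} = 1 + 3520 := by
        rw [← hidx, ← card_class]
        have hset : ∀ g : G, g ^ 3 = 1 ↔ g = 1 ∨ IsConj z₀ g := by
          intro g
          constructor
          · intro hg
            by_cases hg1 : g = 1
            · exact Or.inl hg1
            exact Or.inr (hex g (by haveI := Fact.mk Nat.prime_three; exact orderOf_eq_prime hg hg1))
          · rintro (rfl | hg)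
            · exact one_pow 3
            · obtain ⟨x, rfl⟩ := isConj_iff.1 hg
              rw [conj_pow, ← hz₀, pow_orderOf_eq_one, mul_one, mul_inv_cancel]
        rw [Nat.card_congr (Equiv.subtypeEquivRight hset), Nat.card_eq_fintype_card,
          Nat.card_eq_fintype_card, Fintype.card_subtype_or_disjoint, Fintype.card_subtype_eq]
        rw [Pi.disjoint_iff]
        intro g
        simp only [Prop.disjoint_iff]
        rintro ⟨rfl, h0⟩
        rw [isConj_one_left.1 h0, orderOf_one] at hz₀
        norm_num at hz₀
      rw [hsplit] at h3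
      norm_num at h3
  refine ⟨fun z hz => ?_, fun z z' hz hz' he => ?_⟩
  · by_cases hc : IsConj z₀ z
    · exact Or.inr ((hcard z₀ z hc).trans h54)
    · exact Or.inl (hother z hz hc).2
  · by_cases hc : IsConj z₀ z <;> by_cases hc' : IsConj z₀ z'
    · exact hc.symm.trans hc'
    · rw [hcard z₀ z hc, h54, (hother z' hz' hc').2] at he
      norm_num at he
    · rw [hcard z₀ z' hc', h54, (hother z hz hc).2] at he
      norm_num at he
    · exact hconj36 z z' hz hz' (hother z hz hc).1 (hother z' hz' hc').1

open ThreeColumns in
/-- Piece E. -/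
theorem three : ThreeStmt.{u} := by
  intro G _ _ hs hG h11 h5 hc
  haveI := hs
  rcases hc with ⟨⟨K⟩⟩ | ⟨⟨K⟩⟩
  · exact local_of_sys hG (sys15 hG h11 h5 K)
  · exact local_of_sys hG (sys13 hG h11 h5 K)

end CfsgLib.M12Order
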