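import Cfsg.Agent.Lib.M12Order.Pieces
import Cfsg.Agent.Lib.M12Order.Eleven
import Cfsg.Agent.Lib.M12Order.BlockTable
import Cfsg.Agent.Lib.M12Order.BlockInvol
import Cfsg.Agent.Lib.M12Order.FiveOdd
import Cfsg.Agent.Lib.M12Order.FiveEven
import Cfsg.Agent.Lib.M12Order.Three
import Cfsg.Agent.Lib.M12Order.End
import Cfsg.Agent.Lib.M12Order.Dodecad

/-!
# Simple groups of order 95040: everything except the degrees
-/

set_option autoImplicit false

open Cfsg
open scoped Pointwise

namespace CfsgLib.M12Order

universe u

/-- The intermediate structures, given the degrees. -/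
theorem structure_of_degrees (hD : DegreesStmt.{u}) (G : Type u) [Group G] [Finite G]
    (hs : IsSimpleGroup G) (hG : Nat.card G = 95040) :
    LocalEleven G ∧ LocalFive G ∧ HasChars G ∧ LocalThree G :=
  structure_of_pieces eleven BlockTable.table invol_values five_odd five_even hD three G hs hG

/-- Uniqueness of the Mathieu group of degree twelve, given the degrees. -/
theorem unique_of_degrees (hD : DegreesStmt.{u}) : Unique.{u} :=
  unique_of_pieces eleven BlockTable.table invol_values five_odd five_even hD three ident

end CfsgLib.M12Order
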