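import Cfsg.Agent.Lib.M12Order.Interface

/-!
# Simple groups of order 95040: arithmetic of the principal block at eleven

The degrees admitting values at an involution whose centralizer has order divisible by 64.
-/

set_option autoImplicit false

namespace CfsgLib.M12Order.BlockTable

/-- The degrees of non-exceptional characters. -/
def neDegs : List ℕ := [10, 12, 32, 45, 54, 120, 144]

/-- The sign attached to a degree congruent to plus or minus one. -/
def sgnDeg (d : ℕ) : ℤ := if d % 11 = 1 then 1 else -1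

/-- The orders of centralizers of central involutions. -/
def centralCents : List ℕ := [64, 192, 320, 576, 960, 1728, 2880, 8640]

/-- The range of the absolute value of a value of degree `d`. -/
def reach (d : ℕ) : ℕ := min (d - 1) 92

/-- The possible values of a character of degree `d` at such an involution. -/
def vals (d C : ℕ) : List ℤ :=
  ((List.range (2 * reach d + 1)).map fun i : ℕ => (i : ℤ) - (reach d : ℤ)).filter fun v =>
    decide ((4 : ℤ) ∣ (d : ℤ) - v ∧ (d : ℤ) ∣ ((95040 / C : ℕ) : ℤ) * v ∧ v * v ≤ (C : ℤ))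

/-- The signed degree of the exceptional characters. -/
def excDeg (a b c d : ℕ) : ℤ :=
  1 + (sgnDeg a * a + sgnDeg b * b + sgnDeg c * c + sgnDeg d * d)

/-- The conditions on the values at an involution. -/
def fitsValues (a b c d C : ℕ) (p q r s : ℤ) : Bool :=
  let T := excDeg a b c d
  let de := T.natAbs
  let w := T.sign * (1 + (sgnDeg a * p + sgnDeg b * q + sgnDeg c * r + sgnDeg d * s))
  decide (w.natAbs < de ∧ (4 : ℤ) ∣ (de : ℤ) - w ∧ (de : ℤ) ∣ ((95040 / C : ℕ) : ℤ) * w ∧
    1 + (p * p + q * q + r * r + s * s) + 2 * (w * w) ≤ (C : ℤ) ∧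
    8640 + (sgnDeg a * ((8640 / a : ℕ) : ℤ) * (p * p) + sgnDeg b * ((8640 / b : ℕ) : ℤ) * (q * q) +
      sgnDeg c * ((8640 / c : ℕ) : ℤ) * (r * r) + sgnDeg d * ((8640 / d : ℕ) : ℤ) * (s * s)) -
      T.sign * ((8640 / de : ℕ) : ℤ) * (w * w) = 0)

/-- Whether a central involution is possible. -/
def centralFits (a b c d : ℕ) : Bool :=
  centralCents.any fun C => (vals a C).any fun p => (vals b C).any fun q => (vals c C).any fun r =>
    (vals d C).any fun s => fitsValues a b c d C p q r s

/-- The tables as lists. -/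
def tableLists : List (List ℕ × ℕ) := tables.map fun t => (List.ofFn t.1, t.2)

section

set_option maxRecDepth 100000
set_option synthInstance.maxHeartbeats 100000
set_option synthInstance.maxSize 4096

theorem tables_arith : ∀ a ∈ neDegs, ∀ b ∈ neDegs, ∀ c ∈ neDegs, ∀ d ∈ neDegs,
    a ≤ b → b ≤ c → c ≤ d → 2 ≤ (excDeg a b c d).natAbs → (excDeg a b c d).natAbs < 309 →
    (excDeg a b c d).natAbs ∣ 95040 → centralFits a b c d = true →
    ([a, b, c, d], (excDeg a b c d).natAbs) ∈ tableLists := by
  decide +kernel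

theorem exc_dvd : ∀ a ∈ neDegs, ∀ b ∈ neDegs, ∀ c ∈ neDegs, ∀ d ∈ neDegs,
    a ≤ b → b ≤ c → c ≤ d → 2 ≤ (excDeg a b c d).natAbs → (excDeg a b c d).natAbs < 309 →
    (excDeg a b c d).natAbs ∣ 95040 → (excDeg a b c d).natAbs ∣ 8640 := by
  decide +kernel

theorem ne_degree_list : ∀ d < (309 : ℕ), d ∣ 95040 → d ≠ 1 → (d % 11 = 1 ∨ d % 11 = 10) →
    d ∈ neDegs := by
  decide +kernel

end

end CfsgLib.M12Order.BlockTable
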