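import Cfsg.Agent.Lib.M12Order.SmallSection

/-!
# An element of order three centralizing a Sylow subgroup of order eleven
-/

set_option autoImplicit false
set_option linter.unusedSectionVars false
set_option linter.style.haveILetI false

open Subgroup Cfsg CfsgLib.Small

namespace CfsgLib.M12Order

universe u

/-- A central element of order three outside or inside a perfect normal subgroup. -/
theorem three_mul_dvd {X : Type u} [Group X] [Finite X] {c : X} (hc : orderOf c = 3)
    (hcen : c ∈ center X) (D : Subgroup X) [D.Normal] (K : Subgroup ↥D) [K.Normal]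
    [IsSimpleGroup (↥D ⧸ K)] (hna : ¬ IsMulCommutative (↥D ⧸ K)) :
    3 * Nat.card (↥D ⧸ K) ∣ Nat.card X := by
  by_cases hcD : c ∈ D
  · have hcK : (⟨c, hcD⟩ : ↥D) ∈ K := by
      rw [← QuotientGroup.eq_one_iff, ← mem_bot, ← DegGraph.center_eq_bot hna, mem_center_iff]
      intro y
      obtain ⟨e, rfl⟩ := QuotientGroup.mk_surjective y
      rw [← QuotientGroup.mk_mul, ← QuotientGroup.mk_mul]
      exact congrArg _ (Subtype.ext (mem_center_iff.1 hcen e))
    have h3 : 3 ∣ Nat.card ↥K := by
      have h := Subgroup.orderOf_dvd_natCard K hcK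
      rwa [Subgroup.orderOf_mk, hc] at h
    refine Dvd.dvd.trans ?_ (card_subgroup_dvd_card D)
    rw [K.card_eq_card_quotient_mul_card_subgroup, mul_comm 3]
    exact Nat.mul_dvd_mul_left _ h3
  · haveI hZn : (zpowers c).Normal := by
      refine ⟨fun z hz g => ?_⟩
      have hzc : z ∈ center X := zpowers_le.2 hcen hz
      rwa [mem_center_iff.1 hzc g, mul_inv_cancel_right]
    have hdis : (zpowers c).subgroupOf D = ⊥ := by
      rw [eq_bot_iff]
      intro d hd
      rw [mem_subgroupOf] at hd
      obtain ⟨i, hi⟩ := hd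
      rw [mem_bot]
      by_contra hd1
      have hne : (d : X) ≠ 1 := fun e => hd1 (Subtype.ext e)
      have hgen : c ∈ zpowers (d : X) := by
        have hle : zpowers (d : X) ≤ zpowers c := zpowers_le.2 ⟨i, hi⟩
        have h2 := card_dvd_of_le hle
        rw [Nat.card_zpowers c, hc] at h2
        rcases (Nat.dvd_prime Nat.prime_three).1 h2 with h | h
        · rw [Nat.card_zpowers, orderOf_eq_one_iff] at h
          exact absurd h hne
        · rw [eq_of_le_of_card_ge hle (by rw [h, Nat.card_zpowers, hc])]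
          exact mem_zpowers c
      exact hcD (zpowers_le.2 d.2 hgen)
    have h1 : Nat.card ↥D ∣ (zpowers c).index := by
      have h := (zpowers c).relIndex_dvd_index_of_normal D
      rwa [relIndex, hdis, index_bot] at h
    have h2 := Nat.mul_dvd_mul_left (Nat.card ↥(zpowers c)) h1
    rw [(zpowers c).card_mul_index, Nat.card_zpowers, hc] at h2
    refine Dvd.dvd.trans ?_ h2
    exact Nat.mul_dvd_mul_left _ K.card_quotient_dvd_card

variable {T : Type u} [Group T] [Finite T] [IsSimpleGroup T]

/-- The centralizer of an element of order three cannot be so large. -/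
theorem false_of_central_three (hna : ¬ IsMulCommutative T) [Fact (Nat.Prime 11)]
    (hN : Nat.card T = 23760 ∨ Nat.card T = 47520) (P : Sylow 11 T)
    (hP : Nat.card (P : Subgroup T) = 11)
    (hC : Nat.card (centralizer ((P : Subgroup T) : Set T)) = 33)
    (hNP : ¬ 9 ∣ Nat.card (normalizer ((P : Subgroup T) : Set T))) : False := by
  haveI : Fact (Nat.Prime 3) := ⟨Nat.prime_three⟩
  obtain ⟨⟨c, hcP⟩, hc⟩ :=
    exists_prime_orderOf_dvd_card' (G := ↥(centralizer ((P : Subgroup T) : Set T))) 3
      (by rw [hC]; norm_num)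
  rw [Subgroup.orderOf_mk] at hc
  have hc1 : c ≠ 1 := fun h => by rw [h, orderOf_one] at hc; norm_num at hc
  set H := centralizer ({c} : Set T) with hH
  have hPH : (P : Subgroup T) ≤ H := fun x hx => by
    rw [hH, mem_centralizer_singleton_iff]
    exact mem_centralizer_iff.1 hcP x hx
  have hcH : c ∈ H := by rw [hH, mem_centralizer_singleton_iff]
  have hTdvd : Nat.card T ∣ 95040 := by rcases hN with h | h <;> rw [h] <;> norm_num
  -- three squared divides the centralizer
  have h9 : 9 ∣ Nat.card ↥H := by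
    obtain ⟨S, hS⟩ := (IsPGroup.of_card (p := 3) (n := 1)
      (by rw [Nat.card_zpowers, hc, pow_one] : Nat.card ↥(zpowers c) = 3 ^ 1)).exists_le_sylow
    have hcS : c ∈ (S : Subgroup T) := hS (mem_zpowers c)
    obtain ⟨m, hm, hm3⟩ : ∃ m, Nat.card T = 3 ^ 3 * m ∧ ¬ 3 ∣ m := by
      rcases hN with h | h
      · exact ⟨880, by rw [h]; norm_num, by norm_num⟩
      · exact ⟨1760, by rw [h]; norm_num, by norm_num⟩
    have hSc : Nat.card ↥(S : Subgroup T) = 3 ^ 3 := card_sylow_eq 3 m hm hm3 S
    haveI : Nontrivial ↥(S : Subgroup T) :=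
      Finite.one_lt_card_iff_nontrivial.1 (by rw [hSc]; norm_num)
    haveI := S.2.center_nontrivial
    obtain ⟨⟨z, hz⟩, hz1⟩ := exists_ne (1 : ↥(center ↥(S : Subgroup T)))
    set A := (S : Subgroup T) ⊓ H with hA
    have hAH : Nat.card ↥A ∣ Nat.card ↥H := card_dvd_of_le inf_le_right
    have hAS : Nat.card ↥A ∣ 3 ^ 3 := hSc ▸ card_dvd_of_le inf_le_left
    obtain ⟨i, -, hi⟩ := (Nat.dvd_prime_pow Nat.prime_three).1 hAS
    have hA2 : 2 ≤ i := by
      by_contra hcon
      have hzc : z.1 ∈ H := by
        rw [hH, mem_centralizer_singleton_iff]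
        exact (congrArg Subtype.val (mem_center_iff.1 hz ⟨c, hcS⟩)).symm
      have hcA : c ∈ A := mem_inf.2 ⟨hcS, hcH⟩
      have hle : zpowers c ≤ A := zpowers_le.2 hcA
      have heq : zpowers c = A := eq_of_le_of_card_ge hle (by
        rw [hi, Nat.card_zpowers, hc]
        calc 3 ^ i ≤ 3 ^ 1 := Nat.pow_le_pow_right (by norm_num) (by omega)
          _ = 3 := pow_one 3)
      have hzA : (z : T) ∈ zpowers c := heq ▸ mem_inf.2 ⟨z.2, hzc⟩
      -- then `c` is central in the Sylow subgroup
      have hzne : (z : T) ≠ 1 := fun e => hz1 (Subtype.ext (Subtype.ext e))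
      have hgen : c ∈ zpowers (z : T) := by
        have hle' : zpowers (z : T) ≤ zpowers c := zpowers_le.2 hzA
        have h2 := card_dvd_of_le hle'
        rw [Nat.card_zpowers c, hc] at h2
        rcases (Nat.dvd_prime Nat.prime_three).1 h2 with h | h
        · rw [Nat.card_zpowers, orderOf_eq_one_iff] at h
          exact absurd h hzne
        · rw [eq_of_le_of_card_ge hle' (by rw [h, Nat.card_zpowers, hc])]
          exact mem_zpowers c
      obtain ⟨k, hk⟩ := hgen
      have hSA : (S : Subgroup T) ≤ A := fun s hs => mem_inf.2 ⟨hs, by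
        rw [hH, mem_centralizer_singleton_iff, ← hk]
        exact ((show Commute (s : T) (z : T) from
          congrArg Subtype.val (mem_center_iff.1 hz ⟨s, hs⟩)).zpow_right k).eq⟩
      have h3 := card_dvd_of_le hSA
      rw [hSc, hi, Nat.pow_dvd_pow_iff_le_right (by norm_num : 1 < 3)] at h3
      omega
    exact Dvd.dvd.trans (by rw [show 9 = 3 ^ 2 by norm_num]; exact pow_dvd_pow 3 hA2) (hi ▸ hAH)
  -- the Sylow subgroup is not normal in the centralizer
  set PH : Sylow 11 ↥H := P.subtype hPH with hPH'
  have hnot : ¬ (PH : Subgroup ↥H).Normal := by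
    intro hn
    refine hNP (h9.trans (card_dvd_of_le fun h hh => ?_))
    rw [mem_normalizer_iff]
    intro x
    rw [hPH', Sylow.coe_subtype] at hn
    constructor
    · intro hx
      exact hn.conj_mem ⟨x, hPH hx⟩ (mem_subgroupOf.2 hx) ⟨h, hh⟩
    · intro hx
      have h1 := hn.conj_mem ⟨h * x * h⁻¹, hPH hx⟩ (mem_subgroupOf.2 hx) (⟨h, hh⟩⁻¹ : ↥H)
      rw [mem_subgroupOf] at h1
      simpa [mul_assoc] using h1
  obtain ⟨D, hDn, K, hKn, hT, hna', -, -, -, hord⟩ :=
    exists_eleven_section ((card_subgroup_dvd_card H).trans hTdvd) PH hnot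
  have hdvd : 3 * Nat.card (↥D ⧸ K) ∣ Nat.card ↥H :=
    three_mul_dvd (c := (⟨c, hcH⟩ : ↥H)) (by rw [Subgroup.orderOf_mk, hc])
      (mem_center_iff.2 fun g => Subtype.ext (by
        have h := mem_centralizer_singleton_iff.1 g.2
        exact h)) D K hna'
  have hj : H.index ≤ 24 := by
    have h1 := H.card_mul_index
    obtain ⟨k, hk⟩ := hdvd
    rw [hk] at h1
    have hk0 : 1 ≤ k := Nat.pos_of_ne_zero fun e => Nat.card_pos.ne' (hk.trans (by rw [e, mul_zero]))
    have h660 : 660 ≤ Nat.card (↥D ⧸ K) := by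
      have key : ∀ t ∈ sectionOrders, 660 ≤ t := by decide
      exact key _ hord
    have hle : 1980 * H.index ≤ 47520 := by
      have h2 : Nat.card T ≤ 47520 := by rcases hN with h | h <;> omega
      refine le_trans ?_ h2
      rw [← h1]
      refine Nat.mul_le_mul_right _ ?_
      calc 1980 = 3 * 660 * 1 := by norm_num
        _ ≤ _ := Nat.mul_le_mul (Nat.mul_le_mul_left 3 h660) hk0
    omega
  -- every conjugate of `c` commutes with `c`
  obtain ⟨⟨u, huP⟩, hu⟩ := exists_prime_orderOf_dvd_card' (G := ↥(P : Subgroup T)) 11 (by rw [hP])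
  rw [Subgroup.orderOf_mk] at hu
  have huc : Commute u c := mem_centralizer_iff.1 hcP u huP
  have hgenP : zpowers u = (P : Subgroup T) :=
    eq_of_le_of_card_ge (zpowers_le.2 huP) (by rw [hP, Nat.card_zpowers, hu])
  have hA33 : orderOf (u * c) = 33 := by
    rw [huc.orderOf_mul_eq_mul_orderOf_of_coprime (by rw [hu, hc]; norm_num), hu, hc]
  have hCA : centralizer ((P : Subgroup T) : Set T) = zpowers (u * c) := by
    refine (eq_of_le_of_card_ge (zpowers_le.2 ?_) (by rw [hC, Nat.card_zpowers, hA33])).symm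
    refine mul_mem ?_ hcP
    rw [← hgenP, mem_centralizer_iff]
    rintro _ ⟨i, rfl⟩
    exact ((Commute.refl u).zpow_left i).eq
  have hall : ∀ g : T, g * c * g⁻¹ ∈ H := by
    intro g
    set d := g * c * g⁻¹ with hd
    have hidx : (centralizer ({d} : Set T)).index = H.index := by
      rw [hH, Chars.index_centralizer_eq, Chars.index_centralizer_eq]
      refine Nat.card_congr (Equiv.subtypeEquivRight fun x => ?_)
      have hcd : IsConj c d := isConj_iff.2 ⟨g, rfl⟩
      exact ⟨fun h => hcd.trans h, fun h => hcd.symm.trans h⟩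
    set B := centralizer ({d} : Set T) ⊓ zpowers (u * c) with hB
    have hB1 : B ≠ ⊥ := by
      intro hb
      have h1 : (centralizer ({d} : Set T)).relIndex (zpowers (u * c)) ≤
          (centralizer ({d} : Set T)).index := by
        rw [← relIndex_top_right]
        exact relIndex_le_of_le_right le_top (by rw [relIndex_top_right]; exact index_ne_zero_of_finite)
      have h2 : (centralizer ({d} : Set T)).relIndex (zpowers (u * c)) = 33 := by
        rw [← inf_relIndex_right, ← hB, hb, relIndex_bot_left, Nat.card_zpowers, hA33]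
      omega
    have hBd : Nat.card ↥B ∣ 33 := hA33 ▸ (Nat.card_zpowers (u * c)) ▸ card_dvd_of_le inf_le_right
    have hB3 : 3 ∣ Nat.card ↥B ∨ 11 ∣ Nat.card ↥B := by
      have hne : Nat.card ↥B ≠ 1 := fun h => hB1 (B.eq_bot_of_card_eq h)
      have key : ∀ k ∈ Nat.divisors 33, k ≠ 1 → 3 ∣ k ∨ 11 ∣ k := by decide
      exact key _ (Nat.mem_divisors.2 ⟨hBd, by norm_num⟩) hne
    rw [hH, mem_centralizer_singleton_iff]
    rcases hB3 with h | h
    · obtain ⟨⟨b, hb⟩, hbo⟩ := exists_prime_orderOf_dvd_card' (G := ↥B) 3 h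
      rw [Subgroup.orderOf_mk] at hbo
      obtain ⟨hbd, hbz⟩ := mem_inf.1 hb
      obtain ⟨i, rfl⟩ := hbz
      -- an element of order three of the cyclic group is a power of `c`
      have h11 : (u * c) ^ i ∈ zpowers c := by
        simp only [huc.mul_zpow] at hbo ⊢
        have hu3 : (u ^ i) ^ 3 = 1 := by
          have hc3 : (c ^ i) ^ 3 = 1 := by
            rw [← zpow_natCast, zpow_comm, zpow_natCast, ← hc, pow_orderOf_eq_one, one_zpow]
          have hb3 : (u ^ i * c ^ i) ^ 3 = 1 := by rw [← hbo]; exact pow_orderOf_eq_one _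
          rwa [(huc.zpow_zpow i i).mul_pow, hc3, mul_one] at hb3
        have hu11 : (u ^ i) ^ 11 = 1 := by
          rw [← zpow_natCast, zpow_comm, zpow_natCast, ← hu, pow_orderOf_eq_one, one_zpow]
        have h1 : u ^ i = 1 := by
          have := pow_gcd_eq_one.2 ⟨hu3, hu11⟩
          simpa using this
        rw [h1, one_mul]
        exact zpow_mem (mem_zpowers c) i
      have hne : (u * c) ^ i ≠ 1 := fun e => by
        change orderOf ((u * c) ^ i) = 3 at hbo
        rw [e, orderOf_one] at hbo
        norm_num at hbo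
      have hcmem : c ∈ zpowers ((u * c) ^ i) := by
        have hle : zpowers ((u * c) ^ i) ≤ zpowers c := zpowers_le.2 h11
        have h2 := card_dvd_of_le hle
        rw [Nat.card_zpowers c, hc] at h2
        rcases (Nat.dvd_prime Nat.prime_three).1 h2 with h' | h'
        · rw [Nat.card_zpowers, orderOf_eq_one_iff] at h'
          exact absurd h' hne
        · rw [eq_of_le_of_card_ge hle (by rw [h', Nat.card_zpowers, hc])]
          exact mem_zpowers c
      exact mem_centralizer_singleton_iff.1 (zpowers_le.2 hbd hcmem) |>.symm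
    · obtain ⟨⟨b, hb⟩, hbo⟩ := exists_prime_orderOf_dvd_card' (G := ↥B) 11 h
      rw [Subgroup.orderOf_mk] at hbo
      obtain ⟨hbd, hbz⟩ := mem_inf.1 hb
      -- then `d` centralizes the Sylow subgroup
      have hbC : b ∈ centralizer ((P : Subgroup T) : Set T) := hCA ▸ hbz
      have hbP : zpowers b = (P : Subgroup T) := by
        obtain ⟨Q, hQ⟩ := (IsPGroup.of_card (p := 11) (n := 1)
          (by rw [Nat.card_zpowers, hbo, pow_one] : Nat.card ↥(zpowers b) = 11 ^ 1)).exists_le_sylow
        have hbN : zpowers b ≤ normalizer ((P : Subgroup T) : Set T) :=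
          (zpowers_le.2 hbC).trans (centralizer_le_normalizer _)
        have hle : zpowers b ≤ (P : Subgroup T) := fun x hx => by
          have h1 : x ∈ (Q : Subgroup T) ⊓ normalizer ((P : Subgroup T) : Set T) :=
            mem_inf.2 ⟨hQ hx, hbN hx⟩
          exact ((Q.2.inf_normalizer_sylow P).le h1).2
        exact eq_of_le_of_card_ge hle (by rw [hP, Nat.card_zpowers, hbo])
      have hdC : d ∈ centralizer ((P : Subgroup T) : Set T) := by
        rw [mem_centralizer_iff]
        intro x hx
        rw [SetLike.mem_coe, ← hbP] at hx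
        exact mem_centralizer_singleton_iff.1 (zpowers_le.2 hbd hx)
      rw [hCA] at hdC
      obtain ⟨i, hi⟩ := hdC
      rw [← hi]
      exact (((huc.symm.mul_right (Commute.refl c)).zpow_right i).symm).eq
  have hN' : normalClosure ({c} : Set T) ≤ H := by
    rw [normalClosure, closure_le]
    intro x hx
    obtain ⟨y, hy, hyx⟩ := Group.mem_conjugatesOfSet_iff.1 hx
    rw [Set.mem_singleton_iff] at hy
    subst hy
    obtain ⟨g, rfl⟩ := isConj_iff.1 hyx
    exact hall g
  rcases (normalClosure_normal : (normalClosure ({c} : Set T)).Normal).eq_bot_or_eq_top with h | h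
  · exact hc1 (mem_bot.1 (h ▸ subset_normalClosure (Set.mem_singleton c)))
  · refine hc1 (mem_bot.1 (DegGraph.center_eq_bot hna ▸ mem_center_iff.2 fun g => ?_))
    have hg : g ∈ H := hN' (h ▸ mem_top g)
    rw [hH, mem_centralizer_singleton_iff] at hg
    exact hg

end CfsgLib.M12Order
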