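import Cfsg.Prelude.Def_Spor_Mathieu

/-!
# Simple groups of the order of the Mathieu group of degree twelve: interface

Used for S0421 (uniqueness by the order) and S3643 (order and character degree graph).
-/

set_option autoImplicit false

namespace CfsgLib.M12Order

universe u

/-- A simple group of order `95040` is the Mathieu group of degree twelve. -/
def Unique : Prop :=
  ∀ (G : Type u) [Group G] [Finite G], IsSimpleGroup G → Nat.card G = 95040 → Cfsg.Spor.IsoM12 G

end CfsgLib.M12Order
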