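import Cfsg.Agent.Lib.M12Order.DegreesColumns

/-!
# Simple groups of order 95040: the degrees

Piece D of `tools/S0421_plan.md`.
-/

set_option autoImplicit false
set_option linter.style.haveILetI false
set_option linter.unusedSectionVars false

open Cfsg CfsgLib.Chars CfsgLib.CharApps CfsgLib.Blocks CfsgLib.Small

namespace CfsgLib.M12Order

open DegArith

universe u

namespace DegArith

/-- What is needed of a candidate. -/
def Ready (S : Spec) : Prop :=
  Layout S.deg ∧ (∀ i, S.sgn i = sd (S.deg i)) ∧ S.prin.Nodup ∧ S.other.Nodup ∧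
    (∀ i ∈ S.other, i ∉ S.prin) ∧ ∀ i, i ∈ S.prin ∨ i ∈ S.other ∨ S.sgn i = 0

end DegArith

variable {G : Type u} [Group G] [Finite G] [IsSimpleGroup G] (hG : Nat.card G = 95040)
  (h5 : LocalFive G) {T : Table G} (hm : T.list = mainTable)
  (hv : ∀ t : G, orderOf t = 2 → InvolValues G T t) {y : G} (F : FiveData y)

include hG h5 hm hv

theorem nonempty_chars (S : Spec) (hR : Ready S) {c : Fin S.n ≃ IrrCharacter G}
    (hc : ∀ i, charDegree (c i : G → ℂ) = S.deg i) {ok : List Bool → Bool}
    (hU : checkU S.deg ok (indicator S.prin) (List.ofFn S.colU) = true)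
    (hT : ((solve (List.ofFn (rowsT S.deg (indicator S.prin))) 192 0 0 0).all
      fun v => decide (v ∈ S.colT.map List.ofFn)) = true)
    (hok : ok (F.flags c) = true) {t₀ : G} (ht₀ : orderOf t₀ = 2)
    (hd₀ : 5 ∣ Nat.card (cen t₀)) : Nonempty (Chars G S) := by
  classical
  haveI := irrFintype G
  obtain ⟨hL, hsgn, hnd, hnd', hdisj, hcov⟩ := hR
  obtain ⟨h0, h1, h2, h3, h4⟩ := T.deg_main hm
  obtain ⟨V₀⟩ := exists_column ht₀ c
  have hflags := (column_five hG h5 hm hv F hL hc hU hok ht₀ hd₀ V₀).2.1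
  have hB : ∀ i, c i ∈ F.B ↔ i ∈ S.prin := fun i => by
    rw [← F.flags_getD c i, hflags]
    simp [indicator]
  have hsd : ∀ i, (F.m (c i) : ℂ) = (S.sgn i : ℂ) := fun i => by
    rw [(F.m_eq hG h5 hm _).1, hc, hsgn]
  have hp := principal_degree hG
  have uniq : ∀ {d : ℕ} {χ : IrrCharacter G}, charDegree (χ : G → ℂ) = d →
      ((d = 45 → χ = T.a 0) ∧ (d = 54 → χ = T.a 1) ∧ (d = 120 → χ = T.a 2) ∧
        (d = 144 → χ = T.a 3) ∧ (d = 16 → ∃ j, χ = T.θ j)) := by
    intro d χ hd
    rcases T.known χ with h | h | h | h | h | h | h | h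
    all_goals first
      | (have h' := mem_elevens.1 h
         refine ⟨?_, ?_, ?_, ?_, ?_⟩ <;> intro hd' <;> rw [hd, hd'] at h' <;> omega)
      | (rw [h] at hd
         simp only [hp, h0, h1, h2, h3, h4] at hd
         subst hd
         simp [h])
  refine ⟨{ c := c, deg := hc, principal := ?_, rel_eleven := ?_, rel_five := ?_,
            invol_five := ?_, invol_other := ?_ }⟩
  · exact eq_principal hG (by rw [hc, (hL.2 _).1 rfl])
  · intro g hg
    have hs : T.sgn 0 = 1 ∧ T.sgn 1 = -1 ∧ T.sgn 2 = -1 ∧ T.sgn 3 = 1 ∧ T.ε = 1 := by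
      have hh := T.sgn_eq
      have he := T.ε_eq
      rw [hm] at hh he
      have q0 := hh 0
      have q1 := hh 1
      have q2 := hh 2
      have q3 := hh 3
      simp only [mainTable, Matrix.cons_val_zero, Matrix.cons_val_one, Matrix.cons_val] at q0 q1 q2 q3 he
      omega
    have hrel : ∀ j, (T.θ j : G → ℂ) g = 1 + (T.a 0 : G → ℂ) g - (T.a 1 : G → ℂ) g
        - (T.a 2 : G → ℂ) g + (T.a 3 : G → ℂ) g := fun j => by
      have h := T.rel j g hg
      rw [Fin.sum_univ_four, hs.1, hs.2.1, hs.2.2.1, hs.2.2.2.1, hs.2.2.2.2] at h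
      push_cast at h
      linear_combination h
    have h10 := (uniq (hc ⟨10, by have := S.pos; omega⟩)).1 ((hL.2 _).2.2.2.2.1 rfl)
    have h1' := (uniq (hc ⟨1, by have := S.pos; omega⟩)).2.1 ((hL.2 _).2.1 rfl)
    have h11 := (uniq (hc ⟨11, by have := S.pos; omega⟩)).2.2.1 ((hL.2 _).2.2.2.2.2 rfl)
    have h2' := (uniq (hc ⟨2, by have := S.pos; omega⟩)).2.2.2.1 ((hL.2 _).2.2.1 rfl)
    obtain ⟨j3, hj3⟩ := (uniq (hc ⟨3, by have := S.pos; omega⟩)).2.2.2.2
      ((hL.2 _).2.2.2.1 (Or.inl rfl))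
    obtain ⟨j4, hj4⟩ := (uniq (hc ⟨4, by have := S.pos; omega⟩)).2.2.2.2
      ((hL.2 _).2.2.2.1 (Or.inr rfl))
    rw [hj3, hj4, h10, h1', h11, h2', hrel j3, hrel j4]
    exact ⟨rfl, rfl⟩
  · intro g hg
    have hall : ∑ i, (S.sgn i : ℂ) * (c i : G → ℂ) g = 0 := by
      have h := second_orthogonality (G := G) g y
      rw [if_neg (fun h => by
          obtain ⟨a, ha⟩ := isConj_iff.1 h
          have : orderOf g = 5 := by
            rw [← ha, ← MulAut.conj_apply, MulEquiv.orderOf_eq, F.order]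
          exact hg (by rw [this]))] at h
      rw [← Equiv.sum_comp c] at h
      rw [← h]
      exact Finset.sum_congr rfl fun i _ => by rw [← hsd i, ← F.val, map_intCast]; ring
    have hprin : (S.prin.map fun i => (S.sgn i : ℂ) * (c i : G → ℂ) g).sum = 0 := by
      rw [← List.sum_toFinset _ hnd, ← F.rel g hg]
      refine Finset.sum_nbij' c c.symm ?_ ?_ ?_ ?_ ?_
      · intro i hi
        rw [List.mem_toFinset] at hi
        exact (hB i).2 hi
      · intro χ hχ
        rw [List.mem_toFinset, ← hB, c.apply_symm_apply]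
        exact hχ
      · intro i _; simp
      · intro χ _; simp
      · intro i _; rw [hsd i]
    refine ⟨hprin, ?_⟩
    rw [← List.sum_toFinset _ hnd] at hprin
    rw [← List.sum_toFinset _ hnd']
    rw [← Finset.sum_subset (Finset.subset_univ (S.prin.toFinset ∪ S.other.toFinset))
      (fun i _ hi => by
        simp only [Finset.mem_union, List.mem_toFinset, not_or] at hi
        have := (hcov i).resolve_left hi.1
        rw [this.resolve_left hi.2]
        simp),
      Finset.sum_union (Finset.disjoint_left.2 fun i hi hi' =>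
        hdisj i (List.mem_toFinset.1 hi') (List.mem_toFinset.1 hi)), hprin, zero_add] at hall
    exact hall
  · intro t ht hd
    obtain ⟨V⟩ := exists_column ht c
    obtain ⟨hC, -, hcol⟩ := column_five hG h5 hm hv F hL hc hU hok ht hd V
    refine ⟨hC, fun i => ?_⟩
    rw [← congrFun (List.ofFn_inj.1 hcol) i, V.val]
  · intro t ht hd
    obtain ⟨V⟩ := exists_column ht c
    obtain ⟨hC, hmem⟩ := column_other hG h5 hm hv F hL hc ht hd V
    rw [hflags] at hmem
    have h := List.all_eq_true.1 hT _ hmem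
    rw [decide_eq_true_eq, List.mem_map] at h
    obtain ⟨v, hvm, hveq⟩ := h
    refine ⟨hC, v, hvm, fun i => ?_⟩
    rw [congrFun (List.ofFn_inj.1 hveq) i, V.val]

omit hG h5 hm hv F

theorem ready15 : DegArith.Ready spec15 := by
  refine ⟨?_, ?_, ?_, ?_, ?_, ?_⟩
  · show DegArith.Layout _
    decide +kernel
  all_goals decide +kernel

theorem ready13 : DegArith.Ready spec13 := by
  refine ⟨?_, ?_, ?_, ?_, ?_, ?_⟩
  · show DegArith.Layout _
    decide +kernel
  all_goals decide +kernel

theorem deg13_swap : ∀ i : Fin 13, spec13.deg (Equiv.swap (6 : Fin 13) 7 i) = spec13.deg i := by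
  intro i
  fin_cases i <;> rfl

/-- Piece D. -/
theorem degrees : DegreesStmt.{u} := by
  intro G _ _ hs hG _ h5 T hm hv
  classical
  haveI := Fact.mk (show Nat.Prime 5 by norm_num)
  haveI := Fact.mk Nat.prime_two
  obtain ⟨y, hy⟩ := exists_prime_orderOf_dvd_card' (G := G) 5 (by rw [hG]; norm_num)
  obtain ⟨⟨t, htC⟩, ht⟩ := exists_prime_orderOf_dvd_card' (G := cen y) 2
    (by rw [h5.cent y hy]; norm_num)
  rw [Subgroup.orderOf_mk] at ht
  have hd : 5 ∣ Nat.card (cen t) := hy ▸ Subgroup.orderOf_dvd_natCard _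
    (Subgroup.mem_centralizer_singleton_iff.2 (Subgroup.mem_centralizer_singleton_iff.1 htC).symm)
  obtain ⟨F⟩ := exists_fiveData hG h5 hy
  rcases exists_degree_list hG h5 hm hv F ht hd with ⟨c, hc⟩ | ⟨c, hc⟩ | ⟨c, hc⟩ | ⟨c, hc⟩ |
    ⟨c, hc⟩
  · exact (false_of_checkU hG h5 hm hv F (by decide +kernel) hc checkU_A ht hd).elim
  · exact (false_of_checkU hG h5 hm hv F (by decide +kernel) hc checkU_B ht hd).elim
  · exact (false_of_checkU hG h5 hm hv F (by decide +kernel) hc checkU_C ht hd).elim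
  · exact Or.inl (nonempty_chars hG h5 hm hv F spec15 ready15 (c := c) hc checkU_15 checkT_15 rfl
      ht hd)
  · refine Or.inr ?_
    by_cases hok : ok13 (F.flags c) = true
    · exact nonempty_chars hG h5 hm hv F spec13 ready13 (c := c) hc checkU_13 checkT_13 hok ht hd
    let c' : Fin 13 ≃ IrrCharacter G := (Equiv.swap (6 : Fin 13) 7).trans c
    have hc' : ∀ i, charDegree (c' i : G → ℂ) = spec13.deg i := fun i => by
      rw [Equiv.trans_apply, hc, deg13_swap]
    refine nonempty_chars hG h5 hm hv F spec13 ready13 (c := c') hc' checkU_13 checkT_13 ?_ ht hd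
    simp only [ok13, Bool.or_eq_true, Bool.not_eq_true', not_or, Bool.not_eq_false] at hok
    have h7 : c 7 ∈ F.B := (F.flags_getD c 7).1 hok.2
    have : (F.flags c').getD 6 false = true := (F.flags_getD c' 6).2 (by simpa [c'] using h7)
    unfold ok13
    rw [Bool.or_eq_true]
    exact Or.inl this

end CfsgLib.M12Order
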