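import Cfsg.Agent.Lib.M12Order.SmallSection
import Cfsg.Agent.Lib.CharsMore.CliffordDegree

/-!
# The kernel of the section, and the section of order 660
-/

set_option autoImplicit false
set_option linter.unusedSectionVars false
set_option linter.style.haveILetI false

open Subgroup Cfsg CfsgLib.Small

namespace CfsgLib.M12Order

universe u

/-- In a perfect group a soluble normal subgroup of order prime to eleven with a simple quotient
of order divisible by eleven is central. -/
theorem central_kernel {D : Type u} [Group D] [Finite D] (hperf : commutator D = ⊤)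
    (K : Subgroup D) [K.Normal] [IsSimpleGroup (D ⧸ K)] (hdvd : Nat.card D ∣ 95040)
    (hKs : Group.IsSolvable ↥K) (hK11 : ¬ 11 ∣ Nat.card ↥K) (hT : 11 ∣ Nat.card (D ⧸ K)) :
    K ≤ center D := by
  haveI : Fact (Nat.Prime 11) := ⟨by norm_num⟩
  set C := centralizer (K : Set D) with hC
  obtain ⟨x, hx⟩ := exists_prime_orderOf_dvd_card' (G := D) 11
    (hT.trans K.card_quotient_dvd_card)
  have hxC : x ∈ C := mem_centralizer_of_eleven K ((card_subgroup_dvd_card K).trans hdvd) hK11
    (hx ▸ pow_orderOf_eq_one x)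
  have hxK : x ∉ K := fun h => hK11 (by
    have := Subgroup.orderOf_dvd_natCard K h
    rwa [hx] at this)
  haveI hCn : (C.map (QuotientGroup.mk' K)).Normal :=
    Subgroup.Normal.map inferInstance _ (QuotientGroup.mk'_surjective K)
  have htop : C.map (QuotientGroup.mk' K) = ⊤ :=
    (IsSimpleGroup.eq_bot_or_eq_top_of_normal _ hCn).resolve_left fun h =>
      hxK ((QuotientGroup.eq_one_iff x).1 (mem_bot.1 (h ▸ mem_map_of_mem _ hxC)))
  -- the quotient by the centralizer is soluble
  let f : ↥K →* D ⧸ C := (QuotientGroup.mk' C).comp K.subtype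
  have hf : Function.Surjective f := by
    intro z
    obtain ⟨d, rfl⟩ := QuotientGroup.mk_surjective z
    have hd : QuotientGroup.mk' K d ∈ C.map (QuotientGroup.mk' K) := htop ▸ mem_top _
    obtain ⟨c, hc, hcd⟩ := hd
    have hk : d * c⁻¹ ∈ K := by
      have h1 : c⁻¹ * d ∈ K := QuotientGroup.eq.1 hcd
      have h2 := (inferInstance : K.Normal).conj_mem _ h1 c
      rwa [← mul_assoc, mul_inv_cancel, one_mul] at h2
    refine ⟨⟨d * c⁻¹, hk⟩, QuotientGroup.eq.2 ?_⟩
    show (d * c⁻¹)⁻¹ * d ∈ C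
    rwa [mul_inv_rev, inv_inv, mul_assoc, inv_mul_cancel, mul_one]
  haveI : Group.IsSolvable (D ⧸ C) := Group.isSolvable_of_surjective hf
  intro k hk
  rw [mem_center_iff]
  intro g
  have hg : g ∈ C :=
    (QuotientGroup.eq_one_iff g).1 (DegGraph.eq_one_of_perfect hperf (QuotientGroup.mk' C) g)
  exact (mem_centralizer_iff.1 hg k hk).symm

/-- A section of order 660 leaves no degree divisible by 55. -/
theorem false_of_660 {G : Type u} [Group G] [Finite G] (hG : Nat.card G = 95040) (D : Subgroup G)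
    [D.Normal] (K : Subgroup ↥D) [K.Normal] [IsSimpleGroup (↥D ⧸ K)]
    (hperf : commutator ↥D = ⊤) (hKs : Group.IsSolvable ↥K) (hK11 : ¬ 11 ∣ Nat.card ↥K)
    (hT : Nat.card (↥D ⧸ K) = 660) (h55 : ∃ d ∈ charDegrees G, 55 ∣ d) : False := by
  classical
  haveI := Fintype.ofFinite G
  haveI := Fintype.ofFinite ↥D
  obtain ⟨d, ⟨χ, rfl⟩, hd⟩ := h55
  have hDd : Nat.card ↥D ∣ 95040 := hG ▸ card_subgroup_dvd_card D
  have hcen := central_kernel hperf K hDd hKs hK11 (by rw [hT]; norm_num)
  have hres : IsCharacter ↥D (fun n : ↥D => (χ : G → ℂ) n) :=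
    Chars.isCharacter_restrict D (Chars.isCharacter_of_irr χ.2)
  obtain ⟨θ, hθ⟩ := Chars.exists_constituent hres (fun h => by
    have h1 := congrFun h 1
    simp only [OneMemClass.coe_one, Pi.zero_apply, CharApps.deg_eq, Nat.cast_eq_zero] at h1
    exact (CharApps.deg_pos χ).ne' h1)
  obtain ⟨k, -, hk, hki⟩ := CharsMore.degree_quotient D χ.2 θ.2 hθ
  have hk' : charDegree (χ : G → ℂ) = k * charDegree (θ : ↥D → ℂ) := by
    rw [CharApps.deg_eq χ, CharApps.deg_eq θ] at hk
    exact_mod_cast hk
  have hidx : D.index ∣ 144 := by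
    have h1 := D.card_mul_index
    rw [hG] at h1
    obtain ⟨m, hm⟩ := hT ▸ K.card_quotient_dvd_card
    rw [hm, mul_assoc] at h1
    refine Dvd.intro_left m ?_
    omega
  have hcop : Nat.Coprime 55 k :=
    Nat.Coprime.coprime_dvd_right (hki.trans hidx) (by norm_num)
  rw [hk'] at hd
  have hθd : 55 ∣ charDegree (θ : ↥D → ℂ) := hcop.dvd_of_dvd_mul_left hd
  have hle := Nat.le_of_dvd (CharApps.deg_pos θ) hθd
  have hsq := DegGraph.central_sq_le hcen θ
  rw [index_eq_card, hT] at hsq
  nlinarith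

end CfsgLib.M12Order
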