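import Cfsg.Agent.Lib.M12Order.GraphKernel
import Cfsg.Agent.Lib.Small.Order7920Five
import Cfsg.Agent.Lib.Small.Order7920Mathieu
import Cfsg.Agent.Lib.Chars.Product
import Cfsg.Agent.Lib.Recog.EqOrdConj.Small
import Cfsg.Agent.Lib.Involutions.OrderTwelve
import Cfsg.Agent.S2034
import Cfsg.Agent.S2060

/-!
# The product of the alternating group of degree four and the Mathieu group of degree eleven
-/

set_option autoImplicit false
set_option linter.unusedSectionVars false
set_option linter.unusedVariables false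
set_option linter.style.haveILetI false

open Subgroup Cfsg CfsgLib.Small

namespace CfsgLib.M12Order

universe u

/-- A central kernel of a perfect cover of the Mathieu group of degree eleven is trivial. -/
theorem kernel_eq_bot_of_M11 {D : Type u} [Group D] [Finite D] (σ : D →* Spor.M11)
    (hσ : Function.Surjective σ) (hc : σ.ker ≤ center D) (hperf : commutator D = ⊤) :
    σ.ker = ⊥ := by
  let e : Shrink.{0} D ≃* D := Shrink.mulEquiv
  haveI : Finite (Shrink.{0} D) := Finite.of_equiv D e.symm.toEquiv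
  let τ : Shrink.{0} D →* Spor.M11 := σ.comp e.toMonoidHom
  have hperf' : commutator (Shrink.{0} D) = ⊤ := by
    have h := congrArg (Subgroup.map e.symm.toMonoidHom) hperf
    rw [_root_.commutator_def, map_commutator, Subgroup.map_top_of_surjective _ e.symm.surjective] at h
    exact h
  have hstem : IsStemExtension τ := by
    refine ⟨hσ.comp e.surjective, fun x hx => mem_center_iff.2 fun y => e.injective ?_,
      hperf' ▸ le_top⟩
    rw [map_mul, map_mul]
    exact mem_center_iff.1 (hc (show σ (e x) = 1 from hx)) (e y)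
  obtain ⟨π, hπ⟩ := Cfsg.Agent.S2034.result.2 (Shrink.{0} D) τ hstem
  haveI : Subsingleton (Multiplicative (ZMod 1)) := inferInstanceAs (Subsingleton (ZMod 1))
  haveI : Subsingleton τ.ker := hπ.subsingleton
  rw [eq_bot_iff]
  intro d hd
  have h1 : e.symm d ∈ τ.ker := by
    show σ (e (e.symm d)) = 1
    rw [e.apply_symm_apply]
    exact hd
  have h2 : e.symm d = 1 :=
    congrArg Subtype.val (Subsingleton.elim (⟨e.symm d, h1⟩ : τ.ker) 1)
  exact mem_bot.2 (e.symm.injective (h2.trans (map_one e.symm).symm))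

/-- The degrees of the Mathieu group of degree eleven. -/
theorem degree_M11 {X : Type u} [Group X] [Finite X] [IsSimpleGroup X] (hX : Nat.card X = 7920)
    (χ : IrrCharacter X) : charDegree (χ : X → ℂ) ∈ [1, 10, 11, 16, 44, 45, 55] := by
  obtain ⟨T⟩ := O7920.exists_table hX
  obtain ⟨i, rfl⟩ := T.c.surjective χ
  rw [T.deg i]
  fin_cases i <;> decide

/-- A group with the section `M₁₁` and a degree divisible by 33 is `A₄ × M₁₁`. -/
theorem product_of_7920 {G : Type u} [Group G] [Finite G] (hG : Nat.card G = 95040)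
    (D : Subgroup G) [D.Normal] (K : Subgroup D) [K.Normal] [IsSimpleGroup (D ⧸ K)]
    (hna : ¬ IsMulCommutative (D ⧸ K)) (hperf : commutator D = ⊤) (hK : Group.IsSolvable K)
    (hK11 : ¬ 11 ∣ Nat.card K) (hT : Nat.card (D ⧸ K) = 7920)
    (h33 : ∃ d ∈ charDegrees G, 33 ∣ d) :
    Nonempty (G ≃* alternatingGroup (Fin 4) × Spor.M11) := by
  classical
  obtain ⟨f⟩ := O7920.iso_M11 hT
  have hcen : K ≤ center D :=
    central_kernel hperf K (hG ▸ card_subgroup_dvd_card D) hK hK11 (by rw [hT]; norm_num)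
  let σ : D →* Spor.M11 := f.toMonoidHom.comp (QuotientGroup.mk' K)
  have hσker : σ.ker = K :=
    (MonoidHom.ker_mulEquiv_comp _ f).trans (QuotientGroup.ker_mk' K)
  have hbot : σ.ker = ⊥ := kernel_eq_bot_of_M11 σ (f.surjective.comp (QuotientGroup.mk'_surjective K))
    (hσker ▸ hcen) hperf
  let eD : D ≃* Spor.M11 := MulEquiv.ofBijective σ
    ⟨(MonoidHom.ker_eq_bot_iff σ).1 hbot, f.surjective.comp (QuotientGroup.mk'_surjective K)⟩
  have hD : Nat.card D = 7920 := (Nat.card_congr eD.toEquiv).trans CfsgLib.MathieuOut.natCard_M11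
  haveI := O7920.isSimpleGroup_M11
  haveI : IsSimpleGroup D := eD.isSimpleGroup
  have hnaD : ¬ IsMulCommutative D := CfsgLib.Small.O7920.nonabelian hD
  let C := centralizer (D : Set G)
  -- every conjugation is inner
  have hcard : Nat.card (Out Spor.M11) = 1 := Cfsg.Agent.S2060.result
  have hinner : ∀ g : G, ∃ d : D, (d : G)⁻¹ * g ∈ C := by
    intro g
    haveI : Subsingleton (Out Spor.M11) := (Nat.card_eq_one_iff_unique.1 hcard).1
    let φ : MulAut Spor.M11 := (eD.symm.trans (MulAut.conjNormal g : D ≃* D)).trans eD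
    obtain ⟨m, hm⟩ : φ ∈ Inn Spor.M11 :=
      (QuotientGroup.eq_one_iff φ).1 (Subsingleton.elim (φ : Out Spor.M11) 1)
    refine ⟨eD.symm m, mem_centralizer_iff.2 fun y hy => ?_⟩
    have h1 := congrArg eD.symm (DFunLike.congr_fun hm (eD ⟨y, hy⟩))
    simp only [φ, MulEquiv.trans_apply, MulEquiv.symm_apply_apply, MulAut.conj_apply, map_mul,
      map_inv] at h1
    have h2 : ((eD.symm m : D) : G) * y * ((eD.symm m : D) : G)⁻¹ = g * y * g⁻¹ :=
      congrArg Subtype.val h1
    generalize ((eD.symm m : D) : G) = a at h2 ⊢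
    calc y * (a⁻¹ * g) = a⁻¹ * (a * y * a⁻¹) * g := by group
      _ = a⁻¹ * g * y := by rw [h2]; group
  have hcomm : ∀ (d : D) (c : C), (c : G) * d = d * c := fun d c =>
    (mem_centralizer_iff.1 c.2 d d.2).symm
  let μ : D × C →* G := MonoidHom.noncommCoprod D.subtype C.subtype fun d c => (hcomm d c).symm
  have hμi : Function.Injective μ := by
    rw [injective_iff_map_eq_one]
    rintro ⟨d, c⟩ h
    have h1 : (d : G) * c = 1 := h
    have hdc : (d : G) = (c : G)⁻¹ := eq_inv_of_mul_eq_one_left h1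
    have hd : d = 1 := by
      have hz : d ∈ center D := mem_center_iff.2 fun x => Subtype.ext (by
        show (x : G) * d = d * x
        rw [hdc]
        exact (hcomm x c⁻¹).symm)
      exact mem_bot.1 (DegGraph.center_eq_bot hnaD ▸ hz)
    subst hd
    exact Prod.ext rfl (Subtype.ext (by simpa using h1))
  have hμs : Function.Surjective μ := fun g => by
    obtain ⟨d, hd⟩ := hinner g
    exact ⟨(d, ⟨_, hd⟩), mul_inv_cancel_left _ _⟩
  let e : D × C ≃* G := MulEquiv.ofBijective μ ⟨hμi, hμs⟩
  have hC : Nat.card C = 12 := by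
    have h := Nat.card_congr e.toEquiv
    rw [Nat.card_prod, hD, hG] at h
    omega
  obtain ⟨d, ⟨χ, rfl⟩, h33⟩ := h33
  have hχ' : IsIrrCharacter (D × C) (fun x => (χ : G → ℂ) (e x)) :=
    CfsgLib.Chars.isIrrCharacter_comp e.toMonoidHom e.surjective χ.2
  obtain ⟨a, b, ha, hb, hab⟩ := (CfsgLib.Chars.isIrrCharacter_prod_iff _).1 hχ'
  have hdeg : charDegree (χ : G → ℂ) = charDegree a * charDegree b := by
    have h := congrFun hab 1
    simp only [map_one, Prod.fst_one, Prod.snd_one] at h
    rw [CharApps.deg_eq χ, show a 1 = (charDegree a : ℂ) from CharApps.deg_eq (⟨a, ha⟩ : IrrCharacter D),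
      show b 1 = (charDegree b : ℂ) from CharApps.deg_eq (⟨b, hb⟩ : IrrCharacter C)] at h
    exact_mod_cast h
  have hA := degree_M11 hD ⟨a, ha⟩
  have hb3 : 3 ∣ charDegree b ∧ charDegree b ≠ 0 := by
    refine ⟨?_, (CharApps.deg_pos (⟨b, hb⟩ : IrrCharacter C)).ne'⟩
    rw [hdeg] at h33
    have hb0 : charDegree b ≤ 3 := by
      haveI := CfsgLib.Chars.irrFintype C
      have h := CharApps.sum_degree_sq_nat (G := C)
      rw [← Finset.add_sum_erase _ _ (Finset.mem_univ (⟨b, hb⟩ : IrrCharacter C)), hC] at h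
      have h12 : charDegree b ^ 2 ≤ 12 := le_trans le_self_add h.le
      nlinarith
    simp only [List.mem_cons, List.not_mem_nil, or_false] at hA
    rcases hA with h | h | h | h | h | h | h <;> rw [h] at h33 <;> omega
  have hC4 : Nonempty (C ≃* alternatingGroup (Fin 4)) := by
    refine CfsgLib.Recog.EqOrdConj.equiv_alt_four hC ?_
    by_contra hO
    -- a nontrivial odd normal subgroup has order three and leaves an index prime to three
    have hodd : Odd (Nat.card (oddCore C)) := CfsgLib.Base.odd_card_oddCore C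
    have hdvd : Nat.card (oddCore C) ∣ 12 := hC ▸ card_subgroup_dvd_card _
    have hne : Nat.card (oddCore C) ≠ 1 := fun h => hO (Subgroup.eq_bot_of_card_eq _ h)
    have h3 : Nat.card (oddCore C) = 3 := by
      have hle := Nat.le_of_dvd (by norm_num) hdvd
      have key : ∀ k ≤ 12, k ∣ 12 → k % 2 = 1 → k ≠ 1 → k = 3 := by decide
      exact key _ hle hdvd (Nat.odd_iff.1 hodd) hne
    haveI : Fact (Nat.Prime 3) := ⟨Nat.prime_three⟩
    have hab' : ∀ x ∈ oddCore C, ∀ y ∈ oddCore C, x * y = y * x := by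
      haveI : IsCyclic (oddCore C) := isCyclic_of_prime_card h3
      intro x hx y hy
      exact congrArg Subtype.val
        ((IsCyclic.commGroup (α := oddCore C)).mul_comm (⟨x, hx⟩ : oddCore C) ⟨y, hy⟩)
    refine DegGraph.not_degreePrime Nat.prime_three (oddCore C) hab' ?_
      ⟨Nat.prime_three, _, ⟨⟨b, hb⟩, rfl⟩, hb3.1⟩
    have hi := (oddCore C).card_mul_index
    rw [h3, hC] at hi
    omega
  obtain ⟨e4⟩ := hC4
  exact ⟨e.symm.trans ((MulEquiv.prodComm).trans (e4.prodCongr eD))⟩

end CfsgLib.M12Order
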