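import Cfsg.Agent.Lib.M12Order.FiveOrders
import Cfsg.Agent.Lib.M12Order.GraphKernel
import Cfsg.Agent.Lib.M12Order.GraphProduct
import Cfsg.Agent.Lib.M12Order.Assembly
import Cfsg.Agent.Lib.M12Order.Degrees
import Cfsg.Agent.Lib.KnownA.MathieuOut.Main
import Cfsg.Prelude.Def_DegreeGraph

/-!
# Groups with the order and the degree graph of the Mathieu group of degree twelve
-/

set_option autoImplicit false
set_option linter.unusedSectionVars false
set_option linter.style.haveILetI false

open Subgroup Cfsg CfsgLib.Small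
open scoped Pointwise

namespace CfsgLib.M12Order

universe u

/-- The two edges of the graph of the Mathieu group which are used. -/
def Edge : Prop :=
  (∃ d ∈ charDegrees ↥Cfsg.Spor.M12, 55 ∣ d) ∧ (∃ d ∈ charDegrees ↥Cfsg.Spor.M12, 33 ∣ d)

/-- The Mathieu group of degree twelve is simple. -/
theorem isSimpleGroup_M12 : IsSimpleGroup ↥Cfsg.Spor.M12 := by
  let d := Cfsg.Spor.squareDodecad
  have hs := CfsgLib.Spor.isSimpleGroup_stab_dodecad MathieuOut.squareDodecad_mem
  haveI := hs
  let f : ↥(MulAction.stabilizer M24 d) →* ↥Cfsg.Spor.M12 :=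
    { toFun := fun g => ⟨((g : ↥M24) : Equiv.Perm GolayPt), Subgroup.mem_inf.2 ⟨(g : ↥M24).2, g.2⟩⟩
      map_one' := rfl
      map_mul' := fun _ _ => rfl }
  have hsurj : Function.Surjective f := fun g =>
    ⟨⟨⟨(g : Equiv.Perm GolayPt), (Subgroup.mem_inf.1 g.2).1⟩, (Subgroup.mem_inf.1 g.2).2⟩,
      Subtype.ext rfl⟩
  haveI : Nontrivial ↥Cfsg.Spor.M12 :=
    Finite.one_lt_card_iff_nontrivial.1 (by rw [MathieuOut.natCard_M12]; norm_num)
  exact IsSimpleGroup.isSimpleGroup_of_surjective f hsurj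

/-- The edges. -/
theorem edge : Edge := by
  obtain ⟨-, -, h, -⟩ := structure_of_degrees degrees ↥Cfsg.Spor.M12 isSimpleGroup_M12
    MathieuOut.natCard_M12
  obtain ⟨⟨χ, hχ⟩, ⟨ψ, hψ⟩⟩ := exists_degrees h
  exact ⟨⟨55, ⟨χ, hχ⟩, dvd_rfl⟩, ⟨66, ⟨ψ, hψ⟩, by norm_num⟩⟩

/-- An edge of the graph gives a degree. -/
theorem exists_degree_of_adj {G : Type u} [Group G] {H : Type*} [Group H]
    (hΔ : degreeGraph G = degreeGraph H) {p q : ℕ} (hp : p.Prime) (hq : q.Prime) (hpq : p ≠ q)
    (h : ∃ d ∈ charDegrees H, p * q ∣ d) : ∃ d ∈ charDegrees G, p * q ∣ d := by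
  have hadj : (degreeGraph H).Adj p q := ⟨hpq, hp, hq, h⟩
  rw [← hΔ] at hadj
  exact hadj.2.2.2

/-- Groups with the order and the degree graph of the Mathieu group of degree twelve. -/
theorem of_unique (U : Unique.{u}) (hE : Edge) {G : Type u} [Group G] [Finite G]
    (hcard : Nat.card G = Nat.card ↥Cfsg.Spor.M12)
    (hΔ : Cfsg.degreePrimes G = Cfsg.degreePrimes ↥Cfsg.Spor.M12 ∧
      Cfsg.degreeGraph G = Cfsg.degreeGraph ↥Cfsg.Spor.M12) :
    Nonempty (G ≃* ↥Cfsg.Spor.M12) ∨
      Nonempty (G ≃* alternatingGroup (Fin 4) × ↥Cfsg.Spor.M11) := by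
  haveI : Fact (Nat.Prime 11) := ⟨by norm_num⟩
  rw [MathieuOut.natCard_M12] at hcard
  have h55 : ∃ d ∈ charDegrees G, 55 ∣ d :=
    exists_degree_of_adj hΔ.2 (p := 5) (q := 11) (by norm_num) (by norm_num) (by norm_num) hE.1
  have h33 : ∃ d ∈ charDegrees G, 33 ∣ d :=
    exists_degree_of_adj hΔ.2 (p := 3) (q := 11) (by norm_num) (by norm_num) (by norm_num) hE.2
  have h11 : 11 ∈ degreePrimes G := by
    obtain ⟨d, hd, h⟩ := h55
    exact ⟨by norm_num, d, hd, (show 11 ∣ 55 by norm_num).trans h⟩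
  obtain ⟨P⟩ := (inferInstance : Nonempty (Sylow 11 G))
  have hP : ¬ (P : Subgroup G).Normal := fun hn =>
    DegGraph.not_degreePrime_of_sylow (by rw [hcard]; norm_num) (by rw [hcard]; norm_num) P hn h11
  obtain ⟨D, hD, K, hK, hT, hna, hperf, hKs, hK11, hord⟩ :=
    exists_eleven_section (dvd_of_eq hcard) P hP
  haveI := hK
  haveI := hT
  simp only [sectionOrders, List.mem_cons, List.not_mem_nil, or_false] at hord
  have key6 : ∀ N ∈ [6336, 9504, 19008], ∀ x ∈ primeOptions N 11 (N / 11),
      2 * x.2.1 ≤ 11 - 1 ∧ relationExists N 11 (x.2.1 - 1) 1 = false := by decide +kernel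
  rcases hord with h | h | h | h | h | h | h | h | h | h | h | h
  · exact (false_of_660 hcard D K hperf hKs hK11 h h55).elim
  · exact (Below6000.options_relations hna h 11 576 (by norm_num) (by norm_num) (by norm_num)
      (by norm_num) (key6 6336 (by simp))).elim
  · exact Or.inr (product_of_7920 hcard D K hna hperf hKs hK11 h h33)
  · exact (Below6000.options_relations hna h 11 864 (by norm_num) (by norm_num) (by norm_num)
      (by norm_num) (key6 9504 (by simp))).elim
  · exact (Below6000.options_nil hna h 11 960 (by norm_num) (by norm_num) (by norm_num)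
      (by norm_num) (by decide +kernel)).elim
  · exact (false_of_five_orders hna (by rw [h]; decide)).elim
  · exact (false_of_five_orders hna (by rw [h]; decide)).elim
  · exact (Below6000.options_relations hna h 11 1728 (by norm_num) (by norm_num) (by norm_num)
      (by norm_num) (key6 19008 (by simp))).elim
  · exact (false_of_five_orders hna (by rw [h]; decide)).elim
  · exact (false_of_five_orders hna (by rw [h]; decide)).elim
  · exact (false_of_five_orders hna (by rw [h]; decide)).elim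
  · left
    have h1 := K.card_eq_card_quotient_mul_card_subgroup
    rw [h] at h1
    have h2 := card_subgroup_dvd_card D
    rw [hcard, h1] at h2
    have hK1 : Nat.card ↥K = 1 := by
      have h3 := Nat.le_of_dvd (by norm_num) h2
      have := Nat.card_pos (α := ↥K)
      omega
    have hD1 : D = ⊤ := eq_top_of_card_eq _ (by rw [h1, hK1, hcard])
    have hKbot : K = ⊥ := K.eq_bot_of_card_eq hK1
    let e₂ : ↥D ≃* ↥D ⧸ K := MulEquiv.ofBijective (QuotientGroup.mk' K)
      ⟨(MonoidHom.ker_eq_bot_iff _).1 (by rw [QuotientGroup.ker_mk', hKbot]),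
        QuotientGroup.mk'_surjective K⟩
    let e₁ : G ≃* ↥D := ((MulEquiv.subgroupCongr hD1).trans Subgroup.topEquiv).symm
    let e : G ≃* ↥D ⧸ K := e₁.trans e₂
    haveI : Nontrivial G := e.toEquiv.nontrivial
    exact U G (IsSimpleGroup.isSimpleGroup_of_surjective e.symm.toMonoidHom e.symm.surjective) hcard

end CfsgLib.M12Order
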