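import Cfsg.Agent.Lib.M12Order.Interface

/-!
# Simple groups of order 95040: the searches behind the degrees

The columns are found by a search with four linear or quadratic budgets; its completeness is
`mem_solve`, the searches themselves are evaluated by the kernel.
-/

set_option autoImplicit false

namespace CfsgLib.M12Order.DegArith

/-- A row of a column search: two weights, a mark and the possible values. -/
structure Row where
  w : ℤ
  s : ℤ
  b : Bool
  os : List ℤ

/-- All the columns with given sum of squares and given weighted sums. -/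
def solve : List Row → ℤ → ℤ → ℤ → ℤ → List (List ℤ)
  | [], q, l, p, r => if q = 0 ∧ l = 0 ∧ p = 0 ∧ r = 0 then [[]] else []
  | R :: rest, q, l, p, r => R.os.flatMap fun v =>
      if v * v ≤ q then
        (solve rest (q - v * v) (l - R.w * v) (p - R.s * v)
          (if R.b then r - R.s * v else r)).map (v :: ·)
      else []

theorem mem_solve {n : ℕ} (R : Fin n → Row) (V : Fin n → ℤ) (hV : ∀ i, V i ∈ (R i).os)
    (q l p r : ℤ) (hq : ∑ i, V i * V i = q) (hl : ∑ i, (R i).w * V i = l)
    (hp : ∑ i, (R i).s * V i = p)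
    (hr : ∑ i, (if (R i).b then (R i).s * V i else 0) = r) :
    List.ofFn V ∈ solve (List.ofFn R) q l p r := by
  induction n generalizing q l p r with
  | zero =>
    simp only [Finset.univ_eq_empty, Finset.sum_empty] at hq hl hp hr
    simp [solve, ← hq, ← hl, ← hp, ← hr]
  | succ n ih =>
    rw [Fin.sum_univ_succ] at hq hl hp hr
    rw [List.ofFn_succ (f := V), List.ofFn_succ (f := R), solve, List.mem_flatMap]
    refine ⟨V 0, hV 0, ?_⟩
    rw [if_pos (by
      have : 0 ≤ ∑ i : Fin n, V i.succ * V i.succ :=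
        Finset.sum_nonneg fun i _ => mul_self_nonneg _
      linarith)]
    refine List.mem_map.2 ⟨_, ih (fun i => R i.succ) (fun i => V i.succ) (fun i => hV i.succ) _ _ _ _
      (by linarith) (by linarith) (by linarith) ?_, rfl⟩
    split_ifs at hr ⊢ <;> linarith

/-- The value at an element of order five, as a function of the degree. -/
def sd (d : ℕ) : ℤ := if 5 ∣ d then 0 else if d % 5 = 1 then 1 else -1

/-- The possible values at an involution with centralizer order `C` and class size `K`. -/
def opts (d C K : ℕ) : List ℤ :=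
  ((List.range 31).map fun k : ℕ => (k : ℤ) - 15).filter fun v =>
    decide (((d : ℤ) - v) % 4 = 0) && decide (((K : ℤ) * v) % (d : ℤ) = 0) &&
      decide (v * v ≤ (C : ℤ))

/-- The possible values at an involution commuting with an element of order five. -/
def optsU (d C K : ℕ) (b : Bool) : List ℤ :=
  (opts d C K).filter fun v => !b || decide ((v - (d : ℤ)) % 5 = 0)

theorem mem_opts {d C K : ℕ} {v : ℤ} (h4 : (4 : ℤ) ∣ (d : ℤ) - v) (hd : (d : ℤ) ∣ (K : ℤ) * v)
    (hC : v * v ≤ (C : ℤ)) (hC' : C ≤ 255) : v ∈ opts d C K := by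
  have h1 : -15 ≤ v ∧ v ≤ 15 := by
    constructor <;> nlinarith [(show (C : ℤ) ≤ 255 by exact_mod_cast hC')]
  simp only [opts, List.mem_filter, List.mem_map, List.mem_range, Bool.and_eq_true,
    decide_eq_true_eq]
  refine ⟨⟨(v + 15).toNat, by omega, by omega⟩, ⟨Int.emod_eq_zero_of_dvd h4, ?_⟩, hC⟩
  exact Int.emod_eq_zero_of_dvd hd

theorem mem_optsU {d C K : ℕ} {b : Bool} {v : ℤ} (h : v ∈ opts d C K)
    (hb : b = true → (5 : ℤ) ∣ v - (d : ℤ)) : v ∈ optsU d C K b := by
  simp only [optsU, List.mem_filter]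
  refine ⟨h, ?_⟩
  cases b with
  | false => rfl
  | true => simpa using Int.emod_eq_zero_of_dvd (hb rfl)

/-- The values of the block at eleven and of the principal character, in the standard order. -/
def head (v : Fin 4 → ℤ) (w : ℤ) : List (Option ℤ) :=
  [some 1, some (v 1), some (v 3), some w, some w, none, none, none, none, none, some (v 0),
    some (v 2)]

/-- The candidates for the head of the column at an involution with five in the centralizer. -/
def headU (s : ℤ) : List (Option ℤ) := head ![5, 6, 0, 4 * s] (4 * s)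

/-- The head of the column at the other involutions. -/
def headT : List (Option ℤ) := head ![-3, 6, -8, 0] 0

/-- The values allowed by the head. -/
def withHead (h : List (Option ℤ)) (i : ℕ) (l : List ℤ) : List ℤ :=
  match (h.getD i none) with
  | some x => [x]
  | none => l

/-- The rows of the search at an involution commuting with an element of order five. -/
def rowsU {n : ℕ} (deg : Fin n → ℕ) (b : List Bool) (C K : ℕ) (s : ℤ) (i : Fin n) : Row :=
  ⟨deg i, sd (deg i), b.getD i false,
    withHead (headU s) i (optsU (deg i) C K (b.getD i false))⟩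

/-- The rows of the search at the other involutions. -/
def rowsT {n : ℕ} (deg : Fin n → ℕ) (b : List Bool) (i : Fin n) : Row :=
  ⟨deg i, sd (deg i), b.getD i false, withHead headT i (opts (deg i) 192 495)⟩

/-- The rows of the search for the principal block at five. -/
def rowsB {n : ℕ} (deg : Fin n → ℕ) (i : Fin n) : Row :=
  ⟨sd (deg i) * deg i, 0, false,
    if (i : ℕ) = 0 then [1] else if sd (deg i) = 0 then [0] else [0, 1]⟩

/-- The candidates for the principal block at five. -/
def blocks {n : ℕ} (deg : Fin n → ℕ) : List (List Bool) :=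
  (solve (List.ofFn (rowsB deg)) 5 0 0 0).map fun l => l.map fun v => decide (v = 1)

/-- The weighted sum of cubes. -/
def cube {n : ℕ} (deg : Fin n → ℕ) (l : List ℤ) : ℤ :=
  ((List.ofFn deg).zipWith (fun d v => ((95040 / d : ℕ) : ℤ) * (v * v * v)) l).sum

theorem cube_ofFn {n : ℕ} (deg : Fin n → ℕ) (V : Fin n → ℤ) :
    cube deg (List.ofFn V) = ∑ i, ((95040 / deg i : ℕ) : ℤ) * (V i * V i * V i) := by
  unfold cube
  induction n with
  | zero => simp
  | succ n ih =>
    rw [List.ofFn_succ (f := deg), List.ofFn_succ (f := V), List.zipWith_cons_cons, List.sum_cons,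
      Fin.sum_univ_succ, ih]

/-- The degrees of the three candidates that do not occur. -/
def degA : Fin 13 → ℕ := ![1, 54, 144, 16, 16, 66, 66, 66, 66, 99, 45, 120, 165]

/-- The second candidate that does not occur. -/
def degB : Fin 14 → ℕ := ![1, 54, 144, 16, 16, 11, 44, 44, 66, 176, 45, 120, 55, 110]

/-- The third candidate that does not occur. -/
def degC : Fin 17 → ℕ :=
  ![1, 54, 144, 16, 16, 11, 44, 44, 66, 176, 45, 120, 55, 55, 55, 55, 55]

/-- The outcome of the search at an involution commuting with an element of order five. -/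
def checkU {n : ℕ} (deg : Fin n → ℕ) (ok : List Bool → Bool) (good : List Bool) (col : List ℤ) :
    Bool :=
  (blocks deg).all fun b => !ok b ||
    ([(120, 792, 1), (120, 792, -1), (240, 396, 1), (240, 396, -1)] : List (ℕ × ℕ × ℤ)).all
      fun x => (solve (List.ofFn (rowsU deg b x.1 x.2.1 x.2.2)) (x.1 : ℤ) 0 0 0).all fun v =>
        decide (cube deg v < 0) || (decide (x.1 = 240) && decide (b = good) && decide (v = col))

/-- The block with thirteen characters, normalised. -/
def ok13 (b : List Bool) : Bool := b.getD 6 false || !b.getD 7 false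

/-- The indicator of a list of indices. -/
def indicator {n : ℕ} (l : List (Fin n)) : List Bool := List.ofFn fun i => decide (i ∈ l)

set_option maxRecDepth 20000 in
theorem checkU_A : checkU degA (fun _ => true) [] [] = true := by decide +kernel

set_option maxRecDepth 20000 in
theorem checkU_B : checkU degB (fun _ => true) [] [] = true := by decide +kernel

set_option maxRecDepth 20000 in
theorem checkU_C : checkU degC (fun _ => true) [] [] = true := by decide +kernel

set_option maxRecDepth 20000 in
theorem checkU_15 : checkU spec15.deg (fun _ => true) (indicator spec15.prin)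
    (List.ofFn spec15.colU) = true := by decide +kernel

set_option maxRecDepth 20000 in
theorem checkU_13 : checkU spec13.deg ok13 (indicator spec13.prin)
    (List.ofFn spec13.colU) = true := by decide +kernel

set_option maxRecDepth 20000 in
theorem checkT_15 : ((solve (List.ofFn (rowsT spec15.deg (indicator spec15.prin))) 192 0 0 0).all
    fun v => decide (v ∈ spec15.colT.map List.ofFn)) = true := by decide +kernel

set_option maxRecDepth 20000 in
theorem checkT_13 : ((solve (List.ofFn (rowsT spec13.deg (indicator spec13.prin))) 192 0 0 0).all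
    fun v => decide (v ∈ spec13.colT.map List.ofFn)) = true := by decide +kernel

/-- The multiplicities of the degrees prime to five among the multiples of eleven. -/
theorem count_five (a : Fin 6) (b : Fin 6) (c : Fin 6) (d : Fin 6) (e : Fin 2) :
    (!(decide ((a : ℕ) + b + c + d + e = 5) &&
      decide ((a : ℕ) + 6 * c + 16 * e = 15 + 4 * b + 9 * d) &&
      decide ((a : ℕ) + 16 * b + 36 * c + 81 * d + 256 * e ≤ 450) &&
      decide (((a : ℕ) + 16 * b + 36 * c + 81 * d + 256 * e) % 25 = 0)) ||
    decide (((a : ℕ), (b : ℕ), (c : ℕ), (d : ℕ), (e : ℕ)) ∈ [(0, 0, 4, 1, 0), (0, 1, 2, 1, 1), (1, 1, 3, 0, 0), (1, 2, 1, 0, 1), (2, 0, 1, 1, 1), (3, 0, 2, 0, 0), (3, 1, 0, 0, 1)])) = true := by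
  revert a b c d e
  decide +kernel

/-- The multiplicities of the multiples of fifty-five. -/
theorem count_zero (x : ℕ × ℕ × ℕ × ℕ × ℕ) (hx : x ∈ [(0, 0, 4, 1, 0), (0, 1, 2, 1, 1),
    (1, 1, 3, 0, 0), (1, 2, 1, 0, 1), (2, 0, 1, 1, 1), (3, 0, 2, 0, 0), (3, 1, 0, 0, 1)])
    (p : Fin 6) (q : Fin 2) (r : Fin 3) (s : Fin 2) :
    (!(decide (x.1 + 16 * x.2.1 + 36 * x.2.2.1 + 81 * x.2.2.2.1 + 256 * x.2.2.2.2 +
        25 * (p : ℕ) + 100 * (q : ℕ) + 225 * (r : ℕ) + 400 * (s : ℕ) = 450) &&
      decide (x.1 + 4 * x.2.2.1 + x.2.2.2.1 + 25 * (p : ℕ) + 100 * (q : ℕ) + 25 * (r : ℕ) ≤ 130)) ||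
    (decide ((s : ℕ) = 0) && decide ((x, (p : ℕ), (q : ℕ), (r : ℕ)) ∈ [((0, 0, 4, 1, 0), 0, 0, 1),
      ((0, 1, 2, 1, 1), 1, 0, 0), ((1, 2, 1, 0, 1), 1, 1, 0), ((1, 2, 1, 0, 1), 5, 0, 0),
      ((2, 0, 1, 1, 1), 3, 0, 0)]))) = true := by
  revert x
  revert p q r s
  decide +kernel

/-- The degrees of the characters with value one at an element of order five, and the others. -/
theorem count_arith {a b c d e p q r s : ℕ} (h5 : a + b + c + d + e = 5)
    (hy : (a : ℤ) - 4 * b + 6 * c - 9 * d + 16 * e = 15)
    (hsq : a + 16 * b + 36 * c + 81 * d + 256 * e + 25 * p + 100 * q + 225 * r + 400 * s = 450)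
    (hu : a + 4 * c + d + 25 * p + 100 * q + 25 * r ≤ 130) :
    s = 0 ∧ ((a, b, c, d, e), p, q, r) ∈ [((0, 0, 4, 1, 0), 0, 0, 1), ((0, 1, 2, 1, 1), 1, 0, 0),
      ((1, 2, 1, 0, 1), 1, 1, 0), ((1, 2, 1, 0, 1), 5, 0, 0), ((2, 0, 1, 1, 1), 3, 0, 0)] := by
  have hb : a < 6 ∧ b < 6 ∧ c < 6 ∧ d < 6 ∧ e < 2 ∧ p < 6 ∧ q < 2 ∧ r < 3 ∧ s < 2 := by omega
  obtain ⟨h1, h2, h3, h4, h5', h6, h7, h8, h9⟩ := hb
  have hf := count_five ⟨a, h1⟩ ⟨b, h2⟩ ⟨c, h3⟩ ⟨d, h4⟩ ⟨e, h5'⟩
  simp only [Bool.or_eq_true, Bool.not_eq_true', Bool.and_eq_false_iff, decide_eq_false_iff_not,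
    decide_eq_true_eq] at hf
  have hx := hf.resolve_left (by omega)
  have hz := count_zero _ hx ⟨p, h6⟩ ⟨q, h7⟩ ⟨r, h8⟩ ⟨s, h9⟩
  simp only [Bool.or_eq_true, Bool.not_eq_true', Bool.and_eq_false_iff, decide_eq_false_iff_not,
    decide_eq_true_eq, Bool.and_eq_true] at hz
  exact hz.resolve_left (by omega)

end CfsgLib.M12Order.DegArith
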