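import Cfsg.Agent.Lib.M12Order.DegreesList

/-!
# Simple groups of order 95040: the columns at the involutions
-/

set_option autoImplicit false
set_option linter.style.haveILetI false
set_option linter.unusedSectionVars false

open Cfsg CfsgLib.Chars CfsgLib.CharApps CfsgLib.Blocks CfsgLib.Small

namespace CfsgLib.M12Order

open DegArith

universe u

namespace DegArith

/-- The standard layout of the degrees. -/
def Layout {n : ℕ} (deg : Fin n → ℕ) : Prop :=
  12 ≤ n ∧ ∀ i : Fin n, ((i : ℕ) = 0 → deg i = 1) ∧ ((i : ℕ) = 1 → deg i = 54) ∧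
    ((i : ℕ) = 2 → deg i = 144) ∧ ((i : ℕ) = 3 ∨ (i : ℕ) = 4 → deg i = 16) ∧
    ((i : ℕ) = 10 → deg i = 45) ∧ ((i : ℕ) = 11 → deg i = 120)

instance {n : ℕ} (deg : Fin n → ℕ) : Decidable (Layout deg) := by
  unfold Layout; infer_instance

theorem head_getD {v : Fin 4 → ℤ} {w : ℤ} {i : ℕ} {x : ℤ}
    (h : (head v w).getD i none = some x) :
    (i = 0 ∧ x = 1) ∨ (i = 1 ∧ x = v 1) ∨ (i = 2 ∧ x = v 3) ∨ ((i = 3 ∨ i = 4) ∧ x = w) ∨
      (i = 10 ∧ x = v 0) ∨ (i = 11 ∧ x = v 2) := by
  rcases i with _ | _ | _ | _ | _ | _ | _ | _ | _ | _ | _ | _ | i <;>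
    simp [head] at h ⊢ <;> exact h.symm

theorem mem_withHead {h : List (Option ℤ)} {i : ℕ} {l : List ℤ} {m : ℤ}
    (h1 : ∀ x, h.getD i none = some x → m = x) (h2 : m ∈ l) : m ∈ withHead h i l := by
  unfold withHead
  split
  · next x hx => simp [h1 x hx]
  · exact h2

end DegArith

variable {G : Type u} [Group G] [Finite G]

/-- The indicator of the principal block at five along an enumeration. -/
noncomputable def FiveData.flags {y : G} (F : FiveData y) {n : ℕ}
    (c : Fin n ≃ IrrCharacter G) : List Bool :=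
  open scoped _root_.Classical in List.ofFn fun i => decide (c i ∈ F.B)

theorem FiveData.flags_getD {y : G} (F : FiveData y) {n : ℕ} (c : Fin n ≃ IrrCharacter G)
    (i : Fin n) : (F.flags c).getD i false = true ↔ c i ∈ F.B := by
  simp [FiveData.flags]

/-- The values at an involution. -/
structure Column (t : G) {n : ℕ} (c : Fin n ≃ IrrCharacter G) where
  v : Fin n → ℤ
  val : ∀ i, (v i : ℂ) = (c i : G → ℂ) t

theorem exists_column {t : G} (ht : orderOf t = 2) {n : ℕ} (c : Fin n ≃ IrrCharacter G) :
    Nonempty (Column t c) := by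
  haveI := Fintype.ofFinite G
  choose v hv using fun i => exists_int_apply_involution
    (show t * t = 1 by rw [← sq, ← ht, pow_orderOf_eq_one]) (c i)
  exact ⟨⟨v, hv⟩⟩

variable [IsSimpleGroup G] (hG : Nat.card G = 95040)

include hG

variable {n : ℕ} {deg : Fin n → ℕ} {c : Fin n ≃ IrrCharacter G}

/-- The block at five is one of the candidates. -/
theorem FiveData.flags_mem (h5 : LocalFive G) {T : Table G} (hm : T.list = mainTable) {y : G}
    (F : FiveData y) (hL : Layout deg) (hc : ∀ i, charDegree (c i : G → ℂ) = deg i) :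
    F.flags c ∈ blocks deg := by
  classical
  haveI := irrFintype G
  set V : Fin n → ℤ := fun i => if c i ∈ F.B then 1 else 0 with hV
  have hmem : List.ofFn V ∈ solve (List.ofFn (rowsB deg)) 5 0 0 0 := by
    refine mem_solve _ V (fun i => ?_) 5 0 0 0 ?_ ?_ ?_ ?_
    · by_cases h0 : (i : ℕ) = 0
      · have : c i = principal G := eq_principal hG (by rw [hc, (hL.2 i).1 h0])
        simp [rowsB, h0, hV, this, F.principal_mem]
      · by_cases hs : sd (deg i) = 0
        · have : c i ∉ F.B := fun h => by
            have h1 := F.unit _ h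
            rw [(F.m_eq hG h5 hm _).1, hc, hs] at h1
            omega
          simp [rowsB, h0, hs, hV, this]
        · by_cases h : c i ∈ F.B <;> simp [rowsB, h0, hs, hV, h]
    · have h : ∑ i, V i * V i = ∑ i, (fun χ => if χ ∈ F.B then (1 : ℤ) else 0) (c i) :=
        Finset.sum_congr rfl fun i _ => by simp only [hV]; split_ifs <;> norm_num
      rw [h, Equiv.sum_comp c (fun χ => if χ ∈ F.B then (1 : ℤ) else 0), Finset.sum_ite_mem,
        Finset.univ_inter, Finset.sum_const, F.card_B]
      norm_num
    · have h : ∑ i, (rowsB deg i).w * V i = ∑ i, (fun χ : IrrCharacter G =>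
          if χ ∈ F.B then F.m χ * (charDegree (χ : G → ℂ) : ℤ) else 0) (c i) :=
        Finset.sum_congr rfl fun i _ => by
          simp only [rowsB, hV, (F.m_eq hG h5 hm _).1, hc]
          split_ifs <;> ring
      rw [h, Equiv.sum_comp c (fun χ : IrrCharacter G =>
          if χ ∈ F.B then F.m χ * (charDegree (χ : G → ℂ) : ℤ) else 0), Finset.sum_ite_mem,
        Finset.univ_inter]
      have h' := F.rel 1 (by rw [orderOf_one]; norm_num)
      rw [Finset.sum_congr rfl (g := fun χ : IrrCharacter G =>
          ((F.m χ * (charDegree (χ : G → ℂ) : ℤ) : ℤ) : ℂ))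
        (fun χ _ => by rw [deg_eq]; push_cast; rfl)] at h'
      exact_mod_cast h'
    · simp [rowsB]
    · simp [rowsB]
  refine List.mem_map.2 ⟨_, hmem, ?_⟩
  rw [List.map_ofFn]
  unfold FiveData.flags
  congr 1
  funext i
  simp only [Function.comp, hV]
  by_cases h : c i ∈ F.B <;> simp [h]

/-- The sums along a column at an involution. -/
theorem Column.sums (h5 : LocalFive G) {T : Table G} (hm : T.list = mainTable) {y : G}
    (F : FiveData y) (hc : ∀ i, charDegree (c i : G → ℂ) = deg i) {t : G} (ht : orderOf t = 2)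
    (V : Column t c) :
    ∑ i, V.v i * V.v i = (Nat.card (cen t) : ℤ) ∧ ∑ i, (deg i : ℤ) * V.v i = 0 ∧
      ∑ i, sd (deg i) * V.v i = 0 ∧
      ∑ i : Fin n, (if (F.flags c).getD (i : ℕ) false then sd (deg i) * V.v i else 0) = 0 ∧
      0 ≤ ∑ i, ((95040 / deg i : ℕ) : ℤ) * (V.v i * V.v i * V.v i) := by
  classical
  haveI := irrFintype G
  haveI := Fintype.ofFinite G
  have hy := F.order
  refine ⟨?_, ?_, ?_, ?_, ?_⟩
  · have h := second_orthogonality (G := G) t t
    rw [if_pos (IsConj.refl t), ← Equiv.sum_comp c, Finset.sum_congr rfl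
      (g := fun i => ((V.v i * V.v i : ℤ) : ℂ)) (fun i _ => by
        rw [← V.val i, map_intCast]; push_cast; rfl)] at h
    exact_mod_cast h
  · have h := sum_degree_mul (G := G) t
    rw [if_neg (fun h => by rw [h, orderOf_one] at ht; omega), ← Equiv.sum_comp c,
      Finset.sum_congr rfl (g := fun i => (((deg i : ℤ) * V.v i : ℤ) : ℂ)) (fun i _ => by
        rw [← V.val i, deg_eq, hc]; push_cast; rfl)] at h
    exact_mod_cast h
  · have h := second_orthogonality (G := G) t y
    rw [if_neg (fun h => by
        obtain ⟨g, hg⟩ := isConj_iff.1 h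
        have hp : t ^ 2 = 1 := by rw [← ht, pow_orderOf_eq_one]
        rw [← hg, conj_pow, conj_eq_one_iff] at hp
        have := orderOf_dvd_of_pow_eq_one hp
        rw [hy] at this
        norm_num at this),
      ← Equiv.sum_comp c, Finset.sum_congr rfl (g := fun i => ((sd (deg i) * V.v i : ℤ) : ℂ))
        (fun i _ => by
          rw [← V.val i, ← F.val, map_intCast, (F.m_eq hG h5 hm _).1, hc]
          push_cast; ring)] at h
    exact_mod_cast h
  · have h := F.rel t (by rw [ht]; norm_num)
    rw [Finset.sum_congr rfl (g := fun χ : IrrCharacter G =>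
        (sd (charDegree (χ : G → ℂ)) : ℂ) * (χ : G → ℂ) t)
      (fun χ _ => by rw [(F.m_eq hG h5 hm χ).1])] at h
    rw [← Finset.univ_inter F.B, ← Finset.sum_ite_mem, ← Equiv.sum_comp c,
      Finset.sum_congr rfl
        (g := fun i : Fin n => (((if (F.flags c).getD (i : ℕ) false then sd (deg i) * V.v i else 0) : ℤ) : ℂ))
        (fun i _ => by
          by_cases hi : c i ∈ F.B
          · rw [if_pos hi, if_pos ((F.flags_getD c i).2 hi), ← V.val i, hc]; push_cast; rfl
          · rw [if_neg hi, if_neg (fun h => hi ((F.flags_getD c i).1 h))]; simp)] at h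
    exact_mod_cast h
  · have h := card_conj_mul_conj t t t
    have hinv : t⁻¹ = t := inv_eq_of_mul_eq_one_left (by rw [← sq, ← ht, pow_orderOf_eq_one])
    rw [hinv, hG, ← Equiv.sum_comp c, Finset.mul_sum, Finset.sum_congr rfl
      (g := fun i => ((((95040 / deg i : ℕ) : ℤ) * (V.v i * V.v i * V.v i) : ℤ) : ℂ))
      (fun i _ => by
        have hd : deg i ∣ 95040 := hc i ▸ hG ▸ charDegree_dvd_card (c i)
        have h0 : (deg i : ℂ) ≠ 0 := Nat.cast_ne_zero.2
          (hc i ▸ (CfsgLib.Blocks.charDegree_pos (c i)).ne')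
        obtain ⟨k, hk⟩ := hd
        rw [← V.val i, deg_eq, hc, hk, Nat.mul_div_cancel_left k
          (Nat.pos_of_ne_zero fun h' => h0 (by rw [h', Nat.cast_zero]))]
        push_cast
        field_simp)] at h
    set N := Nat.card {ab : G × G // (ab.1 * t * ab.1⁻¹) * (ab.2 * t * ab.2⁻¹) = t}
    have h' : (N : ℤ) = ∑ i, ((95040 / deg i : ℕ) : ℤ) * (V.v i * V.v i * V.v i) := by
      rw [← Int.cast_inj (α := ℂ)]
      push_cast at h ⊢
      exact h
    omega

/-- A value lies among the options. -/
theorem Column.mem_opts' (hc : ∀ i, charDegree (c i : G → ℂ) = deg i) {t : G}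
    (ht : orderOf t = 2) (V : Column t c) (hsq : ∑ i, V.v i * V.v i = (Nat.card (cen t) : ℤ))
    (hC : Nat.card (cen t) ≤ 255) {K : ℕ} (hK : K * Nat.card (cen t) = 95040) (i : Fin n) :
    V.v i ∈ opts (deg i) (Nat.card (cen t)) K := by
  classical
  refine DegArith.mem_opts ?_ ?_ ?_ hC
  · have hperf := perfect hG
    have := four_dvd_degree_sub hperf (c i)
      (show t * t = 1 by rw [← sq, ← ht, pow_orderOf_eq_one]) (V.val i)
    rwa [hc] at this
  · have hdv := dvd_index_mul (c i) (V.val i)
    have hKi : (cen t).index = K :=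
      Nat.eq_of_mul_eq_mul_right Nat.card_pos ((index_mul_card_cen hG t).trans hK.symm)
    rwa [hc, hKi] at hdv
  · rw [← hsq]
    exact Finset.single_le_sum (f := fun j => V.v j * V.v j)
      (fun j _ => mul_self_nonneg _) (Finset.mem_univ i)

/-- The head of a column. -/
theorem Column.head_eq {T : Table G} (hm : T.list = mainTable) (hL : Layout deg)
    (hc : ∀ i, charDegree (c i : G → ℂ) = deg i) {t : G} (V : Column t c) {v : Fin 4 → ℤ} {w : ℤ}
    (hv : T.HasValues t v w) (i : Fin n) {x : ℤ}
    (hx : (head v w).getD i none = some x) : V.v i = x := by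
  obtain ⟨h0, h1, h2, h3, h4⟩ := T.deg_main hm
  have hp := principal_degree hG
  have hd := hc i
  obtain ⟨l0, l1, l2, l3, l4, l5⟩ := hL.2 i
  have hval := V.val i
  have hR : c i ∈ elevens G → 11 ∣ deg i := fun h => hd ▸ mem_elevens.1 h
  have key : (c i : G → ℂ) t = (x : ℂ) := by
    rcases DegArith.head_getD hx with ⟨hi, rfl⟩ | ⟨hi, rfl⟩ | ⟨hi, rfl⟩ | ⟨hi, rfl⟩ | ⟨hi, rfl⟩ |
        ⟨hi, rfl⟩
    · rw [eq_principal hG (χ := c i) (by rw [hd, l0 hi]), principal_apply, Int.cast_one]
    all_goals
      rcases T.known (c i) with h | h | h | h | h | h | h | h <;>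
        first
          | (rw [h]; first | exact hv.1 _ | exact hv.2 _)
          | (exfalso
             first
              | (have hR' := hR h
                 first
                  | (rw [l1 hi] at hR'; omega)
                  | (rw [l2 hi] at hR'; omega)
                  | (rw [l3 hi] at hR'; omega)
                  | (rw [l4 hi] at hR'; omega)
                  | (rw [l5 hi] at hR'; omega))
              | (rw [h] at hd
                 simp only [hp, h0, h1, h2, h3, h4] at hd
                 first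
                  | (rw [l1 hi] at hd; omega)
                  | (rw [l2 hi] at hd; omega)
                  | (rw [l3 hi] at hd; omega)
                  | (rw [l4 hi] at hd; omega)
                  | (rw [l5 hi] at hd; omega)))
  rw [key] at hval
  exact_mod_cast hval

variable (h5 : LocalFive G) {T : Table G} (hm : T.list = mainTable)
  (hv : ∀ t : G, orderOf t = 2 → InvolValues G T t) {y : G} (F : FiveData y)

include h5 hm hv F

/-- The column at an involution commuting with an element of order five. -/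
theorem column_five (hL : Layout deg) (hc : ∀ i, charDegree (c i : G → ℂ) = deg i)
    {ok : List Bool → Bool} {good : List Bool} {col : List ℤ}
    (hchk : checkU deg ok good col = true) (hok : ok (F.flags c) = true) {t : G}
    (ht : orderOf t = 2) (hd : 5 ∣ Nat.card (cen t)) (V : Column t c) :
    Nat.card (cen t) = 240 ∧ F.flags c = good ∧ List.ofFn V.v = col := by
  classical
  obtain ⟨hsq, hl, hp, hr, hcube⟩ := V.sums hG h5 hm F hc ht
  rcases (hv t ht).main hm with ⟨hC, -⟩ | ⟨hC, s, hs, hval⟩
  · rw [hC] at hd; norm_num at hd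
  set C := Nat.card (cen t) with hCdef
  obtain ⟨K, hK, hKC⟩ : ∃ K, K * C = 95040 ∧ (C, K, s) ∈
      ([(120, 792, 1), (120, 792, -1), (240, 396, 1), (240, 396, -1)] : List (ℕ × ℕ × ℤ)) := by
    rcases hC with h | h <;> rcases hs with rfl | rfl <;> rw [h] <;>
      first
        | (refine ⟨792, ?_, ?_⟩ <;> simp; done)
        | (refine ⟨396, ?_, ?_⟩ <;> simp; done)
  have hC255 : C ≤ 255 := by rcases hC with h | h <;> omega
  have hmem : List.ofFn V.v ∈
      solve (List.ofFn (rowsU deg (F.flags c) C K s)) (C : ℤ) 0 0 0 := by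
    refine mem_solve _ V.v (fun i => ?_) _ _ _ _ hsq hl hp hr
    refine DegArith.mem_withHead (fun x hx => V.head_eq hG hm hL hc hval i hx) ?_
    refine DegArith.mem_optsU (V.mem_opts' hG hc ht hsq hC255 hK i) fun hb => ?_
    have := F.congB _ ((F.flags_getD c i).1 hb) t hd (V.v i) (V.val i)
    rwa [hc] at this
  have h := List.all_eq_true.1 hchk _ (F.flags_mem hG h5 hm hL hc)
  rw [hok] at h
  simp only [Bool.not_true, Bool.false_or] at h
  have h2 := List.all_eq_true.1 (List.all_eq_true.1 h _ hKC) _ hmem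
  rw [cube_ofFn] at h2
  simp only [Bool.or_eq_true, Bool.and_eq_true, decide_eq_true_eq] at h2
  rcases h2 with h2 | ⟨⟨h3, h4⟩, h5'⟩
  · omega
  · exact ⟨h3, h4, h5'⟩

/-- The column at the other involutions. -/
theorem column_other (hL : Layout deg) (hc : ∀ i, charDegree (c i : G → ℂ) = deg i) {t : G}
    (ht : orderOf t = 2) (hd : ¬ 5 ∣ Nat.card (cen t)) (V : Column t c) :
    Nat.card (cen t) = 192 ∧
      List.ofFn V.v ∈ solve (List.ofFn (rowsT deg (F.flags c))) 192 0 0 0 := by
  classical
  obtain ⟨hsq, hl, hp, hr, -⟩ := V.sums hG h5 hm F hc ht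
  rcases (hv t ht).main hm with ⟨hC, hval⟩ | ⟨hC, -⟩
  swap
  · rcases hC with h | h <;> rw [h] at hd <;> norm_num at hd
  refine ⟨hC, mem_solve _ V.v (fun i => ?_) _ _ _ _ (by rw [hsq, hC]; norm_num) hl hp hr⟩
  refine DegArith.mem_withHead (fun x hx => V.head_eq hG hm hL hc hval i hx) ?_
  have := V.mem_opts' hG hc ht hsq (by omega) (K := 495) (by rw [hC]) i
  rwa [hC] at this

/-- A candidate whose search is empty does not occur. -/
theorem false_of_checkU (hL : Layout deg) (hc : ∀ i, charDegree (c i : G → ℂ) = deg i)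
    (hchk : checkU deg (fun _ => true) [] [] = true) {t : G} (ht : orderOf t = 2)
    (hd : 5 ∣ Nat.card (cen t)) : False := by
  obtain ⟨V⟩ := exists_column ht c
  obtain ⟨-, h, -⟩ := column_five hG h5 hm hv F hL hc hchk rfl ht hd V
  have := congrArg List.length h
  simp [FiveData.flags] at this
  have := hL.1
  omega

end CfsgLib.M12Order
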