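import Cfsg.Agent.Lib.M12Order.Tools
import Cfsg.Agent.Lib.M12Order.DegreesArith
import Cfsg.Agent.Lib.CharApps.PrimeClassBound
import Cfsg.Agent.Lib.Small.Order7920

/-!
# Simple groups of order 95040: the characters at an element of order five

With `|C(y)| = 10` and all the powers of `y` conjugate, the values at `y` are `-1, 0, 1` and
determined by the degree; the multiples of eleven among the degrees are determined up to the
multiplicities in `DegArith.count_arith`.
-/

set_option autoImplicit false
set_option linter.style.haveILetI false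
set_option linter.unusedSectionVars false

open Cfsg CfsgLib.Chars CfsgLib.CharApps CfsgLib.Blocks CfsgLib.Small

namespace CfsgLib.M12Order

open DegArith

universe u

variable {G : Type u} [Group G] [Finite G]

/-- The Sylow subgroup generated by an element of order five. -/
theorem exists_sylow_five (hG : Nat.card G = 95040) {y : G} (hy : orderOf y = 5) :
    ∃ P : Sylow 5 G, (P : Subgroup G) = Subgroup.zpowers y := by
  haveI := Fact.mk (show Nat.Prime 5 by norm_num)
  refine ⟨Sylow.ofCard (Subgroup.zpowers y) ?_, Sylow.coe_ofCard _ _⟩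
  rw [Nat.card_zpowers, hy, hG, show 95040 = 5 ^ 1 * 19008 by norm_num,
    Nat.factorization_mul (by norm_num) (by norm_num), Nat.factorization_pow]
  simp [Nat.factorization_eq_zero_of_not_dvd (show ¬ 5 ∣ 19008 by norm_num),
    Nat.Prime.factorization_self (show Nat.Prime 5 by norm_num)]

/-- All the nontrivial powers of an element of order five are conjugate. -/
theorem isConj_pow_five (hG : Nat.card G = 95040) (h5 : LocalFive G) {y : G} (hy : orderOf y = 5) :
    ∀ j < 5, j ≠ 0 → IsConj (y ^ j) y := by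
  classical
  haveI := Fintype.ofFinite G
  obtain ⟨P, hP⟩ := exists_sylow_five hG hy
  have hN := h5.norm P
  rw [hP] at hN
  set s := (Finset.univ : Finset G).filter
    (fun n => n ∈ Subgroup.normalizer ((Subgroup.zpowers y : Subgroup G) : Set G)) with hs
  have hsc : s.card = 40 := by
    rw [← hN, Nat.card_eq_fintype_card, Fintype.card_subtype]
  have him : s.image (fun n => n * y * n⁻¹) ⊆ ({1, 2, 3, 4} : Finset ℕ).image (y ^ ·) := by
    intro z hz
    obtain ⟨n, hn, rfl⟩ := Finset.mem_image.1 hz
    rw [hs, Finset.mem_filter] at hn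
    have hmem : n * y * n⁻¹ ∈ Subgroup.zpowers y :=
      (Subgroup.mem_normalizer_iff.1 hn.2 y).1 (Subgroup.mem_zpowers y)
    obtain ⟨k, hk, hk'⟩ := Finset.mem_image.1
      ((mem_zpowers_iff_mem_range_orderOf).1 hmem)
    rw [Finset.mem_range, hy] at hk
    refine Finset.mem_image.2 ⟨k, ?_, hk'⟩
    have hk0 : k ≠ 0 := by
      rintro rfl
      rw [pow_zero, eq_comm, conj_eq_one_iff] at hk'
      rw [hk', orderOf_one] at hy
      omega
    simp only [Finset.mem_insert, Finset.mem_singleton]
    omega
  have hfib : ∀ z ∈ s.image (fun n => n * y * n⁻¹),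
      (s.filter fun n => n * y * n⁻¹ = z).card ≤ 10 := by
    intro z hz
    obtain ⟨m, -, rfl⟩ := Finset.mem_image.1 hz
    rw [← h5.cent y hy, Nat.card_eq_fintype_card, Fintype.card_subtype]
    refine Finset.card_le_card_of_injOn (fun n => m⁻¹ * n) ?_ ?_
    · intro n hn
      rw [Finset.mem_coe, Finset.mem_filter] at hn
      simp only [Finset.coe_filter, Finset.mem_univ, true_and, Set.mem_setOf_eq]
      rw [Subgroup.mem_centralizer_singleton_iff]
      have h := hn.2
      calc m⁻¹ * n * y = m⁻¹ * (n * y * n⁻¹) * n := by group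
        _ = m⁻¹ * (m * y * m⁻¹) * n := by rw [h]
        _ = y * (m⁻¹ * n) := by group
    · exact fun a _ b _ h => mul_left_cancel h
  have h4 : 4 ≤ (s.image (fun n => n * y * n⁻¹)).card := by
    have := Finset.card_le_mul_card_image s 10 hfib
    omega
  have heq := Finset.eq_of_subset_of_card_le him
    ((Finset.card_image_le).trans (le_trans (by decide) h4))
  intro j hj hj0
  have hmem : y ^ j ∈ s.image (fun n => n * y * n⁻¹) := by
    rw [heq]
    exact Finset.mem_image.2 ⟨j, by simp only [Finset.mem_insert, Finset.mem_singleton]; omega, rfl⟩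
  obtain ⟨n, -, hn⟩ := Finset.mem_image.1 hmem
  exact (isConj_iff.2 ⟨n, hn⟩).symm

/-- An element of order five and the block data, with the values. -/
structure FiveData (y : G) where
  order : orderOf y = 5
  m : IrrCharacter G → ℤ
  val : ∀ χ : IrrCharacter G, (m χ : ℂ) = (χ : G → ℂ) y
  cong : ∀ χ : IrrCharacter G, (5 : ℤ) ∣ m χ - charDegree (χ : G → ℂ)
  zero : ∀ χ : IrrCharacter G, 5 ∣ charDegree (χ : G → ℂ) → m χ = 0
  bound : ∀ χ : IrrCharacter G, m χ * m χ ≤ 10
  B : Finset (IrrCharacter G)
  card_B : B.card = 5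
  principal_mem : CfsgLib.Chars.principal G ∈ B
  unit : ∀ χ ∈ B, m χ = 1 ∨ m χ = -1
  rel : ∀ g : G, ¬ 5 ∣ orderOf g → ∑ χ ∈ B, (m χ : ℂ) * (χ : G → ℂ) g = 0
  congB : ∀ χ ∈ B, ∀ g : G, 5 ∣ Nat.card (cen g) → ∀ v : ℤ, (v : ℂ) = (χ : G → ℂ) g →
    (5 : ℤ) ∣ v - charDegree (χ : G → ℂ)

variable [IsSimpleGroup G] (hG : Nat.card G = 95040)

include hG

/-- The data at five. -/
theorem exists_fiveData (h5 : LocalFive G) {y : G} (hy : orderOf y = 5) :
    Nonempty (FiveData y) := by
  classical
  haveI := Fact.mk (show Nat.Prime 5 by norm_num)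
  haveI := Fintype.ofFinite G
  haveI := irrFintype G
  choose m hm hm5 using fun χ : IrrCharacter G =>
    exists_int_of_rational χ hy (isConj_pow_five hG h5 hy)
  have hzero : ∀ χ : IrrCharacter G, 5 ∣ charDegree (χ : G → ℂ) → m χ = 0 := fun χ h => by
    have h0 := eq_zero_of_dvd_orderOf χ.2 (n := 1) (p := 5) (by norm_num) (deg_eq χ)
      (not_sq_dvd_card hG (Or.inl rfl)) (by rwa [pow_one]) (x := y) (by rw [hy])
    rw [← hm χ] at h0
    exact_mod_cast h0
  have hbound : ∀ χ, m χ * m χ ≤ 10 := fun χ => by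
    have h := sum_sq_le_card_cen (g := y) {χ} m (fun ψ _ => hm ψ)
    rw [Finset.sum_singleton, h5.cent y hy, sq] at h
    exact_mod_cast h
  obtain ⟨P, hP⟩ := exists_sylow_five hG hy
  have hcard : Nat.card (P : Subgroup G) = 5 := by rw [hP, Nat.card_zpowers, hy]
  have hN := h5.norm P
  have hCy : Subgroup.centralizer ((P : Subgroup G) : Set G) = cen y := by
    rw [hP, Subgroup.zpowers_eq_closure, Subgroup.centralizer_closure]
  have hrel' : (Subgroup.centralizer ((P : Subgroup G) : Set G)).relIndex
      (Subgroup.normalizer ((P : Subgroup G) : Set G)) = 4 := by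
    have hle : Subgroup.centralizer ((P : Subgroup G) : Set G) ≤
        Subgroup.normalizer ((P : Subgroup G) : Set G) := Subgroup.centralizer_le_normalizer _
    have h := Subgroup.relIndex_mul_relIndex _ _ _ bot_le hle
    rw [Subgroup.relIndex_bot_left, Subgroup.relIndex_bot_left, hN, hCy, h5.cent y hy] at h
    rw [hCy]
    omega
  obtain ⟨M, hM⟩ := CharApps.exists_pModular (p := 5)
  haveI := hM.2.1.isPrime
  obtain ⟨X, Y, σ, ε, hB, hdisj, hX, hY, hXp, hε, hYd, hYeq, hrel⟩ :=
    CfsgLib.Small.O7920.exists_block_data (by norm_num) hM P hcard hrel'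
  norm_num at hY
  obtain ⟨θ, rfl⟩ := Finset.card_eq_one.1 hY
  have hθm : θ ∈ ({θ} : Finset (IrrCharacter G)) := Finset.mem_singleton_self θ
  have hyP : y ∈ (P : Subgroup G) := by rw [hP]; exact Subgroup.mem_zpowers y
  have hy1 : y ≠ 1 := fun h => by rw [h, orderOf_one] at hy; omega
  have hmX : ∀ χ ∈ X, m χ = σ χ := fun χ hχ => by
    have h := (hXp χ hχ).2.2 y hyP hy1
    rw [← hm χ] at h
    exact_mod_cast h
  have hmθ : m θ = -ε := by
    have h1 := hm5 θ
    have h2 := hYd θ hθm
    have h3 := hbound θ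
    have h4 : -3 ≤ m θ ∧ m θ ≤ 3 := by constructor <;> nlinarith
    rw [Int.modEq_iff_dvd] at h2
    rcases hε with h | h <;> rw [h] at h2 ⊢ <;> omega
  refine ⟨{ order := hy, m := m, val := hm, cong := fun χ => by simpa using hm5 χ, zero := hzero, bound := hbound,
            B := X ∪ {θ}, card_B := ?_, principal_mem := ?_, unit := ?_, rel := ?_,
            congB := ?_ }⟩
  · rw [Finset.card_union_of_disjoint hdisj, hX, Finset.card_singleton]
  · exact Finset.mem_union.2 ((hB _).1 (CfsgLib.Blocks.principal_mem_principalBlock M))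
  · intro χ hχ
    rcases Finset.mem_union.1 hχ with h | h
    · rw [hmX χ h]; exact (hXp χ h).1
    · rw [Finset.mem_singleton.1 h, hmθ]
      rcases hε with h' | h' <;> simp [h']
  · intro g hg
    rw [Finset.sum_union hdisj, Finset.sum_singleton, hmθ,
      Finset.sum_congr rfl (g := fun χ => (σ χ : ℂ) * (χ : G → ℂ) g)
          (fun χ hχ => by rw [hmX χ hχ]), ← hrel θ hθm g hg]
    push_cast
    ring
  · intro χ hχ g hg v hv
    exact int_congr_of_principalBlock hM (not_sq_dvd_card hG (Or.inl rfl))
      ((hB χ).2 (Finset.mem_union.1 hχ)) hg hv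

end CfsgLib.M12Order
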