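import Cfsg.Agent.Lib.M12Order.DegreesFive

/-!
# Simple groups of order 95040: the list of degrees

Five lists of degrees are left; three of them are killed in `Degrees`.
-/

set_option autoImplicit false
set_option linter.style.haveILetI false
set_option linter.unusedSectionVars false

open Cfsg CfsgLib.Chars CfsgLib.CharApps CfsgLib.Blocks CfsgLib.Small

namespace CfsgLib.M12Order

open DegArith

universe u

variable {G : Type u} [Group G] [Finite G]

/-- The characters of degree divisible by eleven. -/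
noncomputable def elevens (G : Type u) [Group G] [Finite G] : Finset (IrrCharacter G) :=
  haveI := irrFintype G
  Finset.univ.filter fun χ : IrrCharacter G => 11 ∣ charDegree (χ : G → ℂ)

theorem mem_elevens {χ : IrrCharacter G} :
    χ ∈ elevens G ↔ 11 ∣ charDegree (χ : G → ℂ) := by
  simp [elevens]

/-- The degrees of the main table. -/
theorem Table.deg_main {T : Table G} (hm : T.list = mainTable) :
    charDegree (T.a 0 : G → ℂ) = 45 ∧ charDegree (T.a 1 : G → ℂ) = 54 ∧
      charDegree (T.a 2 : G → ℂ) = 120 ∧ charDegree (T.a 3 : G → ℂ) = 144 ∧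
      ∀ j, charDegree (T.θ j : G → ℂ) = 16 := by
  have h := T.deg_a
  have h2 := T.deg_θ
  rw [hm] at h h2
  exact ⟨h 0, h 1, h 2, h 3, h2⟩

/-- The characters outside the multiples of eleven. -/
theorem Table.known {T : Table G} (χ : IrrCharacter G) :
    χ = principal G ∨ χ = T.a 0 ∨ χ = T.a 1 ∨ χ = T.a 2 ∨ χ = T.a 3 ∨ χ = T.θ 0 ∨ χ = T.θ 1 ∨
      χ ∈ elevens G := by
  rcases T.cover χ with h | ⟨i, h⟩ | ⟨h, -⟩
  · exact Or.inl h
  · fin_cases i <;> simp [Fin.append, Fin.addCases, h]
  · simp [mem_elevens, h]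

variable [IsSimpleGroup G] (hG : Nat.card G = 95040)

include hG

/-- A sum over all characters, split by the table. -/
theorem Table.sum_split {T : Table G} (hm : T.list = mainTable) {β : Type*} [AddCommMonoid β]
    [Fintype (IrrCharacter G)] (F : IrrCharacter G → β) :
    ∑ χ, F χ = (F (principal G) + F (T.a 0) + F (T.a 1) + F (T.a 2) + F (T.a 3) + F (T.θ 0) +
      F (T.θ 1)) + ∑ χ ∈ elevens G, F χ := by
  classical
  obtain ⟨h0, h1, h2, h3, h4⟩ := T.deg_main hm
  have hne : T.θ 0 ≠ T.θ 1 := fun h => by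
    have := @T.inj (Fin.natAdd 4 (0 : Fin 2)) (Fin.natAdd 4 (1 : Fin 2))
      (by rw [Fin.append_right, Fin.append_right, h])
    simp [Fin.ext_iff] at this
  have hp := principal_degree hG
  have hK : (Finset.univ : Finset (IrrCharacter G)) = insert (principal G) (insert (T.a 0)
      (insert (T.a 1) (insert (T.a 2) (insert (T.a 3) (insert (T.θ 0) (insert (T.θ 1)
        (elevens G))))))) := by
    ext χ
    simp only [Finset.mem_univ, true_iff, Finset.mem_insert]
    exact T.known χ
  have key : ∀ {χ ψ : IrrCharacter G}, charDegree (χ : G → ℂ) ≠ charDegree (ψ : G → ℂ) → χ ≠ ψ :=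
    fun h h' => h (by rw [h'])
  rw [hK, Finset.sum_insert, Finset.sum_insert, Finset.sum_insert, Finset.sum_insert,
    Finset.sum_insert, Finset.sum_insert, Finset.sum_insert]
  · simp only [add_assoc]
  all_goals
    simp only [Finset.mem_insert, mem_elevens, not_or]
    repeat' constructor
    all_goals first
      | (apply key; simp only [hp, h0, h1, h2, h3, h4]; norm_num; done)
      | exact hne
      | (simp only [hp, h0, h1, h2, h3, h4]; norm_num; done)

theorem Table.elevens_sq {T : Table G} (hm : T.list = mainTable) :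
    ∑ χ ∈ elevens G, charDegree (χ : G → ℂ) ^ 2 = 54450 := by
  classical
  haveI := irrFintype G
  obtain ⟨h0, h1, h2, h3, h4⟩ := T.deg_main hm
  have h := sum_degree_sq_nat (G := G)
  rw [T.sum_split hG hm, principal_degree hG, h0, h1, h2, h3, h4, h4, hG] at h
  norm_num at h
  omega

/-- The value of a character of the table at an element of order five. -/
theorem FiveData.known {y : G} (F : FiveData y) {χ : IrrCharacter G}
    (h : charDegree (χ : G → ℂ) ∈ [1, 16, 45, 54, 120, 144]) :
    F.m χ = sd (charDegree (χ : G → ℂ)) := by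
  have h1 := F.cong χ
  have h2 := F.bound χ
  have h3 := F.zero χ
  have h4 : -3 ≤ F.m χ ∧ F.m χ ≤ 3 := by constructor <;> nlinarith
  simp only [List.mem_cons, List.not_mem_nil, or_false] at h
  rcases h with h | h | h | h | h | h <;> rw [h] at h1 h3 ⊢ <;>
    first | (rw [h3 (by norm_num)]; rfl) | (simp [sd]; omega)

theorem FiveData.sum_sq (h5 : LocalFive G) {y : G} (F : FiveData y) [Fintype (IrrCharacter G)] :
    ∑ χ, F.m χ * F.m χ = 10 := by
  classical
  have h := second_orthogonality (G := G) y y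
  rw [if_pos (IsConj.refl y), h5.cent y F.order,
    Finset.sum_congr rfl (g := fun χ => ((F.m χ * F.m χ : ℤ) : ℂ)) (fun χ _ => by
      rw [← F.val χ, map_intCast]; push_cast; rfl)] at h
  exact_mod_cast h

theorem FiveData.sum_degree {y : G} (F : FiveData y) [Fintype (IrrCharacter G)] :
    ∑ χ, F.m χ * (charDegree (χ : G → ℂ) : ℤ) = 0 := by
  classical
  have h := sum_degree_mul (G := G) y
  rw [if_neg (fun h => by have := F.order; rw [h, orderOf_one] at this; omega),
    Finset.sum_congr rfl (g := fun χ => ((F.m χ * (charDegree (χ : G → ℂ) : ℤ) : ℤ) : ℂ))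
      (fun χ _ => by rw [← F.val χ, deg_eq]; push_cast; ring)] at h
  exact_mod_cast h

/-- The values at an element of order five are at most one in absolute value. -/
theorem FiveData.sq_le_one (h5 : LocalFive G) {T : Table G} (hm : T.list = mainTable) {y : G}
    (F : FiveData y) : (∑ χ ∈ elevens G, F.m χ * F.m χ = 5) ∧
      ∀ χ ∈ elevens G, F.m χ * F.m χ ≤ 1 := by
  classical
  haveI := irrFintype G
  obtain ⟨h0, h1, h2, h3, h4⟩ := T.deg_main hm
  have hp : F.m (principal G) = 1 := by
    rw [F.known hG (by simp [principal_degree hG]), principal_degree hG]; rfl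
  have e0 : F.m (T.a 0) = 0 := by rw [F.known hG (by simp [h0]), h0]; rfl
  have e1 : F.m (T.a 1) = -1 := by rw [F.known hG (by simp [h1]), h1]; rfl
  have e2 : F.m (T.a 2) = 0 := by rw [F.known hG (by simp [h2]), h2]; rfl
  have e3 : F.m (T.a 3) = -1 := by rw [F.known hG (by simp [h3]), h3]; rfl
  have e4 : ∀ j, F.m (T.θ j) = 1 := fun j => by rw [F.known hG (by simp [h4 j]), h4 j]; rfl
  have hR : ∑ χ ∈ elevens G, F.m χ * F.m χ = 5 := by
    have h := F.sum_sq hG h5
    rw [T.sum_split hG hm, hp, e0, e1, e2, e3, e4, e4] at h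
    linarith
  refine ⟨hR, ?_⟩
  by_contra hcon
  push Not at hcon
  obtain ⟨χ0, hχ0, hbig⟩ := hcon
  have hbig' : 4 ≤ F.m χ0 * F.m χ0 := by
    by_contra h
    have : -1 ≤ F.m χ0 ∧ F.m χ0 ≤ 1 := by constructor <;> nlinarith
    obtain ⟨hl, hr⟩ := this
    interval_cases hmv : F.m χ0 <;> omega
  -- the part of the block among the multiples of eleven
  set A := F.B.filter (fun χ => χ ∈ elevens G) with hA
  have hAc : A.card ≤ 1 := by
    have hsub : insert χ0 A ⊆ elevens G := Finset.insert_subset hχ0 fun χ hχ =>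
      (Finset.mem_filter.1 hχ).2
    have hnot : χ0 ∉ A := fun h => by
      rcases F.unit χ0 (Finset.mem_filter.1 h).1 with h' | h' <;> rw [h'] at hbig' <;> omega
    have h := Finset.sum_le_sum_of_subset_of_nonneg hsub
      (fun χ _ _ => mul_self_nonneg (F.m χ))
    rw [Finset.sum_insert hnot, hR, Finset.sum_congr rfl (g := fun _ => (1 : ℤ)) (s₁ := A)
      (fun χ hχ => by rcases F.unit χ (Finset.mem_filter.1 hχ).1 with h' | h' <;> rw [h'] <;>
        norm_num), Finset.sum_const, nsmul_one] at h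
    omega
  let f : IrrCharacter G → ℤ := fun χ => F.m χ * (charDegree (χ : G → ℂ) : ℤ)
  set K : Finset (IrrCharacter G) :=
    {principal G, T.a 1, T.a 3, T.θ 0, T.θ 1} with hK
  set B' := F.B.filter (fun χ => χ ∉ elevens G) with hB'
  have hB'K : B' ⊆ K := by
    intro χ hχ
    obtain ⟨hχB, hχR⟩ := Finset.mem_filter.1 hχ
    have hu := F.unit χ hχB
    rcases T.known χ with h | h | h | h | h | h | h | h
    · simp [hK, h]
    · rw [h, e0] at hu; omega
    · simp [hK, h]
    · rw [h, e2] at hu; omega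
    · simp [hK, h]
    · simp [hK, h]
    · simp [hK, h]
    · exact absurd h hχR
  have hsplit : A.card + B'.card = 5 := by
    rw [hA, hB', Finset.card_filter_add_card_filter_not, F.card_B]
  have hrel : ∑ χ ∈ A, f χ + ∑ χ ∈ B', f χ = 0 := by
    rw [hA, hB', Finset.sum_filter_add_sum_filter_not]
    have h := F.rel 1 (by rw [orderOf_one]; norm_num)
    rw [Finset.sum_congr rfl (g := fun χ => ((f χ : ℤ) : ℂ))
      (fun χ _ => by rw [deg_eq]; simp [f])] at h
    exact_mod_cast h
  have h11 : (11 : ℤ) ∣ ∑ χ ∈ A, f χ := Finset.dvd_sum fun χ hχ =>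
    dvd_mul_of_dvd_right (by exact_mod_cast mem_elevens.1 (Finset.mem_filter.1 hχ).2) _
  have hf : ∀ χ ∈ K, f χ = 1 ∨ f χ = -54 ∨ f χ = -144 ∨ f χ = 16 := by
    intro χ hχ
    simp only [hK, Finset.mem_insert, Finset.mem_singleton] at hχ
    rcases hχ with rfl | rfl | rfl | rfl | rfl <;>
      simp [f, hp, e1, e3, e4, principal_degree hG, h1, h3, h4]
  have hKsum : ∑ χ ∈ K, f χ = -165 ∧ K.card = 5 := by
    have hne : T.θ 0 ≠ T.θ 1 := fun h => by
      have := @T.inj (Fin.natAdd 4 (0 : Fin 2)) (Fin.natAdd 4 (1 : Fin 2))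
        (by rw [Fin.append_right, Fin.append_right, h])
      simp [Fin.ext_iff] at this
    have key : ∀ {χ ψ : IrrCharacter G}, charDegree (χ : G → ℂ) ≠ charDegree (ψ : G → ℂ) →
        χ ≠ ψ := fun h h' => h (by rw [h'])
    have n01 : principal G ∉ ({T.a 1, T.a 3, T.θ 0, T.θ 1} : Finset (IrrCharacter G)) := by
      simp only [Finset.mem_insert, Finset.mem_singleton, not_or]
      refine ⟨key ?_, key ?_, key ?_, key ?_⟩ <;> simp [principal_degree hG, h1, h3, h4]
    have n12 : T.a 1 ∉ ({T.a 3, T.θ 0, T.θ 1} : Finset (IrrCharacter G)) := by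
      simp only [Finset.mem_insert, Finset.mem_singleton, not_or]
      refine ⟨key ?_, key ?_, key ?_⟩ <;> simp [h1, h3, h4]
    have n23 : T.a 3 ∉ ({T.θ 0, T.θ 1} : Finset (IrrCharacter G)) := by
      simp only [Finset.mem_insert, Finset.mem_singleton, not_or]
      refine ⟨key ?_, key ?_⟩ <;> simp [h3, h4]
    rw [hK, Finset.sum_insert n01, Finset.sum_insert n12, Finset.sum_insert n23,
      Finset.sum_pair hne, Finset.card_insert_of_notMem n01, Finset.card_insert_of_notMem n12,
      Finset.card_insert_of_notMem n23, Finset.card_pair hne]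
    simp [f, hp, e1, e3, e4, principal_degree hG, h1, h3, h4]
  have hd := Finset.sum_sdiff (f := f) hB'K
  have hdc : (K \ B').card ≤ 1 := by
    rw [Finset.card_sdiff_of_subset hB'K, hKsum.2]; omega
  rcases Nat.le_one_iff_eq_zero_or_eq_one.1 hdc with hc | hc
  · rw [Finset.card_eq_zero.1 hc, Finset.sum_empty, hKsum.1] at hd
    have hA0 : A = ∅ := by
      rw [← Finset.card_eq_zero]
      have := Finset.card_sdiff_of_subset hB'K
      rw [hc, hKsum.2] at this
      omega
    rw [hA0, Finset.sum_empty] at hrel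
    omega
  · obtain ⟨x, hx⟩ := Finset.card_eq_one.1 hc
    have hxK : x ∈ K := (Finset.mem_sdiff.1 (hx ▸ Finset.mem_singleton_self x)).1
    rw [hx, Finset.sum_singleton, hKsum.1] at hd
    rcases hf x hxK with h | h | h | h <;> omega

/-- The values at an element of order five are determined by the degrees. -/
theorem FiveData.m_eq (h5 : LocalFive G) {T : Table G} (hm : T.list = mainTable) {y : G}
    (F : FiveData y) (χ : IrrCharacter G) : F.m χ = sd (charDegree (χ : G → ℂ)) ∧
      (χ ∈ elevens G → charDegree (χ : G → ℂ) ∈ [11, 44, 66, 99, 176, 55, 110, 165, 220]) := by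
  obtain ⟨h0, h1, h2, h3, h4⟩ := T.deg_main hm
  by_cases hR : χ ∈ elevens G
  swap
  · refine ⟨F.known hG ?_, fun h => absurd h hR⟩
    rcases T.known χ with h | h | h | h | h | h | h | h <;>
      first | exact absurd h hR | simp [h, principal_degree hG, h0, h1, h2, h3, h4]
  have hle := (F.sq_le_one hG h5 hm).2 χ hR
  have hml : -1 ≤ F.m χ ∧ F.m χ ≤ 1 := by constructor <;> nlinarith
  obtain ⟨-, hdvd, hpos⟩ := degree_facts hG χ
  have hlt : charDegree (χ : G → ℂ) < 234 := by
    have h := Finset.single_le_sum (f := fun ψ : IrrCharacter G => charDegree (ψ : G → ℂ) ^ 2)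
      (fun _ _ => Nat.zero_le _) hR
    rw [T.elevens_sq hG hm] at h
    by_contra hlt
    have := Nat.pow_le_pow_left (not_lt.1 hlt) 2
    omega
  have hc := F.cong χ
  have h5' := F.zero χ
  have key : ∀ d < 234, 11 ∣ d → d ∣ 95040 → (d % 5 = 0 ∨ d % 5 = 1 ∨ d % 5 = 4) → 0 < d →
      d ∈ [11, 44, 66, 99, 176, 55, 110, 165, 220] := by
    have hall : ((List.range 234).all fun d =>
        !(decide (d % 11 = 0) && decide (95040 % d = 0) && decide (d % 5 = 0 ∨ d % 5 = 1 ∨ d % 5 = 4)
          && decide (0 < d)) || [11, 44, 66, 99, 176, 55, 110, 165, 220].contains d) = true := by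
      decide +kernel
    intro d hd ha hb hc hd0
    have h := List.all_eq_true.1 hall d (List.mem_range.2 hd)
    simpa [Nat.dvd_iff_mod_eq_zero.1 ha, Nat.dvd_iff_mod_eq_zero.1 hb, hc, hd0] using h
  refine ⟨?_, fun _ => key _ hlt (mem_elevens.1 hR) hdvd (by omega) hpos⟩
  unfold sd
  split_ifs with ha hb
  · exact h5' ha
  all_goals omega

/-- The lower bound for the squares at an involution commuting with an element of order five. -/
def weight (d : ℕ) : ℕ :=
  if d = 11 ∨ d = 99 then 1 else if d = 66 then 4 else if d = 55 ∨ d = 165 then 25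
  else if d = 110 then 100 else 0

/-- The weights at an involution commuting with an element of order five. -/
theorem sum_weight_le {T : Table G} (hm : T.list = mainTable)
    (hv : ∀ t : G, orderOf t = 2 → InvolValues G T t) {t : G} (ht : orderOf t = 2)
    (hd : 5 ∣ Nat.card (cen t))
    (hD : ∀ χ ∈ elevens G,
      charDegree (χ : G → ℂ) ∈ [11, 44, 66, 99, 176, 55, 110, 165, 220]) :
    ∑ χ ∈ elevens G, weight (charDegree (χ : G → ℂ)) ≤ 130 := by
  classical
  haveI := irrFintype G
  haveI := Fintype.ofFinite G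
  obtain ⟨h0, h1, h2, h3, h4⟩ := T.deg_main hm
  have htt : t * t = 1 := by rw [← sq, ← ht, pow_orderOf_eq_one]
  have ht1 : t ≠ 1 := fun h => by rw [h, orderOf_one] at ht; omega
  rcases (hv t ht).main hm with ⟨hC, -⟩ | ⟨hC, s, hs, hval, hw⟩
  · rw [hC] at hd; norm_num at hd
  choose v hvv using fun χ : IrrCharacter G => exists_int_apply_involution htt χ
  have hsq := sum_sq_le_card_cen (g := t) Finset.univ v (fun χ _ => hvv χ)
  rw [T.sum_split hG hm] at hsq
  have eb : ∀ i, v (T.a i) = (![5, 6, 0, 4 * s] : Fin 4 → ℤ) i := fun i => by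
    have h := hval i; rw [← hvv] at h; exact_mod_cast h
  have ew : ∀ j, v (T.θ j) = 4 * s := fun j => by
    have h := hw j; rw [← hvv] at h; exact_mod_cast h
  have ep : v (principal G) = 1 := by
    have h := principal_apply (G := G) t; rw [← hvv] at h; exact_mod_cast h
  rw [ep, eb 0, eb 1, eb 2, eb 3, ew, ew] at hsq
  simp only [Matrix.cons_val_zero, Matrix.cons_val_one, Matrix.cons_val] at hsq
  have hle : (Nat.card (cen t) : ℤ) ≤ 240 := by
    rcases hC with h | h <;> rw [h] <;> norm_num
  have hR : ∑ χ ∈ elevens G, v χ ^ 2 ≤ 130 := by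
    rcases hs with rfl | rfl <;> linarith
  have hw : ∀ χ ∈ elevens G, (weight (charDegree (χ : G → ℂ)) : ℤ) ≤ v χ ^ 2 := by
    intro χ hχ
    have hdd := hD χ hχ
    obtain ⟨m, hmm, h4', -, -⟩ := involution_value hG htt ht1 χ (fun h => by simp [h] at hdd)
    obtain rfl : m = v χ := by
      have := hmm.trans (hvv χ).symm
      exact_mod_cast this
    have hdv := dvd_index_mul χ hmm
    have hK := index_mul_card_cen hG t
    have hK' : (cen t).index = 396 ∨ (cen t).index = 792 := by
      rcases hC with h | h <;> rw [h] at hK <;> omega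
    rw [sq]
    simp only [List.mem_cons, List.not_mem_nil, or_false] at hdd
    rcases hdd with h | h | h | h | h | h | h | h | h <;> rw [h] at h4' hdv ⊢
    · have : v χ ≤ -1 ∨ 1 ≤ v χ := by omega
      simp [weight]; rcases this with h | h <;> nlinarith
    · simp [weight]; exact mul_self_nonneg _
    · have : v χ ≤ -2 ∨ 2 ≤ v χ := by omega
      simp [weight]; rcases this with h | h <;> nlinarith
    · have : v χ ≤ -1 ∨ 1 ≤ v χ := by omega
      simp [weight]; rcases this with h | h <;> nlinarith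
    · simp [weight]; exact mul_self_nonneg _
    · have : v χ ≤ -5 ∨ 5 ≤ v χ := by rcases hK' with h' | h' <;> rw [h'] at hdv <;> omega
      simp [weight]; rcases this with h | h <;> nlinarith
    · have : v χ ≤ -10 ∨ 10 ≤ v χ := by rcases hK' with h' | h' <;> rw [h'] at hdv <;> omega
      simp [weight]; rcases this with h | h <;> nlinarith
    · have : v χ ≤ -5 ∨ 5 ≤ v χ := by rcases hK' with h' | h' <;> rw [h'] at hdv <;> omega
      simp [weight]; rcases this with h | h <;> nlinarith
    · simp [weight]; exact mul_self_nonneg _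
  have hle2 := Finset.sum_le_sum hw
  have : ((∑ χ ∈ elevens G, weight (charDegree (χ : G → ℂ)) : ℕ) : ℤ) ≤ 130 := by
    push_cast; linarith
  exact_mod_cast this

/-- The degrees follow one of five lists. -/
theorem exists_degree_list (h5 : LocalFive G) {T : Table G} (hm : T.list = mainTable)
    (hv : ∀ t : G, orderOf t = 2 → InvolValues G T t) {y : G} (F : FiveData y) {t : G}
    (ht : orderOf t = 2) (hd : 5 ∣ Nat.card (cen t)) :
    (∃ c : Fin 13 ≃ IrrCharacter G, ∀ i, charDegree (c i : G → ℂ) = degA i) ∨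
    (∃ c : Fin 14 ≃ IrrCharacter G, ∀ i, charDegree (c i : G → ℂ) = degB i) ∨
    (∃ c : Fin 17 ≃ IrrCharacter G, ∀ i, charDegree (c i : G → ℂ) = degC i) ∨
    (∃ c : Fin 15 ≃ IrrCharacter G, ∀ i, charDegree (c i : G → ℂ) = spec15.deg i) ∨
    (∃ c : Fin 13 ≃ IrrCharacter G, ∀ i, charDegree (c i : G → ℂ) = spec13.deg i) := by
  classical
  haveI := irrFintype G
  obtain ⟨h0, h1, h2, h3, h4⟩ := T.deg_main hm
  set D : Finset ℕ := {11, 44, 66, 99, 176, 55, 110, 165, 220} with hDdef
  have hDl : ∀ χ ∈ elevens G,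
      charDegree (χ : G → ℂ) ∈ [11, 44, 66, 99, 176, 55, 110, 165, 220] := fun χ h =>
    (F.m_eq hG h5 hm χ).2 h
  let n : ℕ → ℕ := fun d => ((elevens G).filter fun χ : IrrCharacter G => charDegree (χ : G → ℂ) = d).card
  have hsplit : ∀ f : ℕ → ℤ, ∑ χ ∈ elevens G, f (charDegree (χ : G → ℂ)) =
      (n 11 : ℤ) * f 11 + (n 44 : ℤ) * f 44 + (n 66 : ℤ) * f 66 + (n 99 : ℤ) * f 99 +
      (n 176 : ℤ) * f 176 + (n 55 : ℤ) * f 55 + (n 110 : ℤ) * f 110 + (n 165 : ℤ) * f 165 +
      (n 220 : ℤ) * f 220 := by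
    intro f
    rw [← Finset.sum_fiberwise_of_maps_to (t := D) (g := fun χ : IrrCharacter G => charDegree (χ : G → ℂ))
      (fun χ hχ => by
        have := hDl χ hχ
        simp only [List.mem_cons, List.not_mem_nil, or_false] at this
        simp only [hDdef, Finset.mem_insert, Finset.mem_singleton]
        exact this)]
    have hconst : ∀ d, ∑ χ ∈ (elevens G).filter (fun χ : IrrCharacter G => charDegree (χ : G → ℂ) = d),
        f (charDegree (χ : G → ℂ)) = (n d : ℤ) * f d := fun d => by
      rw [Finset.sum_congr rfl (g := fun _ => f d) (fun χ hχ => by rw [(Finset.mem_filter.1 hχ).2]),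
        Finset.sum_const, nsmul_eq_mul]
    simp only [hconst, hDdef, Finset.sum_insert, Finset.mem_insert, Finset.mem_singleton,
      Finset.sum_singleton, Nat.reduceEqDiff, or_self, not_false_eq_true]
    ring
  have hm2 := (F.sq_le_one hG h5 hm).1
  rw [Finset.sum_congr rfl (g := fun χ : IrrCharacter G =>
      sd (charDegree (χ : G → ℂ)) * sd (charDegree (χ : G → ℂ)))
    (fun χ _ => by rw [(F.m_eq hG h5 hm χ).1]), hsplit (fun d => sd d * sd d)] at hm2
  simp [sd] at hm2
  have hy := F.sum_degree hG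
  rw [Finset.sum_congr rfl (g := fun χ : IrrCharacter G =>
      sd (charDegree (χ : G → ℂ)) * (charDegree (χ : G → ℂ) : ℤ))
    (fun χ _ => by rw [(F.m_eq hG h5 hm χ).1]), T.sum_split hG hm, hsplit (fun d => sd d * d),
    principal_degree hG, h0, h1, h2, h3, h4, h4] at hy
  simp [sd] at hy
  have hsq : ((∑ χ ∈ elevens G, charDegree (χ : G → ℂ) ^ 2 : ℕ) : ℤ) = 54450 := by
    rw [T.elevens_sq hG hm]; norm_num
  push_cast at hsq
  rw [hsplit (fun d => (d : ℤ) ^ 2)] at hsq
  norm_num at hsq
  have hw : ((∑ χ ∈ elevens G, weight (charDegree (χ : G → ℂ)) : ℕ) : ℤ) ≤ 130 := by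
    exact_mod_cast sum_weight_le hG hm hv ht hd hDl
  push_cast at hw
  rw [hsplit (fun d => (weight d : ℤ))] at hw
  simp [weight] at hw
  obtain ⟨hs, hl⟩ := count_arith (a := n 11) (b := n 44) (c := n 66) (d := n 99) (e := n 176)
    (p := n 55) (q := n 110) (r := n 165) (s := n 220) (by omega) (by omega) (by omega) (by omega)
  have build : ∀ (k : ℕ) (deg : Fin k → ℕ), (∀ f : ℕ → ℤ, ∑ i, f (deg i) =
      f 1 + f 45 + f 54 + f 120 + f 144 + f 16 + f 16 + ((n 11 : ℤ) * f 11 + (n 44 : ℤ) * f 44 +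
        (n 66 : ℤ) * f 66 + (n 99 : ℤ) * f 99 + (n 176 : ℤ) * f 176 + (n 55 : ℤ) * f 55 +
        (n 110 : ℤ) * f 110 + (n 165 : ℤ) * f 165 + (n 220 : ℤ) * f 220)) →
      ∃ c : Fin k ≃ IrrCharacter G, ∀ i, charDegree (c i : G → ℂ) = deg i := by
    intro k deg hdeg
    have hcard : ∀ d : ℕ, Fintype.card {i : Fin k // deg i = d} =
        Fintype.card {χ : IrrCharacter G // charDegree (χ : G → ℂ) = d} := by
      intro d
      have key := hdeg (fun x => if x = d then 1 else 0)
      rw [← hsplit (fun x => if x = d then 1 else 0)] at key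
      have h := T.sum_split hG hm (fun χ : IrrCharacter G =>
        (if charDegree (χ : G → ℂ) = d then (1 : ℤ) else 0))
      rw [principal_degree hG, h0, h1, h2, h3, h4, h4] at h
      rw [← key] at h
      rw [Finset.sum_boole, Finset.sum_boole] at h
      rw [Fintype.card_subtype, Fintype.card_subtype]
      exact_mod_cast h.symm
    refine ⟨Equiv.ofFiberEquiv (f := deg) (g := fun χ : IrrCharacter G => charDegree (χ : G → ℂ))
      (fun d => Fintype.equivOfCardEq (hcard d)), fun i => ?_⟩
    exact Equiv.ofFiberEquiv_map (f := deg)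
      (g := fun χ : IrrCharacter G => charDegree (χ : G → ℂ)) _ i
  simp only [List.mem_cons, List.not_mem_nil, or_false, Prod.mk.injEq] at hl
  rcases hl with ⟨⟨e1, e2, e3, e4, e5⟩, e6, e7, e8⟩ | ⟨⟨e1, e2, e3, e4, e5⟩, e6, e7, e8⟩ |
    ⟨⟨e1, e2, e3, e4, e5⟩, e6, e7, e8⟩ | ⟨⟨e1, e2, e3, e4, e5⟩, e6, e7, e8⟩ |
    ⟨⟨e1, e2, e3, e4, e5⟩, e6, e7, e8⟩
  · exact Or.inl (build _ degA fun f => by
      rw [e1, e2, e3, e4, e5, e6, e7, e8, hs]
      simp [Fin.sum_univ_succ, degA]; ring)
  · exact Or.inr (Or.inr (Or.inr (Or.inr (build _ spec13.deg fun f => by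
      rw [e1, e2, e3, e4, e5, e6, e7, e8, hs]
      change ∑ i : Fin 13, f ((![1, 54, 144, 16, 16, 44, 66, 66, 99, 176, 45, 120, 55] :
        Fin 13 → ℕ) i) = _
      simp [Fin.sum_univ_succ]; ring))))
  · exact Or.inr (Or.inl (build _ degB fun f => by
      rw [e1, e2, e3, e4, e5, e6, e7, e8, hs]
      simp [Fin.sum_univ_succ, degB]; ring))
  · exact Or.inr (Or.inr (Or.inl (build _ degC fun f => by
      rw [e1, e2, e3, e4, e5, e6, e7, e8, hs]
      simp [Fin.sum_univ_succ, degC]; ring)))
  · exact Or.inr (Or.inr (Or.inr (Or.inl (build _ spec15.deg fun f => by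
      rw [e1, e2, e3, e4, e5, e6, e7, e8, hs]
      change ∑ i : Fin 15, f ((![1, 54, 144, 16, 16, 11, 11, 66, 99, 176, 45, 120, 55, 55, 55] :
        Fin 15 → ℕ) i) = _
      simp [Fin.sum_univ_succ]; ring))))

end CfsgLib.M12Order
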