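import Cfsg.Agent.Lib.M12Order.SmallSection
import Cfsg.Agent.Lib.Small.Order7920
import Cfsg.Agent.Lib.Small.SelfCentralPrime

/-!
# The principal block at eleven in simple groups of order dividing 95040
-/

set_option autoImplicit false
set_option linter.unusedSectionVars false
set_option linter.style.haveILetI false

open Cfsg CfsgLib.Chars CfsgLib.CharApps CfsgLib.Blocks CfsgLib.Small

namespace CfsgLib.M12Order

universe u

variable {T : Type u} [Group T] [Finite T] [IsSimpleGroup T]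

theorem charKer_trivial {χ : IrrCharacter T} (hne : χ ≠ principal T)
    {g : T} (hg : g ≠ 1) : (χ : T → ℂ) g ≠ (χ : T → ℂ) 1 := by
  haveI := Fintype.ofFinite T
  exact apply_ne_degree (fun K hK hgK =>
    hK.eq_bot_or_eq_top.resolve_left fun h => hg (by rwa [h, Subgroup.mem_bot] at hgK)) χ hne

theorem principal_deg : charDegree (principal T : T → ℂ) = 1 := by
  have h := deg_eq (principal T)
  rw [principal_apply] at h
  exact_mod_cast h.symm

theorem sq_deg_lt (χ : IrrCharacter T) (hne : χ ≠ principal T) :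
    charDegree (χ : T → ℂ) * charDegree (χ : T → ℂ) < Nat.card T := by
  classical
  haveI := irrFintype T
  rw [← sum_degree_sq_nat (G := T), ← Finset.add_sum_erase _ _ (Finset.mem_univ χ)]
  have hmem : principal T ∈ (Finset.univ.erase χ : Finset (IrrCharacter T)) :=
    Finset.mem_erase.mpr ⟨Ne.symm hne, Finset.mem_univ _⟩
  have := Finset.single_le_sum (f := fun ψ : IrrCharacter T => charDegree (ψ : T → ℂ) ^ 2)
    (fun _ _ => Nat.zero_le _) hmem
  rw [principal_deg, one_pow] at this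
  rw [← pow_two]
  omega

/-- An involution centralizing an element of order eleven. -/
theorem large_of_involution (hna : ¬ IsMulCommutative T) [Fact (Nat.Prime 11)] {M : Ideal AlgInt}
    (hM : IsPModular 11 M) (hsq : ¬ 11 ^ 2 ∣ Nat.card T) {a : ℕ} (ha : ¬ 2 ^ (a + 1) ∣ Nat.card T)
    {c : T} (hc : orderOf c = 2) (hcC : 11 ∣ Nat.card (Subgroup.centralizer ({c} : Set T)))
    {χ : IrrCharacter T} (hχ : χ ∈ principalBlock M T) (hne : χ ≠ principal T)
    (h11 : ¬ 11 ∣ charDegree (χ : T → ℂ)) :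
    22 ≤ charDegree (χ : T → ℂ) ∧ ¬ 2 ^ a ∣ charDegree (χ : T → ℂ) := by
  haveI := Fintype.ofFinite T
  have hc2 : c * c = 1 := by rw [← pow_two, ← hc]; exact pow_orderOf_eq_one c
  have hc1 : c ≠ 1 := fun h => by rw [h, orderOf_one] at hc; norm_num at hc
  obtain ⟨m, hm⟩ := exists_int_apply_involution hc2 χ
  have hd : (11 : ℤ) ∣ m - charDegree (χ : T → ℂ) := int_congr_of_principalBlock hM hsq hχ hcC hm
  have h4 := four_dvd_degree_sub (commutator_eq_top hna) χ hc2 hm
  have hnorm := char_norm_le (isCharacter_of_irr χ.2) c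
  rw [← hm, deg_eq, Complex.norm_intCast, Complex.natCast_re] at hnorm
  have hle : |m| ≤ (charDegree (χ : T → ℂ) : ℤ) := by exact_mod_cast hnorm
  obtain ⟨h5, h6⟩ := abs_le.1 hle
  have hm' : m ≠ (charDegree (χ : T → ℂ) : ℤ) := fun h =>
    charKer_trivial hne hc1 (by rw [← hm, deg_eq, h, Int.cast_natCast])
  refine ⟨by omega, fun h2 => h11 ?_⟩
  have hz : (χ : T → ℂ) c = 0 := eq_zero_of_dvd_orderOf χ.2 Nat.prime_two (deg_eq χ) ha h2 (by rw [hc])
  rw [← hm] at hz
  have hm0 : m = 0 := by exact_mod_cast hz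
  rw [hm0, zero_sub, dvd_neg] at hd
  exact_mod_cast hd

section Block

variable [Fact (Nat.Prime 11)] {M : Ideal AlgInt} (hM : IsPModular 11 M) (P : Sylow 11 T)
  (hP : Nat.card (P : Subgroup T) = 11) {e : ℕ}
  (he : (Subgroup.centralizer ((P : Subgroup T) : Set T)).relIndex
    (Subgroup.normalizer ((P : Subgroup T) : Set T)) = e)

/-- A character of degree ten in the block excludes elements centralizing `P`. -/
theorem ne_ten (hna : ¬ IsMulCommutative T) (hM : IsPModular 11 M) (P : Sylow 11 T)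
    (hP : Nat.card (P : Subgroup T) = 11)
    (he : (Subgroup.centralizer ((P : Subgroup T) : Set T)).relIndex
      (Subgroup.normalizer ((P : Subgroup T) : Set T)) = e) (he2 : e = 2 ∨ e = 5) {c : T}
    (hc : c ∈ Subgroup.centralizer ((P : Subgroup T) : Set T)) (hc1 : c ≠ 1)
    (hreg : ¬ 11 ∣ orderOf c) {χ : IrrCharacter T} (hχ : χ ∈ principalBlock M T) :
    charDegree (χ : T → ℂ) ≠ 10 := by
  classical
  haveI := Fintype.ofFinite T
  intro h10
  obtain ⟨X, Y, hB, -, -, -, σ, ε, hX, hε, hY, -, -⟩ :=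
    Agent.S4441.result 11 M hM (by norm_num) P hP e he
  have hne : χ ≠ principal T := fun h => by rw [h, principal_deg] at h10; norm_num at h10
  have hχX : χ ∈ X := by
    rw [hB] at hχ
    refine hχ.resolve_right fun h => ?_
    have h1 := (hY χ h).dvd
    rw [h10] at h1
    rcases hε with rfl | rfl <;> rcases he2 with rfl | rfl <;> omega
  obtain ⟨hs, hmod, hv⟩ := hX χ hχX
  have hσ : σ χ = -1 := by
    rcases hs with h | h
    · rw [h, h10] at hmod
      exact absurd hmod.dvd (by norm_num)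
    · exact h
  -- the product of the two subgroups
  have hcomm : ∀ (x : ↥(P : Subgroup T)) (y : ↥(Subgroup.zpowers c)), Commute (x : T) (y : T) := by
    rintro ⟨x, hx⟩ ⟨_, i, rfl⟩
    exact (Commute.zpow_right (Subgroup.mem_centralizer_iff.1 hc x hx) i)
  let φ : ↥(P : Subgroup T) × ↥(Subgroup.zpowers c) →* T :=
    (P : Subgroup T).subtype.noncommCoprod (Subgroup.zpowers c).subtype hcomm
  have hφ : ∀ (x : ↥(P : Subgroup T)) (y : ↥(Subgroup.zpowers c)), φ (x, y) = (x : T) * (y : T) :=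
    fun _ _ => rfl
  haveI := Fintype.ofFinite ↥(P : Subgroup T)
  haveI := Fintype.ofFinite ↥(Subgroup.zpowers c)
  obtain ⟨n, hn⟩ := inner_char_nat (isCharacter_comp φ (isCharacter_of_irr χ.2))
    (isCharacter_of_irr (principal (↥(P : Subgroup T) × ↥(Subgroup.zpowers c))).2)
  have hsum : ∑ p : ↥(P : Subgroup T) × ↥(Subgroup.zpowers c), (χ : T → ℂ) (φ p) =
      (n : ℂ) * Nat.card (↥(P : Subgroup T) × ↥(Subgroup.zpowers c)) := by
    rw [inner_def] at hn
    simp only [principal_apply, map_one, mul_one] at hn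
    have h0 : (Nat.card (↥(P : Subgroup T) × ↥(Subgroup.zpowers c)) : ℂ) ≠ 0 :=
      Nat.cast_ne_zero.2 Nat.card_pos.ne'
    rw [← hn]
    field_simp
  have hrow : ∀ y : ↥(Subgroup.zpowers c),
      ∑ x : ↥(P : Subgroup T), (χ : T → ℂ) (φ (x, y)) = (χ : T → ℂ) (y : T) - 10 := by
    intro y
    rw [← Finset.add_sum_erase _ _ (Finset.mem_univ (1 : ↥(P : Subgroup T))),
      Finset.sum_congr rfl (g := fun _ => (-1 : ℂ)) fun x hx => ?_]
    · rw [Finset.sum_const, Finset.card_erase_of_mem (Finset.mem_univ _), Finset.card_univ,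
        ← Nat.card_eq_fintype_card, hP]
      rw [hφ, OneMemClass.coe_one, one_mul, nsmul_eq_mul]
      push_cast
      ring
    · have hx1 : (x : T) ≠ 1 := fun h => (Finset.mem_erase.1 hx).1 (Subtype.ext h)
      have hyC : (y : T) ∈ Subgroup.centralizer ((P : Subgroup T) : Set T) :=
        Subgroup.zpowers_le.2 hc y.2
      have hyr : ¬ 11 ∣ orderOf (y : T) := fun h =>
        hreg (h.trans (orderOf_dvd_of_mem_zpowers y.2))
      rw [hφ, hv x x.2 hx1 y hyC hyr, hσ]
      norm_num
  rw [Fintype.sum_prod_type, Finset.sum_comm, Finset.sum_congr rfl fun y _ => hrow y] at hsum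
  have hre := congrArg Complex.re hsum
  rw [Complex.re_sum, ← Nat.cast_mul, Complex.natCast_re] at hre
  have hnorm : ∀ y : T, ‖(χ : T → ℂ) y‖ ≤ 10 := fun y => by
    have h := char_norm_le (isCharacter_of_irr χ.2) y
    rw [deg_eq, h10] at h
    simpa using h
  have hle : ∀ y ∈ (Finset.univ : Finset ↥(Subgroup.zpowers c)),
      0 ≤ 10 - ((χ : T → ℂ) (y : T)).re := fun y _ =>
    sub_nonneg.2 ((Complex.re_le_norm _).trans (hnorm _))
  have hzero : ∑ y : ↥(Subgroup.zpowers c), (10 - ((χ : T → ℂ) (y : T)).re) = 0 := by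
    refine le_antisymm ?_ (Finset.sum_nonneg hle)
    have h1 : ∑ y : ↥(Subgroup.zpowers c), (10 - ((χ : T → ℂ) (y : T)).re) =
        -(∑ y : ↥(Subgroup.zpowers c), ((χ : T → ℂ) (y : T) - 10).re) := by
      rw [← Finset.sum_neg_distrib]
      exact Finset.sum_congr rfl fun y _ => by simp
    rw [h1, hre, neg_nonpos]
    exact Nat.cast_nonneg _
  have hyc := (Finset.sum_eq_zero_iff_of_nonneg hle).1 hzero
    ⟨c, Subgroup.mem_zpowers c⟩ (Finset.mem_univ _)
  have hre10 : ((χ : T → ℂ) c).re = 10 := by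
    change 10 - ((χ : T → ℂ) c).re = 0 at hyc
    linarith
  refine charKer_trivial hne hc1 ?_
  rw [deg_eq, h10]
  have h2 := hnorm c
  have h3 : Complex.normSq ((χ : T → ℂ) c) ≤ 100 := by
    rw [← Complex.sq_norm]; nlinarith [norm_nonneg ((χ : T → ℂ) c)]
  rw [Complex.normSq_apply, hre10] at h3
  refine Complex.ext (by rw [hre10]; simp) ?_
  have : ((χ : T → ℂ) c).im * ((χ : T → ℂ) c).im ≤ 0 := by linarith
  simp only [Complex.natCast_im]
  exact mul_self_eq_zero.1 (le_antisymm this (mul_self_nonneg _))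

include hM hP he

/-- The signed degrees of the principal block for index two or five. -/
theorem exists_relation (hna : ¬ IsMulCommutative T) {N : ℕ} (hN : Nat.card T = N)
    (he2 : e = 2 ∨ e = 5) (Q : ℕ → Prop)
    (hQ : ∀ χ ∈ principalBlock M T, χ ≠ principal T → ¬ 11 ∣ charDegree (χ : T → ℂ) →
      Q (charDegree (χ : T → ℂ))) :
    ∃ L : List ℤ, L.length = e - 1 ∧ (∀ s ∈ L, s ∈ signedCands N 11 ∧ Q s.natAbs) ∧
      1 < (1 + L.sum).natAbs ∧ (1 + L.sum).natAbs ∣ N ∧
      (1 + L.sum).natAbs * (1 + L.sum).natAbs < N ∧ Q (1 + L.sum).natAbs := by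
  classical
  haveI := Fintype.ofFinite T
  haveI := irrFintype T
  haveI := hM.2.1.isPrime
  obtain ⟨X, Y, σ, ε, hB, hdisj, hX, hY, hXp, hε, hYd, -, hrel⟩ :=
    O7920.exists_block_data (by norm_num) hM P hP he
  have hpY : principal T ∉ Y := fun h => by
    have h1 := (hYd _ h).dvd
    rw [principal_deg] at h1
    rcases hε with rfl | rfl <;> rcases he2 with rfl | rfl <;> omega
  have hpX : principal T ∈ X :=
    ((hB _).1 (principal_mem_principalBlock M)).resolve_right hpY
  have hσp : σ (principal T) = 1 := by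
    have h1 := (hXp _ hpX).2.1.dvd
    rw [principal_deg] at h1
    rcases (hXp _ hpX).1 with h | h <;> rw [h] at h1 ⊢
    norm_num at h1
  obtain ⟨θ, hθ⟩ : Y.Nonempty := Finset.card_pos.1 (by rw [hY]; rcases he2 with rfl | rfl <;> norm_num)
  set F := X.erase (principal T) with hF
  let f : IrrCharacter T → ℤ := fun χ => σ χ * (charDegree (χ : T → ℂ) : ℤ)
  refine ⟨F.toList.map f, by rw [List.length_map, Finset.length_toList, hF,
    Finset.card_erase_of_mem hpX, hX], fun s hs => ?_, ?_⟩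
  · obtain ⟨χ, hχ, rfl⟩ := List.mem_map.1 hs
    rw [Finset.mem_toList, hF, Finset.mem_erase] at hχ
    obtain ⟨hs1, hmod, -⟩ := hXp χ hχ.2
    have habs : (f χ).natAbs = charDegree (χ : T → ℂ) := by
      rcases hs1 with h | h <;> simp [f, h]
    have hd11 : ¬ 11 ∣ charDegree (χ : T → ℂ) := fun h => by
      have h1 := hmod.dvd
      rcases hs1 with h' | h' <;> rw [h'] at h1 <;> omega
    refine ⟨mem_signedCands hmod (habs ▸ hN ▸ CfsgLib.Small.charDegree_dvd_card χ)
      (habs ▸ one_lt_charDegree hna hχ.1) (habs ▸ (by rw [pow_two, ← hN]; exact sq_deg_lt χ hχ.1)),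
      habs ▸ hQ χ ((hB χ).2 (Or.inl hχ.2)) hχ.1 hd11⟩
  · have hθne : θ ≠ principal T := fun h => hpY (h ▸ hθ)
    have hd11 : ¬ 11 ∣ charDegree (θ : T → ℂ) := fun h => by
      have h1 := (hYd θ hθ).dvd
      rcases hε with rfl | rfl <;> rcases he2 with rfl | rfl <;> omega
    have hsum : 1 + (F.toList.map f).sum = ε * (charDegree (θ : T → ℂ) : ℤ) := by
      rw [Finset.sum_map_toList]
      have h := hrel θ hθ 1 (by rw [orderOf_one]; norm_num)
      rw [← Finset.add_sum_erase _ _ hpX, principal_apply, hσp, ← hF] at h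
      simp only [deg_eq] at h
      have h' : ((ε * (charDegree (θ : T → ℂ) : ℤ) : ℤ) : ℂ) = ((1 + ∑ χ ∈ F, f χ : ℤ) : ℂ) := by
        push_cast [f]
        rw [h]
        push_cast
        ring
      exact (Int.cast_injective h').symm
    have habs : (ε * (charDegree (θ : T → ℂ) : ℤ)).natAbs = charDegree (θ : T → ℂ) := by
      rcases hε with h | h <;> simp [h]
    rw [hsum, habs]
    exact ⟨one_lt_charDegree hna hθne, hN ▸ CfsgLib.Small.charDegree_dvd_card θ,
      hN ▸ sq_deg_lt θ hθne, hQ θ ((hB θ).2 (Or.inr hθ)) hθne hd11⟩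

/-- The eleven characters of the principal block for index ten. -/
theorem exists_ten (hna : ¬ IsMulCommutative T) (he10 : e = 10) :
    ∃ (Z : Finset (IrrCharacter T)) (τ : IrrCharacter T → ℤ), principal T ∉ Z ∧ Z.card = 10 ∧
      (∀ χ ∈ Z, χ ∈ principalBlock M T ∧ (τ χ = 1 ∨ τ χ = -1) ∧
        τ χ * (charDegree (χ : T → ℂ) : ℤ) ≡ 1 [ZMOD 11]) ∧
      (∀ g : T, ¬ 11 ∣ orderOf g → 1 + ∑ χ ∈ Z, (τ χ : ℂ) * (χ : T → ℂ) g = 0) := by
  classical
  haveI := Fintype.ofFinite T
  haveI := hM.2.1.isPrime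
  obtain ⟨X, Y, σ, ε, hB, hdisj, hX, hY, hXp, hε, hYd, -, hrel⟩ :=
    O7920.exists_block_data (by norm_num) hM P hP he
  subst he10
  obtain ⟨θ, rfl⟩ := Finset.card_eq_one.1 (hY.trans (by norm_num))
  let τ : IrrCharacter T → ℤ := fun χ => if χ ∈ X then σ χ else -ε
  have hθX : θ ∉ X := fun h => Finset.disjoint_left.1 hdisj h (Finset.mem_singleton_self θ)
  have hall : ∀ χ ∈ insert θ X, χ ∈ principalBlock M T ∧ (τ χ = 1 ∨ τ χ = -1) ∧
      τ χ * (charDegree (χ : T → ℂ) : ℤ) ≡ 1 [ZMOD 11] := by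
    intro χ hχ
    rcases Finset.mem_insert.1 hχ with rfl | h
    · refine ⟨(hB _).2 (Or.inr (Finset.mem_singleton_self _)), ?_, ?_⟩
      · simp only [τ, if_neg hθX]; omega
      · have h1 := (hYd _ (Finset.mem_singleton_self _)).dvd
        simp only [τ, if_neg hθX]
        rw [Int.modEq_iff_dvd]
        rcases hε with rfl | rfl <;> omega
    · simp only [τ, if_pos h]
      exact ⟨(hB _).2 (Or.inl h), (hXp χ h).1, (hXp χ h).2.1⟩
  have hp : principal T ∈ insert θ X := by
    rcases (hB _).1 (principal_mem_principalBlock M) with h | h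
    · exact Finset.mem_insert_of_mem h
    · rw [Finset.mem_singleton.1 h]; exact Finset.mem_insert_self _ _
  have hτp : τ (principal T) = 1 := by
    obtain ⟨-, hs, hm⟩ := hall _ hp
    rw [principal_deg] at hm
    rcases hs with h | h
    · exact h
    · rw [h] at hm; exact absurd hm.dvd (by norm_num)
  refine ⟨(insert θ X).erase (principal T), τ, Finset.notMem_erase _ _, ?_,
    fun χ hχ => hall χ (Finset.mem_of_mem_erase hχ), fun g hg => ?_⟩
  · rw [Finset.card_erase_of_mem hp, Finset.card_insert_of_notMem hθX, hX]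
  · have h := hrel θ (Finset.mem_singleton_self _) g hg
    have h2 : ∑ χ ∈ insert θ X, (τ χ : ℂ) * (χ : T → ℂ) g = 0 := by
      rw [Finset.sum_insert hθX, Finset.sum_congr rfl (g := fun χ => (σ χ : ℂ) * (χ : T → ℂ) g)
        fun χ hχ => by simp only [τ, if_pos hχ]]
      simp only [τ, if_neg hθX, Int.cast_neg, neg_mul]
      linear_combination -h
    rwa [← Finset.add_sum_erase _ _ hp, hτp, principal_apply, Int.cast_one, one_mul] at h2

end Block

end CfsgLib.M12Order
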