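import Cfsg.Agent.Lib.M12Order.Tools
import Cfsg.Agent.Lib.Small.OrderTools
import Cfsg.Agent.S0165

/-!
# Character values on the section of an element, and a group of order 120 or 240
-/

set_option autoImplicit false
set_option linter.style.haveILetI false
set_option linter.unusedSectionVars false

open Cfsg CfsgLib.Chars CfsgLib.CharApps CfsgLib.Blocks

namespace CfsgLib.M12Order.FiveEven

universe u

variable {G : Type u} [Group G] [Finite G]

/-- The mean of `χ (y v)` over a subgroup centralized by `y` is an algebraic integer. -/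
theorem isIntegral_avg (χ : IrrCharacter G) (H : Subgroup G) [Fintype H] {y : G}
    (hy : ∀ v ∈ H, Commute y v) :
    IsIntegral ℤ ((∑ v : H, (χ : G → ℂ) (y * v)) / (Nat.card H : ℂ)) := by
  classical
  obtain ⟨d, ρ, -, hρχ⟩ := χ.2
  set e : Module.End ℂ (Fin d → ℂ) := (Nat.card H : ℂ)⁻¹ • ∑ v : H, ρ (v : G) with he
  set W : Submodule ℂ (Fin d → ℂ) := ⨅ v : H, LinearMap.ker (ρ (v : G) - 1) with hW
  have hmemW : ∀ x, x ∈ W ↔ ∀ v : H, ρ (v : G) x = x := fun x => by
    simp [hW, sub_eq_zero]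
  have heW : ∀ x, ρ y (e x) ∈ W := by
    intro x
    rw [hmemW]
    intro v
    have hc : ρ (v : G) * ρ y = ρ y * ρ (v : G) := by rw [← map_mul, ← map_mul, (hy v v.2).eq]
    have he1 : ρ (v : G) * e = e := by
      rw [he, mul_smul_comm, Finset.mul_sum]
      congr 1
      exact Fintype.sum_equiv (Equiv.mulLeft v) _ _ fun w => by
        rw [← map_mul]
        rfl
    show (ρ (v : G) * ρ y) (e x) = _
    rw [hc]
    show ρ y ((ρ (v : G) * e) x) = _
    rw [he1]
  have hid : ∀ x ∈ W, e x = x := by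
    intro x hx
    rw [hmemW] at hx
    rw [he, LinearMap.smul_apply, LinearMap.sum_apply, Finset.sum_congr rfl (fun v _ => hx v),
      Finset.sum_const, Finset.card_univ, ← Nat.card_eq_fintype_card, ← Nat.cast_smul_eq_nsmul ℂ,
      smul_smul, inv_mul_cancel₀ (Nat.cast_ne_zero.mpr Nat.card_pos.ne'), one_smul]
  have htr : (∑ v : H, (χ : G → ℂ) (y * v)) / (Nat.card H : ℂ) =
      LinearMap.trace ℂ (Fin d → ℂ) (ρ y * e) := by
    rw [he, mul_smul_comm, Finset.mul_sum, map_smul, map_sum, smul_eq_mul, div_eq_inv_mul]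
    congr 1
    refine Finset.sum_congr rfl fun v _ => ?_
    rw [← map_mul, ← hρχ]
    rfl
  rw [htr, ← LinearMap.trace_restrict_eq_of_forall_mem W (ρ y * e) heW]
  set g := (ρ y * e).restrict (p := W) (q := W) (fun x _ => heW x) with hg
  have hgk : ∀ (k : ℕ) (w : W), (((g ^ k) w : W) : Fin d → ℂ) = ρ (y ^ k) (w : Fin d → ℂ) := by
    intro k
    induction k with
    | zero => intro w; simp
    | succ k ih =>
      intro w
      rw [pow_succ', Module.End.mul_apply, pow_succ', map_mul, Module.End.mul_apply, ← ih w]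
      show ρ y (e ((g ^ k) w : W)) = _
      rw [hid _ ((g ^ k) w).2]
  obtain ⟨b, μ, hμ, hb⟩ := CfsgLib.Chars.exists_eigenbasis g (orderOf_pos y)
    (LinearMap.ext fun w => Subtype.ext (by rw [hgk, pow_orderOf_eq_one, map_one]; rfl))
  rw [trace_eq_sum_of_eigenbasis g b μ hb]
  exact IsIntegral.sum _ fun i _ =>
    IsIntegral.of_pow (orderOf_pos y) (by rw [hμ i]; exact isIntegral_one)

/-- The integral form of `isIntegral_avg`. -/
theorem card_dvd_sum (χ : IrrCharacter G) (H : Subgroup G) [Fintype H] {y : G}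
    (hy : ∀ v ∈ H, Commute y v) {m : ℤ} (hm : (m : ℂ) = ∑ v : H, (χ : G → ℂ) (y * v)) :
    (Nat.card H : ℤ) ∣ m := by
  have h := isIntegral_avg χ H hy
  rw [← hm] at h
  have h' : IsIntegral ℤ ((algebraMap ℚ ℂ) ((m : ℚ) / (Nat.card H : ℚ))) := by
    convert h using 1
    simp
  rw [isIntegral_algebraMap_iff (algebraMap ℚ ℂ).injective] at h'
  obtain ⟨r, hr⟩ := IsIntegrallyClosed.isIntegral_iff.mp h'
  have hr' : (r : ℚ) = (m : ℚ) / (Nat.card H : ℚ) := by simpa using hr
  rw [eq_div_iff (Nat.cast_ne_zero.2 Nat.card_pos.ne')] at hr'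
  exact ⟨r, by rw [mul_comm]; exact_mod_cast hr'.symm⟩

/-- Integral values at `x` and `x ^ k` are congruent if `x ^ (k - 1)` is a `p`-element. -/
theorem int_congr_pow {p : ℕ} [hp : Fact p.Prime] (χ : IrrCharacter G) {x : G} {k n : ℕ}
    (hk : 2 ≤ k) (hx : x ^ ((k - 1) * p ^ n) = 1) {m m' : ℤ} (hm : (m : ℂ) = (χ : G → ℂ) x)
    (hm' : (m' : ℂ) = (χ : G → ℂ) (x ^ k)) : (p : ℤ) ∣ m' - m := by
  obtain ⟨M, hM⟩ := CharApps.exists_pModular p
  haveI := hM.2.1.isPrime
  haveI := Fintype.ofFinite G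
  refine dvd_of_memLocalIdeal_intCast hM.2.2 ?_
  obtain ⟨d, ρ, -, hρχ⟩ := χ.2
  obtain ⟨b, μ, hμ, hb⟩ := CfsgLib.Chars.exists_eigenbasis (ρ x)
    (Nat.mul_pos (by omega : 0 < k - 1) (pow_pos hp.out.pos n))
    (by rw [← map_pow, hx, map_one])
  have hbk : ∀ (j : ℕ) i, ρ (x ^ j) (b i) = μ i ^ j • b i := by
    intro j i
    induction j with
    | zero => simp
    | succ j ih =>
      rw [pow_succ, map_mul, Module.End.mul_apply, hb, map_smul, ih, smul_smul, pow_succ, mul_comm]
  have hdiff : ((m' - m : ℤ) : ℂ) = ∑ i, μ i * (μ i ^ (k - 1) - 1) := by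
    push_cast
    rw [hm, hm', ← hρχ, Representation.character, Representation.character,
      trace_eq_sum_of_eigenbasis _ b _ (hbk k), trace_eq_sum_of_eigenbasis _ b _ hb,
      ← Finset.sum_sub_distrib]
    refine Finset.sum_congr rfl fun i _ => ?_
    rw [mul_sub_one, ← pow_succ', Nat.sub_add_cancel (by omega)]
  rw [hdiff]
  refine MemLocalIdeal.sum' fun i _ => MemLocalIdeal.mul_left' ?_ ?_
  · exact isIntegral_mem_loc (IsIntegral.of_pow
      (Nat.mul_pos (by omega : 0 < k - 1) (pow_pos hp.out.pos n))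
      (by rw [hμ i]; exact isIntegral_one))
  · exact Modular.memLocalIdeal_root_sub_one hM.2.2 (n := n) (by rw [← pow_mul, hμ i])

/-- A character fixed by the Galois automorphisms at an element has an integral value there. -/
theorem exists_int_of_galois (χ : IrrCharacter G) (g : G)
    (h : ∀ σ : ℂ ≃+* ℂ, (galoisIrr σ χ : G → ℂ) g = (χ : G → ℂ) g) :
    ∃ m : ℤ, (m : ℂ) = (χ : G → ℂ) g := by
  haveI := Fintype.ofFinite G
  haveI : NeZero (orderOf g) := ⟨(orderOf_pos g).ne'⟩
  refine exists_int_of_rat (char_isIntegral (isCharacter_of_irr χ.2) g)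
    (exists_rat_of_fixed (char_mem_cyclo (isCharacter_of_irr χ.2) g (pow_orderOf_eq_one g))
      fun k σ _ _ => ?_)
  rw [← galoisIrr_apply]
  exact h σ

theorem charDegree_galois (σ : ℂ ≃+* ℂ) (χ : IrrCharacter G) :
    charDegree (galoisIrr σ χ : G → ℂ) = charDegree (χ : G → ℂ) := by
  have h := galoisIrr_apply σ χ (1 : G)
  rw [deg_eq, deg_eq, map_natCast] at h
  exact_mod_cast h

/-- A character of full `p`-degree vanishes at the `p`-singular elements. -/
theorem apply_eq_zero {p n : ℕ} (hp : p.Prime) (χ : IrrCharacter G) (hn : p ^ n ∣ Nat.card G)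
    (hn' : ¬ p ^ (n + 1) ∣ Nat.card G) (hd : p ^ n ∣ charDegree (χ : G → ℂ)) {g : G}
    (hg : p ∣ orderOf g) : (χ : G → ℂ) g = 0 := by
  obtain ⟨d, ρ, hρ, hρχ⟩ := χ.2
  haveI := hρ
  have hdd : charDegree (χ : G → ℂ) = d := by simp [charDegree, ← hρχ]
  rw [← hρχ]
  exact Cfsg.Agent.S0165.result ρ p n hp hn hn'
    (by rwa [Module.finrank_fin_fun, ← hdd]) g hg

theorem centralizer_zpowers (y : G) :
    Subgroup.centralizer ((Subgroup.zpowers y : Subgroup G) : Set G) = cen y := by
  rw [Subgroup.zpowers_eq_closure, Subgroup.centralizer_closure]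

theorem exists_sylow_zpowers {p : ℕ} [hp : Fact p.Prime] (hsq : ¬ p ^ 2 ∣ Nat.card G) {y : G}
    (hy : orderOf y = p) :
    ∃ S : Sylow p G, (S : Subgroup G) = Subgroup.zpowers y ∧ Nat.card (S : Subgroup G) = p := by
  have hcy : Nat.card (Subgroup.zpowers y) = p := by rw [Nat.card_zpowers, hy]
  obtain ⟨S, hS⟩ := (IsPGroup.of_card (p := p) (n := 1) (by rw [pow_one, hcy])).exists_le_sylow
  obtain ⟨j, hj⟩ := IsPGroup.iff_card.1 S.2
  have hS1 := Subgroup.card_dvd_of_le hS
  have hS2 := Subgroup.card_subgroup_dvd_card (S : Subgroup G)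
  rw [hj] at hS1 hS2
  rw [hcy] at hS1
  have hj1 : j = 1 := by
    rcases j with _ | _ | j
    · rw [pow_zero] at hS1; exact absurd hS1 hp.out.not_dvd_one
    · rfl
    · exact absurd ((pow_dvd_pow p (by omega)).trans hS2) hsq
  rw [hj1, pow_one] at hj
  exact ⟨S, (Subgroup.eq_of_le_of_card_ge hS (by rw [hcy, hj])).symm, hj⟩

/-- A group of order 120 or 240 has no element of order five with centralizer of order 40. -/
theorem card_cen_ne_forty (hG : Nat.card G = 120 ∨ Nat.card G = 240) {y : G}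
    (hy : orderOf y = 5) : Nat.card (cen y) ≠ 40 := by
  intro h40
  haveI := Fact.mk (show Nat.Prime 5 by norm_num)
  haveI := Fact.mk (show Nat.Prime 3 by norm_num)
  have hsq : ¬ 5 ^ 2 ∣ Nat.card G := by rcases hG with h | h <;> rw [h] <;> norm_num
  obtain ⟨P, hPz, hP⟩ := exists_sylow_zpowers hsq hy
  have hC : Nat.card (Subgroup.centralizer ((P : Subgroup G) : Set G)) = 40 := by
    rw [hPz, centralizer_zpowers, h40]
  set C := Subgroup.centralizer ((P : Subgroup G) : Set G) with hCdef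
  set N := Subgroup.normalizer ((P : Subgroup G) : Set G) with hNdef
  have hle : C ≤ N := Subgroup.centralizer_le_normalizer _
  have hcyc : IsCyclic (P : Subgroup G) := isCyclic_of_prime_card hP
  have key : C.relIndex N ∣ 4 := by
    have key := Subgroup.card_dvd_of_injective _
      (QuotientGroup.kerLift_injective (P : Subgroup G).normalizerMonoidHom)
    rwa [Subgroup.normalizerMonoidHom_ker, ← Subgroup.index, ← Subgroup.relIndex,
      hcyc.card_mulAut, hP, Nat.totient_prime Fact.out] at key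
  have hmul := Small.card_normalizer_mul P
  have hNC : Nat.card N = 40 * C.relIndex N := by
    rw [← hC, ← Subgroup.relIndex_bot_left C, Subgroup.relIndex_mul_relIndex _ _ _ bot_le hle,
      Subgroup.relIndex_bot_left]
  rw [← hNdef, hNC] at hmul
  have hnm : Nat.card (Sylow 5 G) % 5 = 1 := card_sylow_modEq_one 5 G
  have he : C.relIndex N = 1 := by
    have h4 := Nat.le_of_dvd (by norm_num) key
    generalize C.relIndex N = e at key hmul h4
    generalize Nat.card (Sylow 5 G) = n at hmul hnm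
    rcases hG with h | h <;> rw [h] at hmul <;> interval_cases e <;> omega
  have hNC' : N ≤ C := Subgroup.relIndex_eq_one.1 he
  have hcompl := MonoidHom.ker_transferSylow_isComplement' P hNC'
  set φ := MonoidHom.transferSylow P hNC' with hφ
  have hidx : φ.ker.index = 5 := by rw [hcompl.symm.index_eq_card, hP]
  -- a Sylow subgroup of order three in the kernel
  obtain ⟨z, hz⟩ := exists_prime_orderOf_dvd_card' (G := G) 3
    (by rcases hG with h | h <;> rw [h] <;> norm_num)
  have hsq3 : ¬ 3 ^ 2 ∣ Nat.card G := by rcases hG with h | h <;> rw [h] <;> norm_num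
  obtain ⟨R, hRz, hR⟩ := exists_sylow_zpowers hsq3 hz
  have hzk : z ∈ φ.ker := by
    rw [MonoidHom.mem_ker, ← orderOf_eq_one_iff]
    have h3 := orderOf_map_dvd φ z
    have h5 := orderOf_dvd_natCard (φ z)
    rw [hz] at h3
    rw [hP] at h5
    exact Nat.eq_one_of_dvd_coprimes (by norm_num : Nat.Coprime 3 5) h3 h5
  have hsup := Sylow.normalizer_sup_eq_top' R (N := φ.ker) (by
    rw [hRz, Subgroup.zpowers_le]; exact hzk)
  have h5N : 5 ∣ Nat.card (Subgroup.normalizer ((R : Subgroup G) : Set G)) := by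
    rw [← hidx, ← φ.ker.relIndex_top_right, ← hsup, Subgroup.relIndex_sup_right]
    exact Subgroup.index_dvd_card _
  obtain ⟨⟨w, hwN⟩, hw⟩ := exists_prime_orderOf_dvd_card'
    (G := Subgroup.normalizer ((R : Subgroup G) : Set G)) 5 h5N
  rw [Subgroup.orderOf_mk] at hw
  -- `w` centralizes `z`
  have hwz : Commute w z := by
    have h1 : w * z * w⁻¹ ∈ Subgroup.zpowers z := by
      rw [← hRz]
      exact (Subgroup.mem_normalizer_iff.1 hwN z).1 (hRz ▸ Subgroup.mem_zpowers z)
    obtain ⟨i, hi, hi'⟩ : ∃ i < 3, z ^ i = w * z * w⁻¹ := by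
      obtain ⟨i, hi⟩ := (isOfFinOrder_of_finite z).mem_powers_iff_mem_zpowers.2 h1
      exact ⟨i % 3, Nat.mod_lt _ (by norm_num), by rw [← hz, pow_mod_orderOf]; exact hi⟩
    have hsq' : Commute (w ^ 2) z := by
      have h2 : w ^ 2 * z * (w ^ 2)⁻¹ = z := by
        have h3 : w ^ 2 * z * (w ^ 2)⁻¹ = z ^ (i * i) := by
          rw [pow_mul, hi', conj_pow, hi', pow_two, mul_inv_rev]
          simp only [mul_assoc]
        rw [h3]
        interval_cases i
        · rw [pow_zero] at hi'
          exact absurd (by simpa using (mul_inv_eq_one.1 hi'.symm)) (fun h : z = 1 => by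
            rw [h, orderOf_one] at hz; norm_num at hz)
        · rw [one_mul, pow_one]
        · rw [← pow_mod_orderOf, hz]; norm_num
      exact mul_inv_eq_iff_eq_mul.1 h2
    have hw6 : w = (w ^ 2) ^ 3 := by
      rw [← pow_mul, show 2 * 3 = 5 + 1 from rfl, pow_succ, ← hw, pow_orderOf_eq_one, one_mul]
    rw [hw6]
    exact hsq'.pow_left 3
  obtain ⟨Q, hQw, -⟩ := exists_sylow_zpowers hsq hw
  have hCw : Nat.card (cen w) = 40 := by
    rw [← centralizer_zpowers, ← hQw, Small.card_centralizer_sylow_eq Q P, ← hCdef, hC]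
  have hd := Subgroup.orderOf_dvd_natCard (cen w)
    (Subgroup.mem_centralizer_singleton_iff.2 hwz.eq.symm : z ∈ cen w)
  rw [hz, hCw] at hd
  norm_num at hd

end CfsgLib.M12Order.FiveEven
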