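import Cfsg.Agent.Lib.M12Order.ElevenBlock
import Cfsg.Agent.Lib.CharApps.PrimeClassBound
import Cfsg.Agent.Lib.Geometry.OutShapes

/-!
# No simple group of order 15840 with a normalizer of index ten at eleven
-/

set_option autoImplicit false
set_option linter.unusedSectionVars false
set_option linter.style.haveILetI false

open Cfsg CfsgLib.Chars CfsgLib.CharApps CfsgLib.Blocks CfsgLib.Small
open scoped ComplexConjugate

namespace CfsgLib.M12Order

universe u

/-- The sign character of the dihedral group. -/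
def dihedralSign (n : ℕ) : DihedralGroup n →* ℂˣ where
  toFun
    | .r _ => 1
    | .sr _ => -1
  map_one' := rfl
  map_mul' := by
    rintro (i | i) (j | j)
    · show (1 : ℂˣ) = 1 * 1
      rw [one_mul]
    · show (-1 : ℂˣ) = 1 * -1
      rw [one_mul]
    · show (-1 : ℂˣ) = -1 * 1
      rw [mul_one]
    · show (1 : ℂˣ) = -1 * -1
      rw [neg_mul_neg, one_mul]

theorem sum_dihedral {n : ℕ} [NeZero n] (f : DihedralGroup n → ℂ) :
    ∑ g, f g = (∑ i : ZMod n, f (.r i)) + ∑ i : ZMod n, f (.sr i) := by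
  let e : ZMod n ⊕ ZMod n ≃ DihedralGroup n :=
    { toFun := fun x => Sum.elim DihedralGroup.r DihedralGroup.sr x
      invFun := fun g => match g with
        | .r i => Sum.inl i
        | .sr i => Sum.inr i
      left_inv := by rintro (i | i) <;> rfl
      right_inv := by rintro (i | i) <;> rfl }
  rw [← e.sum_comp, Fintype.sum_sum_type]
  rfl

variable {T : Type u} [Group T] [Finite T]

/-- The value at an involution inverting an element with constant values. -/
theorem bound_of_inverting (χ : IrrCharacter T) {u t : T} (hu : orderOf u = 11)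
    (ht2 : t * t = 1) (htu : t * u * t = u⁻¹) {v x : ℤ}
    (hv : ∀ i : ℕ, i % 11 ≠ 0 → (χ : T → ℂ) (u ^ i) = (v : ℂ))
    (hx : (x : ℂ) = (χ : T → ℂ) t) :
    11 * |x| ≤ (charDegree (χ : T → ℂ) : ℤ) + 10 * v := by
  classical
  have hu11 : u ^ 11 = 1 := hu ▸ pow_orderOf_eq_one u
  let φ : DihedralGroup 11 →* T := Geometry.dihedralGen 11 u t hu11 ht2 htu
  have hr : ∀ i : ZMod 11, φ (.r i) = u ^ i.val := fun i => by
    show Geometry.zmodGen 11 u hu11 (Multiplicative.ofAdd i) = _
    conv_lhs => rw [← ZMod.natCast_zmod_val i]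
    exact Geometry.zmodGen_natCast ..
  have hsr : ∀ i : ZMod 11, φ (.sr i) = t * u ^ i.val := fun i => by
    show t * Geometry.zmodGen 11 u hu11 (Multiplicative.ofAdd i) = _
    conv_lhs => rw [← ZMod.natCast_zmod_val i]
    exact congrArg _ (Geometry.zmodGen_natCast ..)
  have hconj : ∀ i : ℕ, (χ : T → ℂ) (t * u ^ i) = (χ : T → ℂ) t := by
    intro i
    obtain ⟨j, hj⟩ : ∃ j : ℕ, (u ^ j) ^ 2 = u ^ i := by
      refine ⟨i * 6, ?_⟩
      rw [← pow_mul, show i * 6 * 2 = i + 11 * i by ring, pow_add, pow_mul, hu11, one_pow, mul_one]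
    refine (Blocks.classFun_of_isConj (isClassFunction_irr χ) (isConj_iff.2 ⟨(u ^ j)⁻¹, ?_⟩)).symm
    rw [inv_inv, ← hj, pow_two]
    have hti : t⁻¹ = t := inv_eq_of_mul_eq_one_left ht2
    have h : t * u ^ j * t = (u ^ j)⁻¹ := by
      have h1 := conj_pow (a := t) (b := u) (i := j)
      rw [hti, htu] at h1
      rw [← h1, inv_pow]
    have h' : (u ^ j)⁻¹ * t = t * u ^ j := by rw [← h, mul_assoc, ht2, mul_one]
    rw [h', mul_assoc]
  have hsum1 : ∑ i : ZMod 11, (χ : T → ℂ) (φ (.r i)) =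
      (charDegree (χ : T → ℂ) : ℂ) + 10 * (v : ℂ) := by
    rw [← Finset.add_sum_erase _ _ (Finset.mem_univ (0 : ZMod 11)),
      Finset.sum_congr rfl (g := fun _ => (v : ℂ)) fun i hi => ?_, Finset.sum_const,
      Finset.card_erase_of_mem (Finset.mem_univ _), Finset.card_univ, ZMod.card, hr,
      ZMod.val_zero, pow_zero, deg_eq, nsmul_eq_mul]
    · norm_num
    · rw [hr]
      refine hv _ fun h => (Finset.mem_erase.1 hi).1 ?_
      rw [Nat.mod_eq_of_lt i.val_lt] at h
      exact (ZMod.val_eq_zero i).1 h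
  have hsum2 : ∑ i : ZMod 11, (χ : T → ℂ) (φ (.sr i)) = 11 * (x : ℂ) := by
    rw [Finset.sum_congr rfl (g := fun _ => (x : ℂ)) fun i _ => by rw [hsr, hconj, hx],
      Finset.sum_const, Finset.card_univ, ZMod.card, nsmul_eq_mul]
    norm_num
  obtain ⟨m, hm⟩ := inner_char_nat (isCharacter_comp φ (isCharacter_of_irr χ.2))
    (isCharacter_of_irr (principal (DihedralGroup 11)).2)
  obtain ⟨m', hm'⟩ := inner_char_nat (isCharacter_comp φ (isCharacter_of_irr χ.2))
    (isCharacter_of_irr (isIrrCharacter_linear (dihedralSign 11)))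
  have hcard : Nat.card (DihedralGroup 11) = 22 := by
    rw [Nat.card_eq_fintype_card, DihedralGroup.card]
  have h1 : ((charDegree (χ : T → ℂ) : ℤ) + 10 * v + 11 * x : ℤ) = (22 : ℤ) * m := by
    rw [inner_def, hcard] at hm
    simp only [principal_apply, map_one, mul_one] at hm
    rw [sum_dihedral, hsum1, hsum2] at hm
    have h : (((charDegree (χ : T → ℂ) : ℤ) + 10 * v + 11 * x : ℤ) : ℂ) =
        ((22 * (m : ℤ) : ℤ) : ℂ) := by
      push_cast
      rw [← hm]
      push_cast
      ring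
    exact_mod_cast h
  have h2 : ((charDegree (χ : T → ℂ) : ℤ) + 10 * v - 11 * x : ℤ) = (22 : ℤ) * m' := by
    rw [inner_def, hcard, sum_dihedral] at hm'
    have ea : ∀ i : ZMod 11, ((dihedralSign 11 (.r i) : ℂˣ) : ℂ) = 1 := fun _ => rfl
    have eb : ∀ i : ZMod 11, ((dihedralSign 11 (.sr i) : ℂˣ) : ℂ) = -1 := fun _ => by
      show (((-1 : ℂˣ)) : ℂ) = -1
      norm_num
    simp only [ea, eb, map_one, map_neg, mul_one, mul_neg, Finset.sum_neg_distrib, hsum1,
      hsum2] at hm'
    have h : (((charDegree (χ : T → ℂ) : ℤ) + 10 * v - 11 * x : ℤ) : ℂ) =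
        ((22 * (m' : ℤ) : ℤ) : ℂ) := by
      push_cast
      rw [← hm']
      push_cast
      ring
    exact_mod_cast h
  rcases abs_cases x with ⟨h, -⟩ | ⟨h, -⟩ <;> rw [h] <;> omega

/-- The final search. -/
theorem no_square : ∀ a ∈ ([-3, 1, 5] : List ℤ), ∀ b ∈ ([-3, 1, 5] : List ℤ),
    ∀ c ∈ ([-3, 1, 5] : List ℤ), ∀ z ∈ ([0, 4, -4, 8, -8] : List ℤ), 1 + a + b + c - z = 0 →
      Nat.sqrt (1440 + 32 * (a * a + b * b + c * c) - 12 * (z * z)).toNat *
        Nat.sqrt (1440 + 32 * (a * a + b * b + c * c) - 12 * (z * z)).toNat ≠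
          (1440 + 32 * (a * a + b * b + c * c) - 12 * (z * z)).toNat := by
  decide +kernel

/-- The identity for the involutions inverting a self-centralizing element. -/
theorem class_identity {u t : T} (hu : orderOf u = 11)
    (hC : Subgroup.centralizer ({u} : Set T) = Subgroup.zpowers u)
    (ht2 : t * t = 1) (htu : t * u * t = u⁻¹) [Fintype (IrrCharacter T)] :
    11 * (Nat.card (Subgroup.centralizer ({t} : Set T)) : ℂ) ^ 2 =
      (Nat.card T : ℂ) * ∑ ψ : IrrCharacter T,
        (ψ : T → ℂ) t ^ 2 / (ψ : T → ℂ) 1 * conj ((ψ : T → ℂ) u) := by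
  classical
  haveI := Fintype.ofFinite T
  have hu11 : u ^ 11 = 1 := hu ▸ pow_orderOf_eq_one u
  have hinvol : ∀ y : T, IsConj t y → y * y = 1 := fun y hy => by
    obtain ⟨c, rfl⟩ := isConj_iff.1 hy
    rw [show c * t * c⁻¹ * (c * t * c⁻¹) = c * (t * t) * c⁻¹ by group, ht2, mul_one, mul_inv_cancel]
  have hti : t⁻¹ = t := inv_eq_of_mul_eq_one_left ht2
  have hpow : ∀ i : ℕ, t * u ^ i * t = (u ^ i)⁻¹ := fun i => by
    have h1 := conj_pow (a := t) (b := u) (i := i)
    rw [hti, htu] at h1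
    rw [← h1, inv_pow]
  have hswap : ∀ i : ℕ, (u ^ i)⁻¹ * t = t * u ^ i := fun i => by
    rw [← hpow i, mul_assoc, ht2, mul_one]
  have hconj : ∀ i : ℕ, IsConj t (t * u ^ i) := fun i => by
    obtain ⟨j, hj⟩ : ∃ j : ℕ, (u ^ j) ^ 2 = u ^ i := by
      refine ⟨i * 6, ?_⟩
      rw [← pow_mul, show i * 6 * 2 = i + 11 * i by ring, pow_add, pow_mul, hu11, one_pow, mul_one]
    refine isConj_iff.2 ⟨(u ^ j)⁻¹, ?_⟩
    rw [inv_inv, ← hj, pow_two, hswap, mul_assoc]
  set cnt := (Finset.univ.filter fun y : T => IsConj t y ∧ IsConj t (y⁻¹ * u)).card with hcnt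
  have hcnt11 : cnt = 11 := by
    rw [hcnt]
    refine Finset.card_eq_of_bijective (fun i _ => t * u ^ i) ?_ ?_ ?_
    · intro y hy
      obtain ⟨h1, h2⟩ := (Finset.mem_filter.1 hy).2
      have e1 := hinvol y h1
      have e2 := hinvol _ h2
      have hyi : y⁻¹ = y := inv_eq_of_mul_eq_one_left e1
      rw [hyi] at e2
      have h3 : y * u * y = u⁻¹ := eq_inv_of_mul_eq_one_left (by simpa [mul_assoc] using e2)
      have hc : t * y ∈ Subgroup.zpowers u := by
        rw [← hC, Subgroup.mem_centralizer_singleton_iff]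
        have h4 : y * u = u⁻¹ * y := by rw [← h3, mul_assoc, e1, mul_one]
        have h5 : t * u⁻¹ = u * t := by
          have h6 := hswap 1
          rw [pow_one] at h6
          calc t * u⁻¹ = u * (u⁻¹ * t) * u⁻¹ := by group
            _ = u * (t * u) * u⁻¹ := by rw [h6]
            _ = u * t := by group
        calc t * y * u = t * (u⁻¹ * y) := by rw [mul_assoc, h4]
          _ = u * (t * y) := by rw [← mul_assoc, h5, mul_assoc]
      obtain ⟨i, hi⟩ := mem_powers_iff_mem_zpowers.2 hc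
      refine ⟨i % 11, Nat.mod_lt _ (by norm_num), ?_⟩
      rw [← hu, pow_mod_orderOf]
      change t * u ^ i = y
      rw [show u ^ i = t * y from hi, ← mul_assoc, ht2, one_mul]
    · intro i _
      refine Finset.mem_filter.2 ⟨Finset.mem_univ _, hconj i, ?_⟩
      rw [mul_inv_rev, hti, hswap, mul_assoc, ← pow_succ]
      exact hconj (i + 1)
    · intro i j hi hj hij
      exact (pow_injOn_Iio_orderOf (x := u)) (by simpa [hu] using hi) (by simpa [hu] using hj)
        (mul_left_cancel hij)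
  set K := Nat.card {g : T // IsConj t g} with hK
  have hconv : conv (classInd t) (classInd t) u = (cnt : ℂ) := by
    rw [hcnt, conv, Finset.card_filter, Nat.cast_sum]
    refine Finset.sum_congr rfl fun y _ => ?_
    rw [classInd_apply, classInd_apply]
    by_cases h1 : IsConj t y <;> by_cases h2 : IsConj t (y⁻¹ * u) <;>
      simp only [h1, h2, if_true, if_false, and_true, and_false, mul_one, mul_zero, zero_mul,
        Nat.cast_one, Nat.cast_zero]
  have hω : ∀ ψ : IrrCharacter T, omega (ψ : T → ℂ) (classInd t) =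
      (K : ℂ) * (ψ : T → ℂ) t / (ψ : T → ℂ) 1 := fun ψ => by
    rw [omega_classInd, centralChar, index_centralizer_eq]
  have hformula : (cnt : ℂ) * Nat.card T = (K : ℂ) ^ 2 * ∑ ψ : IrrCharacter T,
      (ψ : T → ℂ) t ^ 2 / (ψ : T → ℂ) 1 * conj ((ψ : T → ℂ) u) := by
    rw [← hconv, classFun_eq_sum_omega (isClassFunction_conv (isClassFunction_classInd t)
      (isClassFunction_classInd t)), Finset.sum_mul, Finset.mul_sum]
    refine Finset.sum_congr rfl fun ψ _ => ?_
    rw [omega_conv ψ (isClassFunction_classInd t), hω, idemCoeff]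
    have := irr_degree_ne_zero ψ.2
    have := card_ne_zero T
    field_simp
  have hcl : (K : ℂ) * (Nat.card (Subgroup.centralizer ({t} : Set T)) : ℂ) = (Nat.card T : ℂ) := by
    exact_mod_cast card_isConj_mul_card_centralizer t
  rw [hcnt11] at hformula
  apply mul_left_cancel₀ (card_ne_zero T)
  rw [← hcl] at hformula ⊢
  push_cast at hformula
  linear_combination (Nat.card (Subgroup.centralizer ({t} : Set T)) : ℂ) ^ 2 * hformula

variable [IsSimpleGroup T]

/-- No simple group of order 15840 has a normalizer of order 110 at eleven. -/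
theorem false_of_ten (hna : ¬ IsMulCommutative T) [Fact (Nat.Prime 11)] (hN : Nat.card T = 15840)
    (P : Sylow 11 T) (hP : Nat.card (P : Subgroup T) = 11)
    (he : (Subgroup.centralizer ((P : Subgroup T) : Set T)).relIndex
      (Subgroup.normalizer ((P : Subgroup T) : Set T)) = 10)
    (hC : Nat.card (Subgroup.centralizer ((P : Subgroup T) : Set T)) = 11)
    (hNP : Nat.card (Subgroup.normalizer ((P : Subgroup T) : Set T)) = 110) : False := by
  classical
  haveI := Fintype.ofFinite T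
  haveI := irrFintype T
  haveI : Fact (Nat.Prime 2) := ⟨Nat.prime_two⟩
  obtain ⟨M, hM⟩ := CharApps.exists_pModular (p := 11)
  obtain ⟨Z, τ, hpZ, hZc, hZ, hrel⟩ := exists_ten hM P hP he hna rfl
  obtain ⟨⟨u, huP⟩, hu⟩ := exists_prime_orderOf_dvd_card' (G := ↥(P : Subgroup T)) 11 (by rw [hP])
  rw [Subgroup.orderOf_mk] at hu
  have hu11 : u ^ 11 = 1 := hu ▸ pow_orderOf_eq_one u
  have hgen : Subgroup.zpowers u = (P : Subgroup T) :=
    Subgroup.eq_of_le_of_card_ge (Subgroup.zpowers_le.2 huP) (by rw [hP, Nat.card_zpowers, hu])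
  have hCP : Subgroup.centralizer ({u} : Set T) = Subgroup.zpowers u := by
    have h1 : Subgroup.centralizer ({u} : Set T) =
        Subgroup.centralizer ((P : Subgroup T) : Set T) := by
      rw [← hgen, Subgroup.zpowers_eq_closure, Subgroup.centralizer_closure]
    rw [h1]
    refine (Subgroup.eq_of_le_of_card_ge (Subgroup.zpowers_le.2 ?_)
      (by rw [hC, Nat.card_zpowers, hu])).symm
    rw [← hgen, Subgroup.mem_centralizer_iff]
    rintro _ ⟨i, rfl⟩
    exact ((Commute.refl u).zpow_left i).eq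
  set NP := Subgroup.normalizer ((P : Subgroup T) : Set T) with hNPdef
  -- all nontrivial powers are conjugate
  have hrat : ∀ j < 11, j ≠ 0 → IsConj (u ^ j) u := by
    set I := (Finset.univ : Finset ↥NP).image (fun n : ↥NP => (n : T) * u * (n : T)⁻¹) with hI
    have hsub : I ⊆ (Finset.Ico 1 11).image (fun i => u ^ i) := by
      intro y hy
      obtain ⟨n, -, rfl⟩ := Finset.mem_image.1 hy
      have hmem : (n : T) * u * (n : T)⁻¹ ∈ Subgroup.zpowers u := by
        rw [hgen]; exact (Subgroup.mem_normalizer_iff.1 n.2 u).1 huP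
      obtain ⟨i, hi⟩ := mem_powers_iff_mem_zpowers.2 hmem
      refine Finset.mem_image.2 ⟨i % 11, Finset.mem_Ico.2 ⟨?_, Nat.mod_lt _ (by norm_num)⟩,
        by rw [← hu, pow_mod_orderOf]; exact hi⟩
      refine Nat.pos_of_ne_zero fun h => ?_
      have h1 : (n : T) * u * (n : T)⁻¹ = 1 := by
        rw [← hi]
        show u ^ i = 1
        rw [← pow_mod_orderOf, hu, h, pow_zero]
      rw [mul_inv_eq_one, mul_eq_left] at h1
      rw [h1, orderOf_one] at hu
      norm_num at hu
    have hcard : 10 ≤ I.card := by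
      have h := Finset.card_le_mul_card_image (Finset.univ : Finset ↥NP) 11
        (f := fun n : ↥NP => (n : T) * u * (n : T)⁻¹) (fun b _ => ?_)
      · rw [Finset.card_univ, ← Nat.card_eq_fintype_card, hNP, ← hI] at h
        omega
      · by_cases hne : (Finset.univ.filter fun n : ↥NP => (n : T) * u * (n : T)⁻¹ = b).Nonempty
        · obtain ⟨n₀, hn₀⟩ := hne
          have hb := (Finset.mem_filter.1 hn₀).2
          refine le_trans (Finset.card_le_card_of_injOn (fun n : ↥NP => (n₀ : T)⁻¹ * (n : T))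
            (t := Finset.univ.filter fun y : T => y ∈ Subgroup.zpowers u) (fun n hn => ?_)
            fun a _ b _ hab => Subtype.ext (mul_left_cancel hab)) ?_
          · have hn' := (Finset.mem_filter.1 hn).2
            refine Finset.mem_filter.2 ⟨Finset.mem_univ _, ?_⟩
            rw [← hCP, Subgroup.mem_centralizer_singleton_iff]
            rw [← hb] at hn'
            calc (n₀ : T)⁻¹ * (n : T) * u = (n₀ : T)⁻¹ * ((n : T) * u * (n : T)⁻¹) * (n : T) := by group
              _ = (n₀ : T)⁻¹ * ((n₀ : T) * u * (n₀ : T)⁻¹) * (n : T) := by rw [hn']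
              _ = u * ((n₀ : T)⁻¹ * (n : T)) := by group
          · rw [← Fintype.card_subtype, ← Nat.card_eq_fintype_card]
            exact le_of_eq (by rw [show Nat.card {y : T // y ∈ Subgroup.zpowers u} =
              Nat.card ↥(Subgroup.zpowers u) from rfl, Nat.card_zpowers, hu])
        · rw [Finset.not_nonempty_iff_eq_empty] at hne
          rw [hne]; simp
    have heq : I = (Finset.Ico 1 11).image (fun i => u ^ i) :=
      Finset.eq_of_subset_of_card_le hsub ((Finset.card_image_le).trans (by simpa using hcard))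
    intro j hj hj0
    have hmem : u ^ j ∈ I := heq ▸ Finset.mem_image.2
      ⟨j, Finset.mem_Ico.2 ⟨Nat.pos_of_ne_zero hj0, hj⟩, rfl⟩
    obtain ⟨n, -, hn⟩ := Finset.mem_image.1 hmem
    exact IsConj.symm (isConj_iff.2 ⟨(n : T), hn⟩)
  -- the involution inverting `u`
  obtain ⟨⟨t, htN⟩, ht⟩ := exists_prime_orderOf_dvd_card' (G := ↥NP) 2 (by rw [hNP]; norm_num)
  rw [Subgroup.orderOf_mk] at ht
  have ht2 : t * t = 1 := by rw [← pow_two, ← ht]; exact pow_orderOf_eq_one t
  have htu : t * u * t = u⁻¹ := by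
    have hti : t⁻¹ = t := inv_eq_of_mul_eq_one_left ht2
    have hmem : t * u * t⁻¹ ∈ Subgroup.zpowers u := by
      rw [hgen]; exact (Subgroup.mem_normalizer_iff.1 htN u).1 huP
    obtain ⟨s, hs⟩ := mem_powers_iff_mem_zpowers.2 hmem
    change u ^ s = t * u * t⁻¹ at hs
    rw [hti] at hs
    have h2 : u ^ (s * s) = u := by
      have h1 := conj_pow (a := t) (b := u) (i := s)
      rw [hti, ← hs, ← pow_mul] at h1
      rw [h1, hs, ← mul_assoc, ← mul_assoc, ht2, one_mul, mul_assoc, ht2, mul_one]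
    have h3 : s * s % 11 = 1 := by
      have h4 : u ^ (s * s) = u ^ 1 := by rw [pow_one]; exact h2
      rw [pow_eq_pow_iff_modEq, hu] at h4
      simpa [Nat.ModEq] using h4
    have hcases : s % 11 = 1 ∨ s % 11 = 10 := by
      have key : ∀ r < 11, r * r % 11 = 1 → r = 1 ∨ r = 10 := by decide
      exact key _ (Nat.mod_lt _ (by norm_num)) (by rw [← Nat.mul_mod]; exact h3)
    rw [← hs, ← pow_mod_orderOf, hu]
    rcases hcases with h | h <;> rw [h]
    · exfalso
      rw [← pow_mod_orderOf, hu, h, pow_one] at hs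
      have htC : t ∈ Subgroup.centralizer ({u} : Set T) := by
        rw [Subgroup.mem_centralizer_singleton_iff]
        calc t * u = t * (t * u * t) := by rw [← hs]
          _ = u * t := by rw [← mul_assoc, ← mul_assoc, ht2, one_mul]
      rw [hCP] at htC
      have hdvd := orderOf_dvd_of_mem_zpowers htC
      rw [ht, hu] at hdvd
      norm_num at hdvd
    · exact eq_inv_of_mul_eq_one_left (by rw [← pow_succ, hu11])
  -- values at `u`
  have hval : ∀ χ : IrrCharacter T, ∃ v : ℤ, (v : ℂ) = (χ : T → ℂ) u ∧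
      (11 : ℤ) ∣ v - charDegree (χ : T → ℂ) := fun χ => exists_int_of_rational χ hu hrat
  choose v hv hvd using hval
  set S := insert (principal T) Z with hS
  have hp1 : v (principal T) = 1 := by
    have h := hv (principal T)
    rw [principal_apply] at h
    exact_mod_cast h
  have hne0 : ∀ χ ∈ S, v χ ≠ 0 := by
    intro χ hχ h0
    rcases Finset.mem_insert.1 hχ with rfl | h
    · omega
    · obtain ⟨-, hs, hm⟩ := hZ χ h
      have h1 := hvd χ
      rw [h0] at h1
      have h2 := hm.dvd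
      rcases hs with h' | h' <;> rw [h'] at h2 <;> omega
  have horth : ∑ χ : IrrCharacter T, v χ ^ 2 = 11 := by
    have h := second_orthogonality (G := T) u u
    rw [if_pos (IsConj.refl u), hCP, Nat.card_zpowers, hu] at h
    have h' : ((∑ χ : IrrCharacter T, v χ ^ 2 : ℤ) : ℂ) = ((11 : ℤ) : ℂ) := by
      push_cast at h ⊢
      rw [← h]
      exact Finset.sum_congr rfl fun χ _ => by rw [← hv χ, pow_two, map_intCast]
    exact_mod_cast h'
  have hSc : S.card = 11 := by rw [hS, Finset.card_insert_of_notMem hpZ, hZc]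
  have hge : ∀ χ ∈ S, 1 ≤ v χ ^ 2 := fun χ hχ =>
    lt_of_le_of_ne (sq_nonneg _) (Ne.symm (pow_ne_zero 2 (hne0 χ hχ)))
  have hge11 : (11 : ℤ) ≤ ∑ χ ∈ S, v χ ^ 2 := by
    calc (11 : ℤ) = ∑ χ ∈ S, (1 : ℤ) := by rw [Finset.sum_const, hSc]; norm_num
      _ ≤ _ := Finset.sum_le_sum hge
  have hsplit := Finset.sum_sdiff (s₁ := S) (s₂ := Finset.univ) (Finset.subset_univ _)
    (f := fun χ : IrrCharacter T => v χ ^ 2)
  rw [horth] at hsplit
  have hrest0 : ∀ χ ∈ Finset.univ \ S, 0 ≤ v χ ^ 2 := fun χ _ => sq_nonneg _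
  have hrest := Finset.sum_nonneg hrest0
  have hzero : ∀ χ : IrrCharacter T, χ ∉ S → v χ = 0 := fun χ hχ => by
    have h := (Finset.sum_eq_zero_iff_of_nonneg hrest0).1 (by omega) χ (by simp [hχ])
    simpa using h
  have hone : ∀ χ ∈ S, v χ ^ 2 = 1 := fun χ hχ => by
    have hall : ∑ χ ∈ S, (v χ ^ 2 - 1) = 0 := by
      rw [Finset.sum_sub_distrib, Finset.sum_const, hSc]
      simp only [nsmul_eq_mul, Nat.cast_ofNat, mul_one]
      omega
    have := (Finset.sum_eq_zero_iff_of_nonneg fun χ hχ => sub_nonneg.2 (hge χ hχ)).1 hall χ hχ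
    omega
  have hvτ : ∀ χ ∈ Z, v χ = τ χ := fun χ hχ => by
    obtain ⟨-, hs, hm⟩ := hZ χ hχ
    have h1 := hvd χ
    have h2 := hm.dvd
    have h3 := sq_eq_one_iff.1 (hone χ (Finset.mem_insert_of_mem hχ))
    rcases hs with h' | h' <;> rw [h'] at h2 <;> omega
  -- values at the involution
  have hx' : ∀ χ : IrrCharacter T, ∃ x : ℤ, (x : ℂ) = (χ : T → ℂ) t :=
    fun χ => exists_int_apply_involution ht2 χ
  choose x hx using hx'
  let s : IrrCharacter T → ℤ := fun χ => τ χ * (charDegree (χ : T → ℂ) : ℤ)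
  have hcands : signedCands 15840 11 = [12, 45, -10, -32, -120] := by decide +kernel
  have hcase : ∀ χ ∈ Z, (s χ = 12 ∧ x χ = 0) ∨ (s χ = -32 ∧ x χ = 0) ∨
      (s χ = 45 ∧ x χ ∈ ([-3, 1, 5] : List ℤ)) ∨
        (s χ = -120 ∧ x χ ∈ ([0, 4, -4, 8, -8] : List ℤ)) := by
    intro χ hχ
    obtain ⟨-, hs, hm⟩ := hZ χ hχ
    have hne : χ ≠ principal T := fun h => hpZ (h ▸ hχ)
    have habs : (s χ).natAbs = charDegree (χ : T → ℂ) := by
      rcases hs with h | h <;> simp [s, h]
    have hmem : s χ ∈ signedCands 15840 11 :=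
      mem_signedCands hm (habs ▸ hN ▸ CfsgLib.Small.charDegree_dvd_card χ)
        (habs ▸ one_lt_charDegree hna hne) (habs ▸ (by rw [pow_two, ← hN]; exact sq_deg_lt χ hne))
    rw [hcands] at hmem
    have hb := bound_of_inverting χ hu ht2 htu (v := τ χ) (x := x χ) (fun i hi => ?_) (hx χ)
    · have h4 := four_dvd_degree_sub (commutator_eq_top hna) χ ht2 (hx χ)
      simp only [List.mem_cons, List.not_mem_nil, or_false] at hmem ⊢
      have hb1 := le_abs_self (x χ)
      have hb2 := neg_le_abs (x χ)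
      rcases hs with h | h <;> simp only [s, h] at hmem ⊢ <;> rw [h] at hb <;>
        rcases hmem with e | e | e | e | e <;> omega
    · rw [← hvτ χ hχ, hv]
      refine Blocks.classFun_of_isConj (isClassFunction_irr χ) ?_
      rw [← pow_mod_orderOf, hu]
      exact hrat _ (Nat.mod_lt _ (by norm_num)) hi
  -- the counts
  set A := Z.filter (fun χ => s χ = 12)
  set B := Z.filter (fun χ => s χ = -32)
  set G := Z.filter (fun χ => s χ = 45) with hGdef
  set H := Z.filter (fun χ => s χ = -120) with hHdef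
  have hsumZ : ∀ f : IrrCharacter T → ℤ, ∑ χ ∈ Z, f χ =
      ∑ χ ∈ A, f χ + ∑ χ ∈ B, f χ + ∑ χ ∈ G, f χ + ∑ χ ∈ H, f χ := by
    intro f
    simp only [A, B, G, H, Finset.sum_filter, ← Finset.sum_add_distrib]
    refine Finset.sum_congr rfl fun χ hχ => ?_
    rcases hcase χ hχ with ⟨h, -⟩ | ⟨h, -⟩ | ⟨h, -⟩ | ⟨h, -⟩ <;> simp [h]
  have hdeg : 1 + ∑ χ ∈ Z, s χ = 0 := by
    have h := hrel 1 (by rw [orderOf_one]; norm_num)
    simp only [deg_eq] at h
    have h' : ((1 + ∑ χ ∈ Z, s χ : ℤ) : ℂ) = 0 := by push_cast [s]; exact h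
    exact_mod_cast h'
  have hconst : ∀ (c : ℤ) (F : Finset (IrrCharacter T)), (∀ χ ∈ F, s χ = c) →
      ∑ χ ∈ F, s χ = F.card * c := fun c F h => by
    rw [Finset.sum_congr rfl h, Finset.sum_const, nsmul_eq_mul]
  have hnum := hsumZ (fun _ => 1)
  simp only [Finset.sum_const, nsmul_eq_mul, mul_one, hZc] at hnum
  rw [hsumZ, hconst 12 A (fun χ h => (Finset.mem_filter.1 h).2),
    hconst (-32) B (fun χ h => (Finset.mem_filter.1 h).2),
    hconst 45 G (fun χ h => (Finset.mem_filter.1 h).2),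
    hconst (-120) H (fun χ h => (Finset.mem_filter.1 h).2)] at hdeg
  have hG3 : G.card = 3 ∧ H.card ≤ 1 := by omega
  -- the relation and the class identity at the involution
  have hlin : 1 + ∑ χ ∈ G, x χ - ∑ χ ∈ H, x χ = 0 := by
    have h := hrel t (by rw [ht]; norm_num)
    have h' : ((1 + ∑ χ ∈ Z, τ χ * x χ : ℤ) : ℂ) = 0 := by
      push_cast
      rw [← h]
      congr 1
      exact Finset.sum_congr rfl fun χ _ => by rw [hx]
    have h2 : 1 + ∑ χ ∈ Z, τ χ * x χ = 0 := by exact_mod_cast h'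
    rw [hsumZ] at h2
    have hA0 : ∑ χ ∈ A, τ χ * x χ = 0 := Finset.sum_eq_zero fun χ hχ => by
      obtain ⟨hz, he⟩ := Finset.mem_filter.1 hχ
      rcases hcase χ hz with ⟨-, h0⟩ | ⟨-, h0⟩ | ⟨h1, -⟩ | ⟨h1, -⟩ <;> first | (rw [h0, mul_zero]) | omega
    have hB0 : ∑ χ ∈ B, τ χ * x χ = 0 := Finset.sum_eq_zero fun χ hχ => by
      obtain ⟨hz, he⟩ := Finset.mem_filter.1 hχ
      rcases hcase χ hz with ⟨-, h0⟩ | ⟨-, h0⟩ | ⟨h1, -⟩ | ⟨h1, -⟩ <;> first | (rw [h0, mul_zero]) | omega
    have hτG : ∑ χ ∈ G, τ χ * x χ = ∑ χ ∈ G, x χ := Finset.sum_congr rfl fun χ hχ => by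
      obtain ⟨hz, he⟩ := Finset.mem_filter.1 hχ
      rcases (hZ χ hz).2.1 with h' | h'
      · rw [h', one_mul]
      · simp only [s, h'] at he; omega
    have hτH : ∑ χ ∈ H, τ χ * x χ = -∑ χ ∈ H, x χ := by
      rw [← Finset.sum_neg_distrib]
      refine Finset.sum_congr rfl fun χ hχ => ?_
      obtain ⟨hz, he⟩ := Finset.mem_filter.1 hχ
      rcases (hZ χ hz).2.1 with h' | h'
      · simp only [s, h'] at he; omega
      · rw [h', neg_one_mul]
    rw [hA0, hB0, hτG, hτH] at h2
    omega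
  set q : IrrCharacter T → ℤ := fun χ =>
    if s χ = 45 then 32 * (x χ * x χ) else if s χ = -120 then -(12 * (x χ * x χ)) else 0 with hq
  set c := Nat.card (Subgroup.centralizer ({t} : Set T)) with hc
  have hid := class_identity hu hCP ht2 htu
  rw [← Finset.sum_subset (Finset.subset_univ S) (fun ψ _ hψ => by
      rw [← hv ψ, hzero ψ hψ, Int.cast_zero, map_zero, mul_zero]),
    hS, Finset.sum_insert hpZ, principal_apply, principal_apply, principal_apply, map_one, hN,
    ← hc] at hid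
  have hqeq : ∀ ψ ∈ Z, (1440 : ℂ) * ((ψ : T → ℂ) t ^ 2 / (ψ : T → ℂ) 1 * conj ((ψ : T → ℂ) u)) =
      (q ψ : ℂ) := by
    intro ψ hψ
    rw [← hv ψ, hvτ ψ hψ, map_intCast, ← hx ψ, deg_eq]
    have hd0 : ((charDegree (ψ : T → ℂ) : ℕ) : ℂ) ≠ 0 :=
      Nat.cast_ne_zero.2 (deg_pos ψ).ne'
    rcases hcase ψ hψ with ⟨h, h0⟩ | ⟨h, h0⟩ | ⟨h, -⟩ | ⟨h, -⟩ <;>
      simp only [q, h] <;> norm_num
    · simp [h0]
    · simp [h0]
    all_goals
      rcases (hZ ψ hψ).2.1 with h' | h' <;> simp only [s, h'] at h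
      all_goals first
        | omega
        | (have hd : charDegree (ψ : T → ℂ) = 45 := by omega
           rw [hd, h']; push_cast; ring)
        | (have hd : charDegree (ψ : T → ℂ) = 120 := by omega
           rw [hd, h']; push_cast; ring)
  have hsq : ((c : ℤ) * c : ℤ) = 1440 + ∑ χ ∈ Z, q χ := by
    have h : (((c : ℤ) * c : ℤ) : ℂ) = ((1440 + ∑ χ ∈ Z, q χ : ℤ) : ℂ) := by
      push_cast
      rw [← Finset.sum_congr rfl hqeq, ← Finset.mul_sum]
      push_cast at hid
      linear_combination hid / 11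
    exact_mod_cast h
  have hq2 : ∑ χ ∈ Z, q χ = 32 * ∑ χ ∈ G, x χ * x χ - 12 * ∑ χ ∈ H, x χ * x χ := by
    simp only [G, H, Finset.sum_filter, Finset.mul_sum, ← Finset.sum_sub_distrib]
    refine Finset.sum_congr rfl fun χ _ => ?_
    simp only [q]
    split_ifs <;> omega
  obtain ⟨a, b, d, hab, had, hbd, hG⟩ := Finset.card_eq_three.1 hG3.1
  have hmem : ∀ χ ∈ G, x χ ∈ ([-3, 1, 5] : List ℤ) := fun χ hχ => by
    obtain ⟨hz, he⟩ := Finset.mem_filter.1 hχ
    rcases hcase χ hz with ⟨h, -⟩ | ⟨h, -⟩ | ⟨-, h'⟩ | ⟨h, -⟩ <;> first | exact h' | omega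
  have hsums : ∀ f : IrrCharacter T → ℤ, ∑ χ ∈ G, f χ = f a + (f b + f d) := fun f => by
    rw [hG, Finset.sum_insert (by simp [hab, had]), Finset.sum_pair hbd]
  obtain ⟨z, hz, hz1, hz2⟩ : ∃ z ∈ ([0, 4, -4, 8, -8] : List ℤ),
      ∑ χ ∈ H, x χ = z ∧ ∑ χ ∈ H, x χ * x χ = z * z := by
    rcases Nat.le_one_iff_eq_zero_or_eq_one.1 hG3.2 with h | h
    · exact ⟨0, by simp, by simp [Finset.card_eq_zero.1 h], by simp [Finset.card_eq_zero.1 h]⟩
    · obtain ⟨w, hw⟩ := Finset.card_eq_one.1 h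
      refine ⟨x w, ?_, by rw [hw, Finset.sum_singleton], by rw [hw, Finset.sum_singleton]⟩
      obtain ⟨hz', he⟩ := Finset.mem_filter.1 (show w ∈ H by rw [hw]; exact Finset.mem_singleton_self w)
      rcases hcase w hz' with ⟨h', -⟩ | ⟨h', -⟩ | ⟨h', -⟩ | ⟨-, h''⟩ <;> first | exact h'' | omega
  rw [hsums, hz1] at hlin
  rw [hq2, hsums, hz2] at hsq
  refine no_square _ (hmem a (by rw [hG]; simp)) _ (hmem b (by rw [hG]; simp)) _
    (hmem d (by rw [hG]; simp)) z hz (by omega) ?_
  have h : 1440 + 32 * (x a * x a + x b * x b + x d * x d) - 12 * (z * z) = ((c * c : ℕ) : ℤ) := by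
    push_cast; rw [hsq]; ring
  rw [h, Int.toNat_natCast, Nat.sqrt_eq]

end CfsgLib.M12Order
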