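import Cfsg.Agent.Lib.M12Order.ElevenBlock
import Cfsg.Agent.Lib.M12Order.CentralThree
import Cfsg.Agent.Lib.M12Order.TenCase

/-!
# No simple groups of five orders dividing 95040
-/

set_option autoImplicit false
set_option linter.unusedSectionVars false
set_option linter.style.haveILetI false

open Cfsg CfsgLib.Chars CfsgLib.CharApps CfsgLib.Blocks CfsgLib.Small

namespace CfsgLib.M12Order

universe u

variable {T : Type u} [Group T] [Finite T] [IsSimpleGroup T]

/-- The five orders. -/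
def fiveOrders : List ℕ := [11880, 15840, 23760, 31680, 47520]

theorem not_sq_dvd_five {N : ℕ} (hN : N ∈ fiveOrders) : ¬ 11 ^ 2 ∣ N := by
  have key : ∀ N ∈ fiveOrders, ¬ 11 ^ 2 ∣ N := by decide +kernel
  exact key N hN

/-- An element outside `P` centralizing it, of the given prime order. -/
theorem exists_centralizing [Fact (Nat.Prime 11)] (P : Sylow 11 T) {k r : ℕ} [Fact r.Prime]
    (hC : Nat.card (Subgroup.centralizer ((P : Subgroup T) : Set T)) = 11 * k) (hr : r ∣ k) :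
    ∃ c ∈ Subgroup.centralizer ((P : Subgroup T) : Set T), orderOf c = r := by
  obtain ⟨⟨c, hc⟩, ho⟩ :=
    exists_prime_orderOf_dvd_card' (G := ↥(Subgroup.centralizer ((P : Subgroup T) : Set T))) r
      (hC ▸ hr.mul_left 11)
  exact ⟨c, hc, by rwa [Subgroup.orderOf_mk] at ho⟩

/-- Index two with a bigger centralizer. -/
theorem false_of_two (hna : ¬ IsMulCommutative T) [Fact (Nat.Prime 11)] {N : ℕ}
    (hN : Nat.card T = N) (hmem : N ∈ fiveOrders) (P : Sylow 11 T)
    (hP : Nat.card (P : Subgroup T) = 11)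
    (he : (Subgroup.centralizer ((P : Subgroup T) : Set T)).relIndex
      (Subgroup.normalizer ((P : Subgroup T) : Set T)) = 2) {k r : ℕ} [Fact r.Prime]
    (hC : Nat.card (Subgroup.centralizer ((P : Subgroup T) : Set T)) = 11 * k) (hr : r ∣ k)
    (hr11 : r ≠ 11) : False := by
  obtain ⟨M, hM⟩ := CharApps.exists_pModular (p := 11)
  obtain ⟨c, hcC, hc⟩ := exists_centralizing P hC hr
  have hc1 : c ≠ 1 := fun h => by
    rw [h, orderOf_one] at hc; exact (Fact.out : r.Prime).one_lt.ne hc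
  have hreg : ¬ 11 ∣ orderOf c := fun h => by
    rw [hc] at h
    exact hr11 ((Nat.prime_dvd_prime_iff_eq (by norm_num) (Fact.out : r.Prime)).1 h).symm
  obtain ⟨L, hlen, hL, h1, h2, h3, -⟩ := exists_relation hM P hP he hna hN (Or.inl rfl)
    (fun d => d ≠ 10) fun χ hχ _ _ => ne_ten hna hM P hP he (Or.inl rfl) hcC hc1 hreg hχ
  obtain ⟨s, rfl⟩ : ∃ s, L = [s] := List.length_eq_one_iff.1 hlen
  have key : ∀ N ∈ fiveOrders, ∀ s ∈ signedCands N 11, 1 < (1 + s).natAbs →
      (1 + s).natAbs ∣ N → (1 + s).natAbs * (1 + s).natAbs < N → s = -10 := by decide +kernel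
  simp only [List.sum_cons, List.sum_nil, add_zero] at h1 h2 h3
  obtain ⟨hs, hs10⟩ := hL s (by simp)
  rw [key N hmem s hs h1 h2 h3] at hs10
  exact hs10 rfl

/-- The self-centralizing case of index two. -/
theorem false_of_two_self (hna : ¬ IsMulCommutative T) [Fact (Nat.Prime 11)]
    (hN : Nat.card T = 11880) (P : Sylow 11 T) (hP : Nat.card (P : Subgroup T) = 11)
    (hC : Nat.card (Subgroup.centralizer ((P : Subgroup T) : Set T)) = 11)
    (hNP : Nat.card (Subgroup.normalizer ((P : Subgroup T) : Set T)) = 22) : False := by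
  haveI := Fintype.ofFinite T
  haveI : Fact (Nat.Prime 2) := ⟨Nat.prime_two⟩
  obtain ⟨⟨u, huP⟩, hu⟩ := exists_prime_orderOf_dvd_card' (G := ↥(P : Subgroup T)) 11 (by rw [hP])
  rw [Subgroup.orderOf_mk] at hu
  have hgen : Subgroup.zpowers u = (P : Subgroup T) :=
    Subgroup.eq_of_le_of_card_ge (Subgroup.zpowers_le.2 huP) (by rw [hP, Nat.card_zpowers, hu])
  have hCu : Subgroup.centralizer ((Subgroup.zpowers u : Subgroup T) : Set T) =
      Subgroup.zpowers u := by
    rw [hgen]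
    refine (Subgroup.eq_of_le_of_card_ge (fun x hx => ?_) (by rw [hC, hP])).symm
    rw [Subgroup.mem_centralizer_iff]
    intro y hy
    rw [← hgen] at hx hy
    obtain ⟨i, rfl⟩ := hx
    obtain ⟨j, rfl⟩ := hy
    exact ((Commute.refl u).zpow_zpow j i).eq
  obtain ⟨d, f, a, ε, ha, hε, hmod, heq, hd1, hf1, hd, hf, hd11, hf11, hall⟩ :=
    dihedral_data hna u hu (hN ▸ by norm_num) hCu (by rw [hgen, hNP]) (by norm_num)
  have h1080 : ∀ {m : ℕ}, m ∣ Nat.card T → ¬ 11 ∣ m → m ∣ 1080 := fun {m} h h' =>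
    (((Nat.Prime.coprime_iff_not_dvd (by norm_num)).2 h').symm).dvd_of_dvd_mul_left
      (show m ∣ 11 * 1080 by rw [hN] at h; simpa using h)
  have key : ∀ d ∈ Nat.divisors 1080, ∀ f ∈ Nat.divisors 1080, 1 < d → 1 < f →
      (d % 11 = 1 ∧ f = d + 1 ∨ d % 11 = 10 ∧ f + 1 = d) → d = 10 ∧ f = 9 := by decide +kernel
  obtain ⟨rfl, rfl⟩ := key d (Nat.mem_divisors.2 ⟨h1080 hd hd11, by norm_num⟩) f
    (Nat.mem_divisors.2 ⟨h1080 hf hf11, by norm_num⟩) hd1 hf1 (by
      have h := hmod.dvd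
      rcases ha with rfl | rfl <;> rcases hε with rfl | rfl <;> omega)
  obtain ⟨t, ht⟩ := exists_prime_orderOf_dvd_card' (G := T) 2 (by rw [hN]; norm_num)
  obtain ⟨z, hz0, -, hz⟩ := hall t ht
  rw [hN] at hz
  set c := Nat.card (Subgroup.centralizer ({t} : Set T))
  have h12 : c ^ 2 = 12 * z ^ 2 := by omega
  have hc0 : c ≠ 0 := Nat.card_pos.ne'
  have h := congrArg (fun m : ℕ => m.factorization 3) h12
  simp only [Nat.factorization_mul (show (12 : ℕ) ≠ 0 by norm_num)
    (pow_ne_zero 2 hz0.ne'), Nat.factorization_pow, Finsupp.add_apply, Finsupp.smul_apply,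
    smul_eq_mul] at h
  have h3 : Nat.factorization 12 3 = 1 := by
    rw [show (12 : ℕ) = 4 * 3 by norm_num, Nat.factorization_mul (by norm_num) (by norm_num),
      Finsupp.add_apply, Nat.factorization_eq_zero_of_not_dvd (by norm_num),
      Nat.Prime.factorization_self Nat.prime_three]
  omega

/-- The admissible degrees in the presence of an involution centralizing `P`. -/
def largeOK (a d : ℕ) : Bool := decide (22 ≤ d) && !decide (2 ^ a ∣ d)

theorem largeOK_of_even (hna : ¬ IsMulCommutative T) [Fact (Nat.Prime 11)] {M : Ideal AlgInt}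
    (hM : IsPModular 11 M) (hsq : ¬ 11 ^ 2 ∣ Nat.card T) {a : ℕ}
    (ha : ¬ 2 ^ (a + 1) ∣ Nat.card T) (P : Sylow 11 T) (hP : Nat.card (P : Subgroup T) = 11) {k : ℕ}
    (hC : Nat.card (Subgroup.centralizer ((P : Subgroup T) : Set T)) = 11 * k) (hk : 2 ∣ k)
    {χ : IrrCharacter T} (hχ : χ ∈ principalBlock M T) (hne : χ ≠ principal T)
    (h11 : ¬ 11 ∣ charDegree (χ : T → ℂ)) : largeOK a (charDegree (χ : T → ℂ)) = true := by
  haveI : Fact (Nat.Prime 2) := ⟨Nat.prime_two⟩
  obtain ⟨c, hcC, hc⟩ := exists_centralizing P hC hk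
  have hle : (P : Subgroup T) ≤ Subgroup.centralizer ({c} : Set T) := fun x hx => by
    rw [Subgroup.mem_centralizer_singleton_iff]
    exact Subgroup.mem_centralizer_iff.1 hcC x hx
  obtain ⟨h1, h2⟩ := large_of_involution hna hM hsq ha hc (hP ▸ Subgroup.card_dvd_of_le hle) hχ hne h11
  simp [largeOK, h1, h2]

/-- Index five with an even centralizer. -/
theorem false_of_five_even (hna : ¬ IsMulCommutative T) [Fact (Nat.Prime 11)] {N a k : ℕ}
    (hN : Nat.card T = N) (hsq : ¬ 11 ^ 2 ∣ N) (ha : ¬ 2 ^ (a + 1) ∣ N) (P : Sylow 11 T)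
    (hP : Nat.card (P : Subgroup T) = 11)
    (he : (Subgroup.centralizer ((P : Subgroup T) : Set T)).relIndex
      (Subgroup.normalizer ((P : Subgroup T) : Set T)) = 5)
    (hC : Nat.card (Subgroup.centralizer ((P : Subgroup T) : Set T)) = 11 * k) (hk : 2 ∣ k)
    (key : ∀ s₁ ∈ (signedCands N 11).filter (fun s => largeOK a s.natAbs),
      ∀ s₂ ∈ (signedCands N 11).filter (fun s => largeOK a s.natAbs),
      ∀ s₃ ∈ (signedCands N 11).filter (fun s => largeOK a s.natAbs),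
      ∀ s₄ ∈ (signedCands N 11).filter (fun s => largeOK a s.natAbs),
      ¬ (1 < (1 + (s₁ + (s₂ + (s₃ + s₄)))).natAbs ∧
        (1 + (s₁ + (s₂ + (s₃ + s₄)))).natAbs ∣ N ∧
        (1 + (s₁ + (s₂ + (s₃ + s₄)))).natAbs * (1 + (s₁ + (s₂ + (s₃ + s₄)))).natAbs < N ∧
        largeOK a (1 + (s₁ + (s₂ + (s₃ + s₄)))).natAbs = true)) : False := by
  obtain ⟨M, hM⟩ := CharApps.exists_pModular (p := 11)
  obtain ⟨L, hlen, hL, h1, h2, h3, h4⟩ := exists_relation hM P hP he hna hN (Or.inr rfl)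
    (fun d => largeOK a d = true) fun χ hχ hne h11 =>
      largeOK_of_even hna hM (hN ▸ hsq) (hN ▸ ha) P hP hC hk hχ hne h11
  match L, hlen with
  | [s₁, s₂, s₃, s₄], _ =>
    simp only [List.sum_cons, List.sum_nil, add_zero] at h1 h2 h3 h4
    have hm : ∀ s ∈ [s₁, s₂, s₃, s₄],
        s ∈ (signedCands N 11).filter (fun s => largeOK a s.natAbs) := fun s hs =>
      List.mem_filter.2 ⟨(hL s hs).1, (hL s hs).2⟩
    exact key _ (hm _ (by simp)) _ (hm _ (by simp)) _ (hm _ (by simp)) _ (hm _ (by simp))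
      ⟨h1, h2, h3, h4⟩

/-- Index ten with a centralizer of order 22. -/
theorem false_of_ten_even (hna : ¬ IsMulCommutative T) [Fact (Nat.Prime 11)]
    (hN : Nat.card T = 31680) (P : Sylow 11 T) (hP : Nat.card (P : Subgroup T) = 11)
    (he : (Subgroup.centralizer ((P : Subgroup T) : Set T)).relIndex
      (Subgroup.normalizer ((P : Subgroup T) : Set T)) = 10)
    (hC : Nat.card (Subgroup.centralizer ((P : Subgroup T) : Set T)) = 11 * 2) : False := by
  classical
  haveI := Fintype.ofFinite T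
  obtain ⟨M, hM⟩ := CharApps.exists_pModular (p := 11)
  obtain ⟨Z, τ, hpZ, hZc, hZ, hrel⟩ := exists_ten hM P hP he hna rfl
  let s : IrrCharacter T → ℤ := fun χ => τ χ * (charDegree (χ : T → ℂ) : ℤ)
  have hcase : ∀ χ ∈ Z, s χ = 45 ∨ s χ = 144 ∨ s χ = -32 ∨ s χ = -120 := by
    intro χ hχ
    obtain ⟨hB, hs, hm⟩ := hZ χ hχ
    have hne : χ ≠ principal T := fun h => hpZ (h ▸ hχ)
    have habs : (s χ).natAbs = charDegree (χ : T → ℂ) := by
      rcases hs with h | h <;> simp [s, h]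
    have h11 : ¬ 11 ∣ charDegree (χ : T → ℂ) := fun h => by
      have h1 := hm.dvd
      rcases hs with h' | h' <;> rw [h'] at h1 <;> omega
    have hok := largeOK_of_even hna hM (a := 6) (hN ▸ by norm_num) (hN ▸ by norm_num) P hP hC
      dvd_rfl hB hne h11
    have hmem : s χ ∈ (signedCands 31680 11).filter (fun s => largeOK 6 s.natAbs) :=
      List.mem_filter.2 ⟨mem_signedCands hm (habs ▸ hN ▸ CfsgLib.Small.charDegree_dvd_card χ)
        (habs ▸ one_lt_charDegree hna hne) (habs ▸ (by rw [pow_two, ← hN]; exact sq_deg_lt χ hne)),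
        by rw [habs]; exact hok⟩
    have key : ∀ s ∈ (signedCands 31680 11).filter (fun s => largeOK 6 s.natAbs),
        s = 45 ∨ s = 144 ∨ s = -32 ∨ s = -120 := by decide +kernel
    exact key _ hmem
  have hdeg : 1 + ∑ χ ∈ Z, s χ = 0 := by
    have h := hrel 1 (by rw [orderOf_one]; norm_num)
    simp only [deg_eq] at h
    have h' : ((1 + ∑ χ ∈ Z, s χ : ℤ) : ℂ) = 0 := by push_cast [s]; exact h
    exact_mod_cast h'
  set w : ℤ → ℤ := fun c => ((Z.filter fun χ => s χ = c).card : ℤ) with hw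
  have hsum : ∀ f : ℤ → ℤ, ∑ χ ∈ Z, f (s χ) =
      f 45 * w 45 + f 144 * w 144 + f (-32) * w (-32) + f (-120) * w (-120) := by
    intro f
    simp only [w, Finset.card_filter, Nat.cast_sum, Finset.mul_sum, ← Finset.sum_add_distrib]
    refine Finset.sum_congr rfl fun χ hχ => ?_
    rcases hcase χ hχ with h | h | h | h <;> simp [h]
  have hnum := hsum (fun _ => 1)
  simp only [Finset.sum_const, hZc, nsmul_eq_mul, mul_one, one_mul] at hnum
  rw [show ∑ χ ∈ Z, s χ = 45 * w 45 + 144 * w 144 + (-32) * w (-32) + (-120) * w (-120) from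
    hsum (fun c => c)] at hdeg
  have hsq : ∑ χ ∈ Z, s χ * s χ ≤ 31680 := by
    haveI := irrFintype T
    have h := Finset.sum_le_sum_of_subset (f := fun χ : IrrCharacter T =>
      charDegree (χ : T → ℂ) ^ 2) (Finset.subset_univ Z)
    rw [sum_degree_sq_nat, hN] at h
    calc ∑ χ ∈ Z, s χ * s χ = ((∑ χ ∈ Z, charDegree (χ : T → ℂ) ^ 2 : ℕ) : ℤ) := by
          push_cast
          refine Finset.sum_congr rfl fun χ hχ => ?_
          rcases (hZ χ hχ).2.1 with h' | h' <;> simp [s, h', sq]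
      _ ≤ 31680 := by exact_mod_cast h
  rw [show ∑ χ ∈ Z, s χ * s χ = 45 * 45 * w 45 + 144 * 144 * w 144 + (-32) * (-32) * w (-32) +
    (-120) * (-120) * w (-120) from hsum (fun c => c * c)] at hsq
  have hpos : ∀ c, 0 ≤ w c := fun c => Nat.cast_nonneg _
  have := hpos 45
  have := hpos 144
  have := hpos (-32)
  have := hpos (-120)
  push_cast at hnum
  obtain ⟨h144, h120⟩ : (w 144 = 0 ∨ w 144 = 1) ∧
      (w (-120) = 0 ∨ w (-120) = 1 ∨ w (-120) = 2) := ⟨by omega, by omega⟩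
  rcases h144 with e | e <;> rcases h120 with e' | e' | e' <;> omega

/-- There is no simple group of one of the five orders. -/
theorem false_of_five_orders (hna : ¬ IsMulCommutative T)
    (hmem : Nat.card T ∈ fiveOrders) : False := by
  haveI : Fact (Nat.Prime 11) := ⟨by norm_num⟩
  haveI : Fact (Nat.Prime 2) := ⟨Nat.prime_two⟩
  haveI : Fact (Nat.Prime 3) := ⟨Nat.prime_three⟩
  haveI : Fact (Nat.Prime 5) := ⟨Nat.prime_five⟩
  obtain ⟨N, hN⟩ : ∃ N, Nat.card T = N := ⟨_, rfl⟩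
  rw [hN] at hmem
  obtain ⟨hd, hm⟩ : N = 11 * (N / 11) ∧ ¬ 11 ∣ N / 11 := by
    have key : ∀ N ∈ fiveOrders, N = 11 * (N / 11) ∧ ¬ 11 ∣ N / 11 := by decide +kernel
    exact key N hmem
  obtain ⟨P, n, e, k, hP, -, hopt, he, hC, hNP, -⟩ :=
    exists_prime_option hna hN 11 (N / 11) hd hm (by norm_num)
  have key : ∀ N ∈ fiveOrders, ∀ x ∈ primeOptions N 11 (N / 11),
      (x.2.1 = 2 ∧ 2 ∣ x.2.2) ∨ (x.2.1 = 2 ∧ 5 ∣ x.2.2) ∨
        (x.2.1 = 2 ∧ x.2.2 = 1 ∧ N = 11880) ∨
        (x.2.1 = 5 ∧ 2 ∣ x.2.2 ∧ (N = 15840 ∨ N = 31680 ∨ N = 47520)) ∨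
        (x.2.2 = 3 ∧ (x.2.1 = 5 ∨ x.2.1 = 10) ∧ (N = 23760 ∨ N = 47520)) ∨
        (x.2.1 = 10 ∧ x.2.2 = 2 ∧ N = 31680) ∨ (x.2.1 = 10 ∧ x.2.2 = 1 ∧ N = 15840) := by
    decide +kernel
  have h := key N hmem (n, e, k) hopt
  simp only at h
  rcases h with ⟨rfl, hk⟩ | ⟨rfl, hk⟩ | ⟨rfl, rfl, rfl⟩ | ⟨rfl, hk, hNs⟩ | ⟨rfl, hee, hNs⟩ |
    ⟨rfl, rfl, rfl⟩ | ⟨rfl, rfl, rfl⟩
  · exact false_of_two hna hN hmem P hP he hC hk (by norm_num)
  · exact false_of_two hna hN hmem P hP he hC hk (by norm_num)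
  · exact false_of_two_self hna hN P hP (by rw [hC]) (by rw [hNP])
  · rcases hNs with rfl | rfl | rfl
    · exact false_of_five_even hna (a := 5) hN (not_sq_dvd_five hmem) (by norm_num) P hP he hC hk
        (by decide +kernel)
    · exact false_of_five_even hna (a := 6) hN (not_sq_dvd_five hmem) (by norm_num) P hP he hC hk
        (by decide +kernel)
    · exact false_of_five_even hna (a := 5) hN (not_sq_dvd_five hmem) (by norm_num) P hP he hC hk
        (by decide +kernel)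
  · refine false_of_central_three hna (hN ▸ hNs) P hP hC ?_
    rw [hNP]
    rcases hee with rfl | rfl <;> norm_num
  · exact false_of_ten_even hna hN P hP he hC
  · exact false_of_ten hna hN P hP he (by rw [hC]) (by rw [hNP])

end CfsgLib.M12Order
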