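import Cfsg.Agent.Lib.M12Order.Defs
import Cfsg.Agent.Lib.Small.Order7920Tools

/-!
# Simple groups of order 95040: the pieces

One statement per step of `tools/S0421_plan.md`: the Sylow subgroups of order eleven, the block
table at eleven, the values at the involutions, the Sylow subgroups of order five, the degrees,
the elements of order three and the identification.
-/

set_option autoImplicit false

namespace CfsgLib.M12Order

open Cfsg CfsgLib.Chars CfsgLib.CharApps

universe u

variable (G : Type u) [Group G]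

/-- The centralizer of an element. -/
abbrev cen {G : Type u} [Group G] (g : G) : Subgroup G := Subgroup.centralizer ({g} : Set G)

/-- The local structure at eleven. -/
structure LocalEleven : Prop where
  cent : ∀ x : G, orderOf x = 11 → Nat.card (cen x) = 11
  norm : ∀ P : Sylow 11 G, Nat.card (Subgroup.normalizer ((P : Subgroup G) : Set G)) = 55

/-- The local structure at five. -/
structure LocalFive : Prop where
  cent : ∀ y : G, orderOf y = 5 → Nat.card (cen y) = 10
  norm : ∀ P : Sylow 5 G, Nat.card (Subgroup.normalizer ((P : Subgroup G) : Set G)) = 40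

/-- The centralizers of the elements of order three. -/
structure LocalThree : Prop where
  card : ∀ z : G, orderOf z = 3 → Nat.card (cen z) = 36 ∨ Nat.card (cen z) = 54
  conj : ∀ z z' : G, orderOf z = 3 → orderOf z' = 3 →
    Nat.card (cen z) = Nat.card (cen z') → IsConj z z'

/-- The possible degrees in the principal block at eleven when a central involution exists:
four non-exceptional degrees and the exceptional one. -/
def tables : List ((Fin 4 → ℕ) × ℕ) :=
  [(![10, 10, 10, 45], 16), (![10, 10, 12, 12], 5), (![10, 10, 120, 144], 5),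
    (![10, 12, 12, 45], 60), (![10, 12, 45, 120], 72), (![10, 45, 45, 54], 27),
    (![10, 45, 120, 144], 60), (![12, 32, 120, 144], 5), (![32, 45, 45, 54], 5),
    (![32, 45, 54, 120], 160), (![45, 54, 120, 144], 16)]

/-- The true table. -/
def mainTable : (Fin 4 → ℕ) × ℕ := (![45, 54, 120, 144], 16)

/-- A table needing an extra argument at five. -/
def sixTable : (Fin 4 → ℕ) × ℕ := (![10, 12, 12, 45], 60)

variable [Finite G]

/-- The principal block at eleven. -/
structure Table where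
  a : Fin 4 → IrrCharacter G
  θ : Fin 2 → IrrCharacter G
  sgn : Fin 4 → ℤ
  ε : ℤ
  list : (Fin 4 → ℕ) × ℕ
  mem : list ∈ tables
  deg_a : ∀ i, charDegree (a i : G → ℂ) = list.1 i
  deg_θ : ∀ j, charDegree (θ j : G → ℂ) = list.2
  inj : Function.Injective (Fin.append a θ)
  ne_principal : ∀ i, Fin.append a θ i ≠ principal G
  sgn_eq : ∀ i, (sgn i = 1 ∨ sgn i = -1) ∧ sgn i * (list.1 i : ℤ) % 11 = 1
  ε_eq : (ε = 1 ∨ ε = -1) ∧ ε * (list.2 : ℤ) % 11 = 5
  at_eleven : ∀ i, ∀ x : G, orderOf x = 11 → (a i : G → ℂ) x = (sgn i : ℂ)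
  at_eleven_θ : ∀ x : G, orderOf x = 11 → (θ 0 : G → ℂ) x + (θ 1 : G → ℂ) x = -(ε : ℂ)
  rel : ∀ j, ∀ g : G, ¬ 11 ∣ orderOf g →
    (ε : ℂ) * (θ j : G → ℂ) g = 1 + ∑ i, (sgn i : ℂ) * (a i : G → ℂ) g
  cover : ∀ χ : IrrCharacter G, χ = principal G ∨ (∃ i, χ = Fin.append a θ i) ∨
    (11 ∣ charDegree (χ : G → ℂ) ∧ ∀ x : G, orderOf x = 11 → (χ : G → ℂ) x = 0)

/-- The values of the block characters at an element. -/
def Table.HasValues {G : Type u} [Group G] [Finite G] (T : Table G) (g : G) (v : Fin 4 → ℤ)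
    (w : ℤ) : Prop :=
  (∀ i, (T.a i : G → ℂ) g = (v i : ℂ)) ∧ ∀ j, (T.θ j : G → ℂ) g = (w : ℂ)

/-- What the block relations give at an involution. -/
structure InvolValues (T : Table G) (t : G) : Prop where
  five : 5 ∣ Nat.card (cen t) → T.list = mainTable
  main : T.list = mainTable →
    (Nat.card (cen t) = 192 ∧ T.HasValues t ![-3, 6, -8, 0] 0) ∨
      ((Nat.card (cen t) = 120 ∨ Nat.card (cen t) = 240) ∧
        ∃ s : ℤ, (s = 1 ∨ s = -1) ∧ T.HasValues t ![5, 6, 0, 4 * s] (4 * s))
  six : T.list = sixTable → (T.a 1 : G → ℂ) t = 0 → (T.a 2 : G → ℂ) t = 0 →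
    Nat.card (cen t) ∈ [432, 576, 864, 1728]

/-- A candidate for the full list of characters, with the columns at the involutions. -/
structure Spec where
  n : ℕ
  pos : 12 < n
  deg : Fin n → ℕ
  sgn : Fin n → ℤ
  prin : List (Fin n)
  other : List (Fin n)
  colU : Fin n → ℤ
  colT : List (Fin n → ℤ)

/-- The degrees of the Mathieu group, with the candidates for the second involution column. -/
def spec15 : Spec where
  n := 15
  pos := by norm_num
  deg := ![1, 54, 144, 16, 16, 11, 11, 66, 99, 176, 45, 120, 55, 55, 55]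
  sgn := ![1, -1, -1, 1, 1, 1, 1, 1, -1, 1, 0, 0, 0, 0, 0]
  prin := [0, 2, 7, 8, 9]
  other := [1, 3, 4, 5, 6]
  colU := ![1, 6, 4, 4, 4, -1, -1, 6, -1, -4, 5, 0, -5, -5, -5]
  colT := [![1, 6, 0, 0, 0, 3, 3, 2, 3, 0, -3, -8, 7, -1, -1],
    ![1, 6, 0, 0, 0, 3, 3, 2, 3, 0, -3, -8, -1, 7, -1],
    ![1, 6, 0, 0, 0, 3, 3, 2, 3, 0, -3, -8, -1, -1, 7],
    ![1, 6, 0, 0, 0, 7, -1, 2, 3, 0, -3, -8, -1, 3, 3],
    ![1, 6, 0, 0, 0, 7, -1, 2, 3, 0, -3, -8, 3, -1, 3],
    ![1, 6, 0, 0, 0, 7, -1, 2, 3, 0, -3, -8, 3, 3, -1],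
    ![1, 6, 0, 0, 0, -1, 7, 2, 3, 0, -3, -8, -1, 3, 3],
    ![1, 6, 0, 0, 0, -1, 7, 2, 3, 0, -3, -8, 3, -1, 3],
    ![1, 6, 0, 0, 0, -1, 7, 2, 3, 0, -3, -8, 3, 3, -1]]

/-- The other candidate, with thirteen characters; it leads to the same local structure. -/
def spec13 : Spec where
  n := 13
  pos := by norm_num
  deg := ![1, 54, 144, 16, 16, 44, 66, 66, 99, 176, 45, 120, 55]
  sgn := ![1, -1, -1, 1, 1, -1, 1, 1, -1, 1, 0, 0, 0]
  prin := [0, 2, 6, 8, 9]
  other := [1, 3, 4, 5, 7]
  colU := ![1, 6, 4, 4, 4, -4, 6, -6, -1, -4, 5, 0, -5]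
  colT := [![1, 6, 0, 0, 0, -4, 2, 2, 3, 0, -3, -8, 7]]

/-- The characters of the group follow a candidate. -/
structure Chars (S : Spec) where
  c : Fin S.n ≃ IrrCharacter G
  deg : ∀ i, charDegree (c i : G → ℂ) = S.deg i
  principal : c ⟨0, (Nat.zero_lt_succ 11).trans_le S.pos.le⟩ = CfsgLib.Chars.principal G
  rel_eleven : ∀ g : G, ¬ 11 ∣ orderOf g →
    (c ⟨4, by have := S.pos; omega⟩ : G → ℂ) g = (c ⟨3, by have := S.pos; omega⟩ : G → ℂ) g ∧
    (c ⟨3, by have := S.pos; omega⟩ : G → ℂ) g = 1 + (c ⟨10, by have := S.pos; omega⟩ : G → ℂ) g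
      - (c ⟨1, by have := S.pos; omega⟩ : G → ℂ) g - (c ⟨11, by have := S.pos; omega⟩ : G → ℂ) g
      + (c ⟨2, by have := S.pos; omega⟩ : G → ℂ) g
  rel_five : ∀ g : G, ¬ 5 ∣ orderOf g →
    (S.prin.map fun i => (S.sgn i : ℂ) * (c i : G → ℂ) g).sum = 0 ∧
      (S.other.map fun i => (S.sgn i : ℂ) * (c i : G → ℂ) g).sum = 0
  invol_five : ∀ t : G, orderOf t = 2 → 5 ∣ Nat.card (cen t) →
    Nat.card (cen t) = 240 ∧ ∀ i, (c i : G → ℂ) t = (S.colU i : ℂ)
  invol_other : ∀ t : G, orderOf t = 2 → ¬ 5 ∣ Nat.card (cen t) →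
    Nat.card (cen t) = 192 ∧ ∃ v ∈ S.colT, ∀ i, (c i : G → ℂ) t = (v i : ℂ)

/-- The two candidates. -/
def HasChars : Prop := Nonempty (Chars G spec15) ∨ Nonempty (Chars G spec13)

/-- Piece A. -/
def ElevenStmt : Prop :=
  ∀ (G : Type u) [Group G] [Finite G], IsSimpleGroup G → Nat.card G = 95040 → LocalEleven G

/-- Piece B, first half. -/
def TableStmt : Prop :=
  ∀ (G : Type u) [Group G] [Finite G], IsSimpleGroup G → Nat.card G = 95040 → LocalEleven G →
    Nonempty (Table G)

/-- Piece B, second half. -/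
def InvolStmt : Prop :=
  ∀ (G : Type u) [Group G] [Finite G], IsSimpleGroup G → Nat.card G = 95040 → LocalEleven G →
    ∀ (T : Table G) (t : G), orderOf t = 2 → InvolValues G T t

/-- Piece C1: the centralizer of an element of order five has even order. -/
def FiveOddStmt : Prop :=
  ∀ (G : Type u) [Group G] [Finite G], IsSimpleGroup G → Nat.card G = 95040 → LocalEleven G →
    ∀ T : Table G, (∀ t : G, orderOf t = 2 → InvolValues G T t) →
      ∀ y : G, orderOf y = 5 → 2 ∣ Nat.card (cen y)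

/-- Piece C2: the structure at five, from the table and an involution commuting with a five. -/
def FiveEvenStmt : Prop :=
  ∀ (G : Type u) [Group G] [Finite G], IsSimpleGroup G → Nat.card G = 95040 → LocalEleven G →
    ∀ T : Table G, (∀ t : G, orderOf t = 2 → InvolValues G T t) →
      (∀ y : G, orderOf y = 5 → 2 ∣ Nat.card (cen y)) → LocalFive G

/-- Piece D: the degrees and the involution columns. -/
def DegreesStmt : Prop :=
  ∀ (G : Type u) [Group G] [Finite G], IsSimpleGroup G → Nat.card G = 95040 → LocalEleven G →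
    LocalFive G → ∀ T : Table G, T.list = mainTable →
      (∀ t : G, orderOf t = 2 → InvolValues G T t) → HasChars G

/-- Piece E: the classes of elements of order three. -/
def ThreeStmt : Prop :=
  ∀ (G : Type u) [Group G] [Finite G], IsSimpleGroup G → Nat.card G = 95040 → LocalEleven G →
    LocalFive G → HasChars G → LocalThree G

/-- Piece F: the identification. -/
def EndStmt : Prop :=
  ∀ (G : Type u) [Group G] [Finite G], IsSimpleGroup G → Nat.card G = 95040 → LocalEleven G →
    LocalFive G → HasChars G → LocalThree G → Cfsg.Spor.IsoM12 G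

end CfsgLib.M12Order
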