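import Cfsg.Agent.Lib.M12Order.Interface

/-!
# Simple groups of order 95040: assembly of the pieces
-/

set_option autoImplicit false

namespace CfsgLib.M12Order

open Cfsg

universe u

/-- All the intermediate structures. -/
theorem structure_of_pieces (hA : ElevenStmt.{u}) (hT : TableStmt.{u}) (hI : InvolStmt.{u})
    (hO : FiveOddStmt.{u}) (hE : FiveEvenStmt.{u}) (hD : DegreesStmt.{u}) (hZ : ThreeStmt.{u})
    (G : Type u) [Group G] [Finite G] (hs : IsSimpleGroup G) (hG : Nat.card G = 95040) :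
    LocalEleven G ∧ LocalFive G ∧ HasChars G ∧ LocalThree G := by
  have h11 := hA G hs hG
  obtain ⟨T⟩ := hT G hs hG h11
  have hv := hI G hs hG h11 T
  have heven := hO G hs hG h11 T hv
  have h5 := hE G hs hG h11 T hv heven
  have hm : T.list = mainTable := by
    have := Fact.mk (show Nat.Prime 5 by norm_num)
    have := Fact.mk Nat.prime_two
    obtain ⟨y, hy⟩ := exists_prime_orderOf_dvd_card' (G := G) 5 (by rw [hG]; norm_num)
    obtain ⟨⟨t, htC⟩, ht⟩ := exists_prime_orderOf_dvd_card' (G := cen y) 2 (heven y hy)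
    rw [Subgroup.orderOf_mk] at ht
    refine (hv t ht).five ?_
    have hyC : y ∈ cen t :=
      Subgroup.mem_centralizer_singleton_iff.2 (Subgroup.mem_centralizer_singleton_iff.1 htC).symm
    exact hy ▸ Subgroup.orderOf_dvd_natCard _ hyC
  have hc := hD G hs hG h11 h5 T hm hv
  exact ⟨h11, h5, hc, hZ G hs hG h11 h5 hc⟩

theorem unique_of_pieces (hA : ElevenStmt.{u}) (hT : TableStmt.{u}) (hI : InvolStmt.{u})
    (hO : FiveOddStmt.{u}) (hE : FiveEvenStmt.{u}) (hD : DegreesStmt.{u}) (hZ : ThreeStmt.{u})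
    (hF : EndStmt.{u}) : Unique.{u} := by
  intro G _ _ hs hG
  obtain ⟨h1, h2, h3, h4⟩ := structure_of_pieces hA hT hI hO hE hD hZ G hs hG
  exact hF G hs hG h1 h2 h3 h4

/-- The degrees needed for the character degree graph. -/
theorem exists_degrees {G : Type u} [Group G] [Finite G] (h : HasChars G) :
    (∃ χ : IrrCharacter G, charDegree (χ : G → ℂ) = 55) ∧
      ∃ χ : IrrCharacter G, charDegree (χ : G → ℂ) = 66 := by
  rcases h with ⟨⟨C⟩⟩ | ⟨⟨C⟩⟩
  · exact ⟨⟨_, C.deg (12 : Fin 15)⟩, ⟨_, C.deg (7 : Fin 15)⟩⟩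
  · exact ⟨⟨_, C.deg (12 : Fin 13)⟩, ⟨_, C.deg (7 : Fin 13)⟩⟩

end CfsgLib.M12Order
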