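import Cfsg.Agent.Lib.Small.DegreeGraphSimple
import Cfsg.Agent.Lib.Small.Orders3640

/-!
# Simple sections of groups of order dividing 95040
-/

set_option autoImplicit false
set_option linter.unusedSectionVars false
set_option linter.style.haveILetI false

open Subgroup Cfsg

namespace CfsgLib.M12Order

open CfsgLib.Small CfsgLib.Small.DegGraph

universe u

/-- The possible orders of a simple section divisible by eleven. -/
def sectionOrders : List ℕ :=
  [660, 6336, 7920, 9504, 10560, 11880, 15840, 19008, 23760, 31680, 47520, 95040]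

theorem small_simple {S : Type u} [Group S] [Finite S] [IsSimpleGroup S]
    (hna : ¬ IsMulCommutative S) (hdvd : Nat.card S ∣ 95040) (hlt : Nat.card S < 6000) :
    Nat.card S ∈ [60, 360, 660] := by
  have h := Below6000.card_simple_lt_6000 hna hlt
  simp only [List.mem_cons, List.not_mem_nil, or_false] at h ⊢
  rcases h with h | h | h | h | h | h | h | h | h | h | h <;> rw [h] at hdvd ⊢ <;>
    omega

theorem card_mem_sectionOrders {S : Type u} [Group S] [Finite S] [IsSimpleGroup S]
    (hna : ¬ IsMulCommutative S) (hdvd : Nat.card S ∣ 95040) (h11 : 11 ∣ Nat.card S) :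
    Nat.card S ∈ sectionOrders := by
  rcases Nat.lt_or_ge (Nat.card S) 6000 with hlt | hge
  · have h := small_simple hna hdvd hlt
    simp only [List.mem_cons, List.not_mem_nil, or_false] at h
    rcases h with h | h | h <;> rw [h] at h11 ⊢
    · norm_num at h11
    · norm_num at h11
    · decide
  · obtain ⟨k, hk⟩ := hdvd
    obtain ⟨s, hs⟩ : ∃ s, s = Nat.card S := ⟨_, rfl⟩
    rw [← hs] at hge hk h11 ⊢
    have hk15 : k ≤ 15 := by nlinarith
    have key : ∀ k ≤ 15, k ∣ 95040 → 11 ∣ 95040 / k → 95040 / k ∈ sectionOrders := by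
      decide +kernel
    have hk0 : 0 < k := Nat.pos_of_ne_zero fun h => by simp [h] at hk
    have hs' : 95040 / k = s := Nat.div_eq_of_eq_mul_left hk0 hk
    exact hs' ▸ key k hk15 ⟨s, by rw [hk, mul_comm]⟩ (hs'.symm ▸ h11)

theorem exists_simple_dvd {X : Type u} [Group X] [Finite X] (hns : ¬ Group.IsSolvable X) :
    ∃ (S : Type u) (_ : Group S) (_ : Finite S) (_ : IsSimpleGroup S),
      ¬ IsMulCommutative S ∧ Nat.card S ∣ Nat.card X := by
  obtain ⟨D, hDn, K, hKn, hT, hna, -⟩ := exists_section hns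
  haveI := hKn
  exact ⟨↥D ⧸ K, inferInstance, inferInstance, hT, hna,
    (K.card_quotient_dvd_card).trans (card_subgroup_dvd_card D)⟩

/-- There are no two simple sections. -/
theorem isSolvable_of_mul_dvd {S : Type u} [Group S] [Finite S] [IsSimpleGroup S]
    (hna : ¬ IsMulCommutative S) {X : Type u} [Group X] [Finite X]
    (h : Nat.card S * Nat.card X ∣ 95040) : Group.IsSolvable X := by
  by_contra hns
  obtain ⟨R, _, _, _, hnaR, hR⟩ := exists_simple_dvd hns
  have hd : Nat.card S * Nat.card R ∣ 95040 := (Nat.mul_dvd_mul_left _ hR).trans h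
  have hle := Nat.le_of_dvd (by norm_num) hd
  have hS : Nat.card S ∣ 95040 := (dvd_mul_right _ _).trans hd
  have hR' : Nat.card R ∣ 95040 := (dvd_mul_left _ _).trans hd
  have h60S : Nat.card S < 6000 → Nat.card S ∈ [60, 360, 660] := small_simple hna hS
  have h60R : Nat.card R < 6000 → Nat.card R ∈ [60, 360, 660] := small_simple hnaR hR'
  have key : ∀ a ∈ [60, 360, 660], ∀ b ∈ [60, 360, 660], ¬ a * b ∣ 95040 := by decide +kernel
  simp only [List.mem_cons, List.not_mem_nil, or_false] at h60S h60R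
  rcases Nat.lt_or_ge (Nat.card S) 6000 with h1 | h1 <;>
    rcases Nat.lt_or_ge (Nat.card R) 6000 with h2 | h2
  · exact key _ (small_simple hna hS h1) _ (small_simple hnaR hR' h2) hd
  · rcases h60S h1 with e | e | e <;> rw [e] at hle <;> omega
  · rcases h60R h2 with e | e | e <;> rw [e] at hle <;> omega
  · nlinarith

/-- An automorphism of order eleven of a group of order prime to eleven is trivial. -/
theorem eleven_fix {X : Type u} [Group X] [Finite X] (hX : Nat.card X ∣ 95040)
    (h11 : ¬ 11 ∣ Nat.card X) {φ : MulAut X} (hφ : φ ^ 11 = 1) : fix φ = ⊤ := by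
  haveI : Fact (Nat.Prime 11) := ⟨by norm_num⟩
  have hn0 : Nat.card X ≠ 0 := Nat.card_pos.ne'
  refine eq_top_of_le_card _ (Nat.le_of_dvd Nat.card_pos ?_)
  rw [Nat.dvd_iff_prime_pow_dvd_dvd]
  intro q k hq hqk
  rcases Nat.eq_zero_or_pos k with rfl | hk
  · simp
  have hqX : q ∣ Nat.card X := (dvd_pow_self q hk.ne').trans hqk
  have hq11 : q ≠ 11 := fun e => h11 (e ▸ hqX)
  have hqm : q ∈ [2, 3, 5] := by
    have h1 : q ∣ 2 ^ 6 * 3 ^ 3 * 5 * 11 := (hqX.trans hX).trans (by norm_num)
    simp only [List.mem_cons, List.not_mem_nil, or_false]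
    rcases hq.dvd_mul.1 h1 with h | h
    · rcases hq.dvd_mul.1 h with h | h
      · rcases hq.dvd_mul.1 h with h | h
        · exact Or.inl ((Nat.prime_dvd_prime_iff_eq hq Nat.prime_two).1 (hq.dvd_of_dvd_pow h))
        · exact Or.inr (Or.inl ((Nat.prime_dvd_prime_iff_eq hq Nat.prime_three).1
            (hq.dvd_of_dvd_pow h)))
      · exact Or.inr (Or.inr ((Nat.prime_dvd_prime_iff_eq hq (by norm_num)).1 h))
    · exact absurd ((Nat.prime_dvd_prime_iff_eq hq (by norm_num)).1 h) hq11
  set a := (Nat.card X).factorization q with ha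
  have hka : k ≤ a := (hq.pow_dvd_iff_le_factorization hn0).1 hqk
  refine (pow_dvd_pow q hka).trans (pow_dvd_fix h11 hφ hq hq11
    (Nat.ordProj_mul_ordCompl_eq_self _ q).symm (Nat.not_dvd_ordCompl hq hn0) fun i hi => ?_)
  have hdv : q ^ (i + 1) ∣ 95040 :=
    ((pow_dvd_pow q (by omega)).trans (Nat.ordProj_dvd _ q)).trans hX
  have hi7 : i < 7 := by
    by_contra hcon
    have h8 : q ^ 8 ∣ 95040 := (pow_dvd_pow q (by omega)).trans hdv
    have key8 : ∀ q ∈ [2, 3, 5], ¬ q ^ 8 ∣ 95040 := by decide +kernel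
    exact key8 q hqm h8
  have key : ∀ q ∈ [2, 3, 5], ∀ i < 7, q ^ (i + 1) ∣ 95040 → q ^ (i + 1) % 11 ≠ 1 := by
    decide +kernel
  exact key q hqm i hi7 hdv

/-- An element of order dividing eleven centralizes a normal subgroup of order prime to eleven. -/
theorem mem_centralizer_of_eleven {X : Type u} [Group X] [Finite X] (D : Subgroup X) [D.Normal]
    (hD : Nat.card ↥D ∣ 95040) (h11 : ¬ 11 ∣ Nat.card ↥D) {x : X} (hx : x ^ 11 = 1) :
    x ∈ centralizer (D : Set X) := by
  have hφ : (MulAut.conjNormal x : MulAut ↥D) ^ 11 = 1 := by rw [← map_pow, hx, map_one]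
  have h := eleven_fix hD h11 hφ
  rw [mem_centralizer_iff]
  intro y hy
  have h1 := mem_fix.1 (h ▸ mem_top (⟨y, hy⟩ : ↥D))
  exact (mul_inv_eq_iff_eq_mul.1 (congrArg Subtype.val h1)).symm

/-- In a soluble group of order dividing 95040 the Sylow subgroup for eleven is normal. -/
theorem sylow_normal_of_solvable {X : Type u} [Group X] [Finite X] [Group.IsSolvable X]
    [Fact (Nat.Prime 11)] (hX : Nat.card X ∣ 95040) (P : Sylow 11 X) :
    (P : Subgroup X).Normal := by
  by_contra hn
  have h11 : 11 ∣ Nat.card X := by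
    by_contra h
    refine hn ?_
    have hP : Nat.card ↥(P : Subgroup X) = 1 := by
      rw [P.card_eq_multiplicity, Nat.factorization_eq_zero_of_not_dvd h, pow_zero]
    rw [(P : Subgroup X).eq_bot_of_card_eq hP]
    infer_instance
  obtain ⟨m, hm⟩ := h11
  have hm' : ¬ 11 ∣ m := fun h => by
    have h' : 11 * 11 ∣ 95040 := (hm ▸ Nat.mul_dvd_mul_left 11 h).trans hX
    norm_num at h'
  have hR : Nat.card ↥(P : Subgroup X) = 11 := by
    simpa using card_sylow_eq 1 m (by rw [pow_one, hm]) hm' P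
  have hpp : ∀ q i : ℕ, q.Prime → q ≠ 11 → 1 ≤ i → q ^ i ∣ 95040 → q ^ i % 11 = 1 →
      q = 7 ∧ i = 0 := by
    intro q i hq hq11 hi hd hmod
    exfalso
    have hqm : q ∈ [2, 3, 5] := by
      have h1 : q ∣ 2 ^ 6 * 3 ^ 3 * 5 * 11 :=
        ((dvd_pow_self q (by omega)).trans hd).trans (by norm_num)
      simp only [List.mem_cons, List.not_mem_nil, or_false]
      rcases hq.dvd_mul.1 h1 with h | h
      · rcases hq.dvd_mul.1 h with h | h
        · rcases hq.dvd_mul.1 h with h | h
          · exact Or.inl ((Nat.prime_dvd_prime_iff_eq hq Nat.prime_two).1 (hq.dvd_of_dvd_pow h))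
          · exact Or.inr (Or.inl ((Nat.prime_dvd_prime_iff_eq hq Nat.prime_three).1
              (hq.dvd_of_dvd_pow h)))
        · exact Or.inr (Or.inr ((Nat.prime_dvd_prime_iff_eq hq (by norm_num)).1 h))
      · exact absurd ((Nat.prime_dvd_prime_iff_eq hq (by norm_num)).1 h) hq11
    have hi7 : i < 8 := by
      by_contra hcon
      have h8 : q ^ 8 ∣ 95040 := (pow_dvd_pow q (by omega)).trans hd
      have key8 : ∀ q ∈ [2, 3, 5], ¬ q ^ 8 ∣ 95040 := by decide +kernel
      exact key8 q hqm h8
    have key : ∀ q ∈ [2, 3, 5], ∀ i < 8, 1 ≤ i → q ^ i ∣ 95040 → q ^ i % 11 ≠ 1 := by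
      decide +kernel
    exact key q hqm i hi7 hi hd hmod
  obtain ⟨A, -, -, hAc, hAR⟩ := exists_normal_abelian (r := 11) (q₀ := 7) (a := 0) (N := 95040)
    (by norm_num) (by norm_num) hpp (Nat.card X) X le_rfl hX P hR hn
  apply hAR
  intro x _
  rw [mem_centralizer_iff]
  intro y hy
  rw [A.eq_bot_of_card_eq (by rw [hAc, pow_zero]), SetLike.mem_coe, mem_bot] at hy
  rw [hy, one_mul, mul_one]

/-- A Sylow subgroup of order eleven inside a normal subgroup and normal in it is normal. -/
theorem sylow_normal_of_le {X : Type u} [Group X] [Finite X] [Fact (Nat.Prime 11)]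
    (P : Sylow 11 X) (N : Subgroup X) [N.Normal] (hle : (P : Subgroup X) ≤ N)
    (hn : ((P.subtype hle : Sylow 11 ↥N) : Subgroup ↥N).Normal) : (P : Subgroup X).Normal := by
  haveI := Sylow.characteristic_of_normal (P.subtype hle) hn
  have h := ConjAct.normal_of_characteristic_of_normal (H := N)
    (K := ((P.subtype hle : Sylow 11 ↥N) : Subgroup ↥N))
  rwa [Sylow.coe_subtype, subgroupOf_map_subtype, inf_eq_left.2 hle] at h

/-- A group of order dividing 95040 in which a Sylow subgroup for eleven is not normal has a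
simple section of order divisible by eleven. -/
theorem exists_eleven_section {X : Type u} [Group X] [Finite X] [Fact (Nat.Prime 11)]
    (hX : Nat.card X ∣ 95040) (P : Sylow 11 X) (hP : ¬ (P : Subgroup X).Normal) :
    ∃ (D : Subgroup X) (_ : D.Normal) (K : Subgroup ↥D) (_ : K.Normal),
      IsSimpleGroup (↥D ⧸ K) ∧ ¬ IsMulCommutative (↥D ⧸ K) ∧ commutator ↥D = ⊤ ∧
      Group.IsSolvable ↥K ∧ ¬ 11 ∣ Nat.card ↥K ∧
      Nat.card (↥D ⧸ K) ∈ sectionOrders := by
  have hns : ¬ Group.IsSolvable X := fun h => hP (sylow_normal_of_solvable hX P)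
  obtain ⟨D, hDn, K, hKn, hT, hna, hperf⟩ := exists_section hns
  haveI := hKn
  haveI := hT
  have hDX : Nat.card ↥D ∣ 95040 := (card_subgroup_dvd_card D).trans hX
  have hTd : Nat.card (↥D ⧸ K) ∣ 95040 := K.card_quotient_dvd_card.trans hDX
  have hKs : Group.IsSolvable ↥K := isSolvable_of_mul_dvd hna
    (by rw [← K.card_eq_card_quotient_mul_card_subgroup]; exact hDX)
  haveI := hKs
  obtain ⟨Q⟩ := (inferInstance : Nonempty (Sylow 11 ↥D))
  -- the kernel has order prime to eleven
  have hK11 : ¬ 11 ∣ Nat.card ↥K := by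
    intro hd
    obtain ⟨R⟩ := (inferInstance : Nonempty (Sylow 11 ↥K))
    haveI hRn : (R : Subgroup ↥K).Normal :=
      sylow_normal_of_solvable ((card_subgroup_dvd_card K).trans hDX) R
    haveI := R.characteristic_of_normal hRn
    haveI hR' : ((R : Subgroup ↥K).map K.subtype).Normal :=
      ConjAct.normal_of_characteristic_of_normal
    have hcard : ∀ {Y : Type u} [Group Y] [Finite Y], Nat.card Y ∣ 95040 → 11 ∣ Nat.card Y →
        ∀ S : Sylow 11 Y, Nat.card ↥(S : Subgroup Y) = 11 := by
      intro Y _ _ hY h11 S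
      obtain ⟨m, hm⟩ := h11
      have hm' : ¬ 11 ∣ m := fun h => by
        have h' : 11 * 11 ∣ 95040 := (hm ▸ Nat.mul_dvd_mul_left 11 h).trans hY
        norm_num at h'
      simpa using card_sylow_eq 1 m (by rw [pow_one, hm]) hm' S
    have hdD : 11 ∣ Nat.card ↥D := hd.trans (card_subgroup_dvd_card K)
    have hcR : Nat.card ↥((R : Subgroup ↥K).map K.subtype) = 11 := by
      rw [card_map_of_injective K.subtype_injective,
        hcard ((card_subgroup_dvd_card K).trans hDX) hd R]
    obtain ⟨S, hS⟩ := (IsPGroup.of_card (p := 11) (n := 1)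
      (by rw [hcR, pow_one])).exists_le_sylow
    have heq : (R : Subgroup ↥K).map K.subtype = (S : Subgroup ↥D) :=
      eq_of_le_of_card_ge hS (by rw [hcR, hcard hDX hdD S])
    haveI hSn : (S : Subgroup ↥D).Normal := heq ▸ hR'
    haveI := S.characteristic_of_normal hSn
    haveI hSX : ((S : Subgroup ↥D).map D.subtype).Normal :=
      ConjAct.normal_of_characteristic_of_normal
    have hcS : Nat.card ↥((S : Subgroup ↥D).map D.subtype) = 11 := by
      rw [card_map_of_injective D.subtype_injective, hcard hDX hdD S]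
    obtain ⟨S', hS'⟩ := (IsPGroup.of_card (p := 11) (n := 1)
      (by rw [hcS, pow_one])).exists_le_sylow
    have hdX : 11 ∣ Nat.card X := hdD.trans (card_subgroup_dvd_card D)
    have heq' : (S : Subgroup ↥D).map D.subtype = (S' : Subgroup X) :=
      eq_of_le_of_card_ge hS' (by rw [hcS, hcard hX hdX S'])
    haveI hS'n : (S' : Subgroup X).Normal := heq' ▸ hSX
    obtain ⟨g, rfl⟩ := MulAction.exists_smul_eq X S' P
    exact hP (by rwa [Sylow.smul_eq_of_normal])
  refine ⟨D, hDn, K, hKn, hT, hna, hperf, hKs, hK11, card_mem_sectionOrders hna hTd ?_⟩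
  by_contra h11T
  have hD11 : ¬ 11 ∣ Nat.card ↥D := by
    rw [K.card_eq_card_quotient_mul_card_subgroup]
    intro h
    rcases (Fact.out : Nat.Prime 11).dvd_mul.1 h with h | h
    · exact h11T h
    · exact hK11 h
  set C := centralizer (D : Set X) with hC
  have hPC : (P : Subgroup X) ≤ C := by
    intro x hx
    refine mem_centralizer_of_eleven D hDX hD11 ?_
    obtain ⟨j, hj⟩ := P.2 ⟨x, hx⟩
    have hj' : x ^ 11 ^ j = 1 := congrArg Subtype.val hj
    obtain ⟨i, -, hi⟩ := (Nat.dvd_prime_pow (by norm_num)).1 (orderOf_dvd_of_pow_eq_one hj')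
    have hi1 : i ≤ 1 := by
      by_contra hcon
      have h2 : 11 ^ 2 ∣ 95040 :=
        ((pow_dvd_pow 11 (by omega)).trans (hi ▸ orderOf_dvd_natCard x)).trans hX
      norm_num at h2
    exact orderOf_dvd_iff_pow_eq_one.1 (hi ▸ (pow_dvd_pow 11 hi1).trans (dvd_of_eq (pow_one 11)))
  -- the centralizer meets the perfect subgroup in the kernel
  have hsol : Group.IsSolvable ↥C := by
    refine isSolvable_of_mul_dvd hna (Dvd.dvd.trans ?_ hX)
    have hle : C.subgroupOf D ≤ K := by
      intro d hd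
      rw [mem_subgroupOf] at hd
      rw [← QuotientGroup.eq_one_iff, ← mem_bot, ← DegGraph.center_eq_bot hna, mem_center_iff]
      intro y
      obtain ⟨e, rfl⟩ := QuotientGroup.mk_surjective y
      rw [← QuotientGroup.mk_mul, ← QuotientGroup.mk_mul]
      exact congrArg _ (Subtype.ext (mem_centralizer_iff.1 hd _ e.2))
    have h1 : Nat.card (↥D ⧸ K) ∣ C.relIndex D := index_dvd_of_le hle
    rw [mul_comm]
    exact (Nat.mul_dvd_mul_left _ (h1.trans (C.relIndex_dvd_index_of_normal D))).trans
      (dvd_of_eq C.card_mul_index)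
  haveI := hsol
  exact hP (sylow_normal_of_le P C hPC
    (sylow_normal_of_solvable ((card_subgroup_dvd_card C).trans hX) _))

end CfsgLib.M12Order
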