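import Mathlib

/-!
# Elements of order three in a simple group of order 95040: the finite search

The five parameters `a`, `b`, `e`, `f`, `i` are the values of the characters of degree 54, 144, 66,
99, 120; the block relations and orthogonality with the columns at one and at the special involution
give the other values `h`, `V`, `g` of the characters of degree 45, 16, 176.
-/

set_option autoImplicit false

namespace CfsgLib.M12Order.ThreeColumns

/-- The value at degree 45. -/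
def hv (b f : ℤ) : ℤ := -2 * b - f

/-- The value at degree 16. -/
def vv (a b f i : ℤ) : ℤ := 1 - a - b - f - i

/-- The value at degree 176. -/
def gv (b e f : ℤ) : ℤ := -1 + b - e + f

/-- The squares of the known values. -/
def sq (a b e f i : ℤ) : ℤ :=
  1 + a * a + b * b + 2 * (vv a b f i * vv a b f i) + e * e + f * f + gv b e f * gv b e f
    + hv b f * hv b f + i * i

/-- The known part of the number of products of `z` and its inverse equal to the involution. -/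
def zR (a b e f i : ℤ) : ℤ :=
  396 + 44 * (a * a) + 11 * (b * b) + 198 * (vv a b f i * vv a b f i) + 36 * (e * e) - 4 * (f * f)
    - 9 * (gv b e f * gv b e f) + 44 * (hv b f * hv b f)

/-- Four times the number of products of two special involutions equal to `z`. -/
def u4 (a b e f i : ℤ) : ℤ := 27 - 10 * a - 30 * b - 27 * f - 18 * i + 9 * e

/-- The sum of the two values at degree 11. -/
def sv (a b f i : ℤ) : ℤ := -2 + 3 * a + 2 * b + 2 * f + 2 * i

/-- The sum of the three values at degree 55. -/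
def wv (a b e f i : ℤ) : ℤ := 3 - a - 4 * b - 4 * f - 2 * i + 2 * e

/-- The defect of the column at the other involution. -/
def rt (a b e f i : ℤ) : ℤ :=
  3 * (1 + 6 * a + 2 * e + 3 * f - 3 * hv b f - 8 * i + 3 * sv a b f i) + 5 * wv a b e f i

/-- What all columns satisfy. -/
def common (C a b e f i : ℤ) : Bool :=
  decide (sq a b e f i ≤ C) && decide (36 * (C - sq a b e f i) ≤ zR a b e f i) &&
    decide (u4 a b e f i % 4 = 0) && decide (95040 / C * vv a b f i % 16 = 0)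

/-- With fifteen characters. -/
def adm15 (C a b e f i : ℤ) : Bool :=
  common C a b e f i &&
    decide (rt a b e f i * rt a b e f i ≤ 64 * (6 * (C - sq a b e f i) -
      3 * (sv a b f i * sv a b f i) - 2 * (wv a b e f i * wv a b e f i)))

/-- With thirteen characters. -/
def adm13 (C a b e f i : ℤ) : Bool :=
  common C a b e f i &&
    decide (C = sq a b e f i + (2 - a - 2 * b - 2 * f - 2 * i + e) * (2 - a - 2 * b - 2 * f - 2 * i + e)
      + (2 * a + e) * (2 * a + e) + (1 - 2 * a - 2 * b - 2 * f) * (1 - 2 * a - 2 * b - 2 * f))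

/-- The orders of the centralizers of elements of order three. -/
def cents : List ℤ := [9, 18, 36, 72, 144, 288, 576, 27, 54, 108, 216, 432, 864, 1728]

/-- The possible values at a degree `d` divisible by three. -/
def cands (C d : ℤ) : List ℤ :=
  (((List.range 83).map fun k : ℕ => (k : ℤ) - 41)).filter fun x =>
    decide (x % 3 = 0) && decide (x * x ≤ C) && decide (95040 / C * x % d = 0)

/-- The five rows that survive. -/
def good15 : List (ℤ × ℤ × ℤ × ℤ × ℤ × ℤ) :=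
  [(27, 0, 0, -3, 0, 0), (36, 0, 0, -3, 0, 0), (36, 0, -3, 0, 3, 0), (54, 0, 0, 3, 0, 3),
    (72, 0, 0, 3, 0, 3)]

/-- The three rows that survive. -/
def good13 : List (ℤ × ℤ × ℤ × ℤ × ℤ × ℤ) :=
  [(27, 0, 0, -3, 0, 0), (36, 0, -3, 0, 3, 0), (54, 0, 0, 3, 0, 3)]

/-- The search. -/
def search (adm : ℤ → ℤ → ℤ → ℤ → ℤ → ℤ → Bool) (good : List (ℤ × ℤ × ℤ × ℤ × ℤ × ℤ)) : Bool :=
  cents.all fun C => (cands C 54).all fun a => (cands C 144).all fun b => (cands C 99).all fun f =>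
    (cands C 120).all fun i => (cands C 66).all fun e =>
      !(adm C a b e f i) || good.contains (C, a, b, e, f, i)

set_option maxRecDepth 100000 in
theorem search15 : search adm15 good15 = true := by decide +kernel

set_option maxRecDepth 100000 in
theorem search13 : search adm13 good13 = true := by decide +kernel

/-- The hypotheses of the search on one value. -/
def IsCand (C d x : ℤ) : Prop := 3 ∣ x ∧ x * x ≤ C ∧ d ∣ 95040 / C * x

theorem mem_cands {C d x : ℤ} (hC : C ∈ cents) (h : IsCand C d x) : x ∈ cands C d := by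
  obtain ⟨h3, hsq, hd⟩ := h
  have hC' : C ≤ 1728 := by
    simp only [cents, List.mem_cons, List.not_mem_nil, or_false] at hC
    omega
  have hb : -41 ≤ x ∧ x ≤ 41 := ⟨by nlinarith, by nlinarith⟩
  simp only [cands, List.mem_filter, List.mem_map, List.mem_range, Bool.and_eq_true,
    decide_eq_true_eq]
  exact ⟨⟨(x + 41).toNat, by omega, by omega⟩, ⟨Int.emod_eq_zero_of_dvd h3, hsq⟩,
    Int.emod_eq_zero_of_dvd hd⟩

theorem mem_good {adm : ℤ → ℤ → ℤ → ℤ → ℤ → ℤ → Bool} {good : List (ℤ × ℤ × ℤ × ℤ × ℤ × ℤ)}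
    (hs : search adm good = true) {C a b e f i : ℤ} (hC : C ∈ cents) (ha : IsCand C 54 a)
    (hb : IsCand C 144 b) (he : IsCand C 66 e) (hf : IsCand C 99 f) (hi : IsCand C 120 i)
    (h : adm C a b e f i = true) : (C, a, b, e, f, i) ∈ good := by
  simp only [search, List.all_eq_true] at hs
  have := hs C hC a (mem_cands hC ha) b (mem_cands hC hb) f (mem_cands hC hf) i (mem_cands hC hi) e
    (mem_cands hC he)
  simpa [h] using this

/-- The identity behind the Cauchy-Schwarz bound: five values with given sums and a given product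
with the column at the other involution. -/
theorem cauchy (r₁ r₂ r₃ r₄ r₅ T₁ T₂ T₃ T₄ T₅ s W τ l : ℝ) (hs : r₁ + r₂ = s)
    (hW : r₃ + r₄ + r₅ = W) (hT₁ : T₁ + T₂ = 6) (hT₂ : T₃ + T₄ + T₅ = 5)
    (hT : T₁ * T₁ + T₂ * T₂ + T₃ * T₃ + T₄ * T₄ + T₅ * T₅ = 69)
    (hτ : T₁ * r₁ + T₂ * r₂ + T₃ * r₃ + T₄ * r₄ + T₅ * r₅ = τ) :
    (r₁ - s / 2 - l * (T₁ - 3)) ^ 2 + (r₂ - s / 2 - l * (T₂ - 3)) ^ 2 +
        (r₃ - W / 3 - l * (T₃ - 5 / 3)) ^ 2 + (r₄ - W / 3 - l * (T₄ - 5 / 3)) ^ 2 +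
        (r₅ - W / 3 - l * (T₅ - 5 / 3)) ^ 2 =
      r₁ ^ 2 + r₂ ^ 2 + r₃ ^ 2 + r₄ ^ 2 + r₅ ^ 2 - s ^ 2 / 2 - W ^ 2 / 3 -
        2 * l * (τ - 3 * s - 5 / 3 * W) + 128 / 3 * l ^ 2 := by
  obtain rfl : r₂ = s - r₁ := by linarith
  obtain rfl : r₅ = W - r₃ - r₄ := by linarith
  obtain rfl : T₂ = 6 - T₁ := by linarith
  obtain rfl : T₅ = 5 - T₃ - T₄ := by linarith
  linear_combination (-2 * l) * hτ + l ^ 2 * hT

/-- Cauchy-Schwarz for the five values, with the values in the case of equality. -/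
theorem five_values (x₁ x₂ x₃ x₄ x₅ : ℂ) (T₁ T₂ T₃ T₄ T₅ s W q N r : ℝ) (hs : x₁.re + x₂.re = s)
    (hW : x₃.re + x₄.re + x₅.re = W) (hT₁ : T₁ + T₂ = 6) (hT₂ : T₃ + T₄ + T₅ = 5)
    (hT : T₁ * T₁ + T₂ * T₂ + T₃ * T₃ + T₄ * T₄ + T₅ * T₅ = 69)
    (hτ : T₁ * x₁.re + T₂ * x₂.re + T₃ * x₃.re + T₄ * x₄.re + T₅ * x₅.re = -q)
    (hN : Complex.normSq x₁ + Complex.normSq x₂ + Complex.normSq x₃ + Complex.normSq x₄ +
      Complex.normSq x₅ = N) (hr : r = 3 * q + 9 * s + 5 * W) :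
    r * r ≤ 64 * (6 * N - 3 * (s * s) - 2 * (W * W)) ∧
      (r * r = 64 * (6 * N - 3 * (s * s) - 2 * (W * W)) →
        (x₁.im = 0 ∧ x₂.im = 0 ∧ x₃.im = 0 ∧ x₄.im = 0 ∧ x₅.im = 0) ∧
        (x₁.re = s / 2 - r / 128 * (T₁ - 3) ∧ x₂.re = s / 2 - r / 128 * (T₂ - 3) ∧
          x₃.re = W / 3 - r / 128 * (T₃ - 5 / 3) ∧ x₄.re = W / 3 - r / 128 * (T₄ - 5 / 3) ∧
          x₅.re = W / 3 - r / 128 * (T₅ - 5 / 3))) := by
  have hid := cauchy x₁.re x₂.re x₃.re x₄.re x₅.re T₁ T₂ T₃ T₄ T₅ s W (-q) (-r / 128) hs hW hT₁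
    hT₂ hT hτ
  simp only [Complex.normSq_apply] at hN
  have key : (x₁.re - s / 2 - -r / 128 * (T₁ - 3)) ^ 2 + (x₂.re - s / 2 - -r / 128 * (T₂ - 3)) ^ 2 +
      (x₃.re - W / 3 - -r / 128 * (T₃ - 5 / 3)) ^ 2 + (x₄.re - W / 3 - -r / 128 * (T₄ - 5 / 3)) ^ 2 +
      (x₅.re - W / 3 - -r / 128 * (T₅ - 5 / 3)) ^ 2 + x₁.im ^ 2 + x₂.im ^ 2 + x₃.im ^ 2 + x₄.im ^ 2 +
      x₅.im ^ 2 = (64 * (6 * N - 3 * (s * s) - 2 * (W * W)) - r * r) / 384 := by
    subst hr
    linear_combination hid + hN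
  have n1 := pow_two_nonneg (x₁.re - s / 2 - -r / 128 * (T₁ - 3))
  have n2 := pow_two_nonneg (x₂.re - s / 2 - -r / 128 * (T₂ - 3))
  have n3 := pow_two_nonneg (x₃.re - W / 3 - -r / 128 * (T₃ - 5 / 3))
  have n4 := pow_two_nonneg (x₄.re - W / 3 - -r / 128 * (T₄ - 5 / 3))
  have n5 := pow_two_nonneg (x₅.re - W / 3 - -r / 128 * (T₅ - 5 / 3))
  have m1 := pow_two_nonneg x₁.im
  have m2 := pow_two_nonneg x₂.im
  have m3 := pow_two_nonneg x₃.im
  have m4 := pow_two_nonneg x₄.im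
  have m5 := pow_two_nonneg x₅.im
  refine ⟨by linarith, fun he => ?_⟩
  have z : ∀ w : ℝ, 0 ≤ w ^ 2 → w ^ 2 ≤ 0 → w = 0 := fun w h1 h2 =>
    pow_eq_zero_iff two_ne_zero |>.1 (le_antisymm h2 h1)
  refine ⟨⟨z _ m1 (by linarith), z _ m2 (by linarith), z _ m3 (by linarith), z _ m4 (by linarith),
    z _ m5 (by linarith)⟩, ?_, ?_, ?_, ?_, ?_⟩
  · linarith [z _ n1 (by linarith)]
  · linarith [z _ n2 (by linarith)]
  · linarith [z _ n3 (by linarith)]
  · linarith [z _ n4 (by linarith)]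
  · linarith [z _ n5 (by linarith)]

end CfsgLib.M12Order.ThreeColumns
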