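import Cfsg.Agent.Lib.M12Order.Tools
import Cfsg.Agent.Lib.M12Order.ThreeArith
import Cfsg.Agent.Lib.CharApps.PrimeClassBound

/-!
# Elements of order three in a simple group of order 95040: general facts
-/

set_option autoImplicit false
set_option linter.style.haveILetI false
set_option linter.unusedSectionVars false

open Cfsg CfsgLib.Chars CfsgLib.CharApps CfsgLib.Small
open scoped ComplexConjugate

namespace CfsgLib.M12Order.ThreeColumns

universe u

variable {G : Type u} [Group G] [Finite G]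

theorem orth {n : ℕ} (c : Fin n ≃ IrrCharacter G) (g h : G) [Decidable (IsConj h g)] :
    ∑ k, (c k : G → ℂ) g * conj ((c k : G → ℂ) h) =
      if IsConj h g then (Nat.card (cen g) : ℂ) else 0 := by
  classical
  haveI := irrFintype G
  have h1 := second_orthogonality (G := G) g h
  rw [← c.sum_comp] at h1
  convert h1 using 2

theorem not_isConj_of_order {g h : G} (hne : orderOf g ≠ orderOf h) : ¬ IsConj g h := fun hc => hne (by
  obtain ⟨c, rfl⟩ := isConj_iff.1 hc
  exact (MulAut.conj c).orderOf_eq g ▸ rfl)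

theorem orth_zero {n : ℕ} (c : Fin n ≃ IrrCharacter G) {g h : G} (hne : orderOf g ≠ orderOf h) :
    ∑ k, (c k : G → ℂ) g * conj ((c k : G → ℂ) h) = 0 := by
  classical
  rw [orth c g h, if_neg (not_isConj_of_order (Ne.symm hne))]

theorem norm_sum {n : ℕ} (c : Fin n ≃ IrrCharacter G) (g : G) :
    ∑ k, Complex.normSq ((c k : G → ℂ) g) = (Nat.card (cen g) : ℝ) := by
  classical
  have h := congrArg Complex.re (orth c g g)
  rw [if_pos (IsConj.refl g)] at h
  simpa [Complex.re_sum, Complex.mul_conj] using h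

/-- Pairs of conjugating elements. -/
abbrev Pairs (x y z : G) : Type u :=
  {ab : G × G // (ab.1 * x * ab.1⁻¹) * (ab.2 * y * ab.2⁻¹) = z}

theorem pairs_eq {n : ℕ} (hG : Nat.card G = 95040) (c : Fin n ≃ IrrCharacter G) (d : Fin n → ℕ)
    (hd : ∀ k, charDegree (c k : G → ℂ) = d k) (x y z : G) :
    (Nat.card (Pairs x y z) : ℂ) =
      95040 * ∑ k, (c k : G → ℂ) x * (c k : G → ℂ) y * (c k : G → ℂ) z⁻¹ / (d k : ℂ) := by
  classical
  haveI := Fintype.ofFinite G
  haveI := irrFintype G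
  rw [card_conj_mul_conj, hG, ← c.sum_comp]
  simp only [deg_eq, hd]
  norm_num

theorem card_pairs_dvd (x z : G) : Nat.card (cen x) ^ 2 ∣ Nat.card (Pairs x x z) := by
  classical
  haveI := Fintype.ofFinite G
  refine ⟨Nat.card {y : G // IsConj x y ∧ IsConj x (y⁻¹ * z)}, ?_⟩
  let e : Pairs x x z ≃ Σ y : {y : G // IsConj x y ∧ IsConj x (y⁻¹ * z)},
      {a : G // a * x * a⁻¹ = y.1} × {b : G // b * x * b⁻¹ = y.1⁻¹ * z} :=
    { toFun := fun ab => ⟨⟨ab.1.1 * x * ab.1.1⁻¹, isConj_iff.2 ⟨_, rfl⟩,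
        isConj_iff.2 ⟨ab.1.2, (inv_mul_eq_of_eq_mul ab.2.symm).symm⟩⟩, ⟨ab.1.1, rfl⟩,
        ⟨ab.1.2, (inv_mul_eq_of_eq_mul ab.2.symm).symm⟩⟩
      invFun := fun w => ⟨(w.2.1.1, w.2.2.1), by
        rw [w.2.1.2, w.2.2.2, mul_inv_cancel_left]⟩
      left_inv := fun ab => rfl
      right_inv := fun w => by
        obtain ⟨⟨y, hy⟩, ⟨a, ha⟩, ⟨b, hb⟩⟩ := w
        change a * x * a⁻¹ = y at ha
        subst ha
        rfl }
  have hfib : ∀ y : {y : G // IsConj x y ∧ IsConj x (y⁻¹ * z)},
      Nat.card ({a : G // a * x * a⁻¹ = y.1} × {b : G // b * x * b⁻¹ = y.1⁻¹ * z}) =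
        Nat.card (cen x) ^ 2 := fun y => by
    rw [Nat.card_prod, card_conj_fiber x y.2.1, card_conj_fiber x y.2.2, pow_two]
  rw [Nat.card_congr e, Nat.card_sigma, Finset.sum_congr rfl fun y _ => hfib y, Finset.sum_const,
    Finset.card_univ, smul_eq_mul, ← Nat.card_eq_fintype_card, mul_comm]

theorem inv_involution {t : G} (ht : orderOf t = 2) : t⁻¹ = t := by
  refine inv_eq_of_mul_eq_one_right ?_
  rw [← pow_two, ← ht, pow_orderOf_eq_one]

/-- A value fixed by conjugation at an element of order three. -/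
theorem int_of_real (χ : IrrCharacter G) {z : G} (hz : orderOf z = 3)
    (hr : conj ((χ : G → ℂ) z) = (χ : G → ℂ) z) :
    ∃ m : ℤ, (m : ℂ) = (χ : G → ℂ) z ∧ (3 : ℤ) ∣ m - charDegree (χ : G → ℂ) := by
  haveI := Fact.mk Nat.prime_three
  have hx3 : z ^ 3 = 1 := by rw [← hz, pow_orderOf_eq_one]
  obtain ⟨m, hm⟩ : ∃ m : ℤ, (m : ℂ) = (χ : G → ℂ) z := by
    refine exists_int_of_rat (char_isIntegral (isCharacter_of_irr χ.2) z)
      (exists_rat_of_fixed (N := 3) (char_mem_cyclo (isCharacter_of_irr χ.2) z hx3)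
        fun k σ hk hσ => ?_)
    rw [galois_apply σ hσ (isCharacter_of_irr χ.2) z hx3, pow_eq_pow_mod k hx3]
    have h0 : k % 3 ≠ 0 := fun h => by
      have := Nat.dvd_gcd (Nat.dvd_of_mod_eq_zero h) (dvd_refl 3)
      rw [hk] at this
      norm_num at this
    rcases (show k % 3 = 1 ∨ k % 3 = 2 by omega) with h | h
    · rw [h, pow_one]
    · have hx2 : z ^ 2 = z⁻¹ := eq_inv_of_mul_eq_one_left (by rw [← pow_succ, hx3])
      rw [h, hx2, char_inv (isCharacter_of_irr χ.2), hr]
  exact ⟨m, hm, int_congr_of_pow_eq_one (p := 3) χ hx3 hm⟩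

section

variable [IsSimpleGroup G] (hG : Nat.card G = 95040) (h11 : LocalEleven G) (h5 : LocalFive G)

include hG

theorem card_sylow_three (P : Sylow 3 G) : Nat.card (P : Subgroup G) = 27 := by
  haveI := Fact.mk Nat.prime_three
  simpa using card_sylow_eq (p := 3) 3 3520 (by rw [hG]; rfl) (by norm_num) P

theorem nine_dvd {z : G} (hz : orderOf z = 3) : 9 ∣ Nat.card (cen z) := by
  haveI := Fact.mk Nat.prime_three
  have hp : IsPGroup 3 (Subgroup.zpowers z) :=
    IsPGroup.of_card (n := 1) (by rw [Nat.card_zpowers, hz, pow_one])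
  obtain ⟨P, hP⟩ := hp.exists_le_sylow
  have hzP : z ∈ (P : Subgroup G) := hP (Subgroup.mem_zpowers z)
  obtain ⟨T, hT⟩ : ∃ T, T = (P : Subgroup G) ⊓ cen z := ⟨_, rfl⟩
  have hdvd : Nat.card T ∣ 3 ^ 3 := by
    have := Subgroup.card_dvd_of_le (hT ▸ inf_le_left : T ≤ (P : Subgroup G))
    rwa [card_sylow_three hG P] at this
  obtain ⟨k, -, hk⟩ := (Nat.dvd_prime_pow Nat.prime_three).1 hdvd
  have hzT : Subgroup.zpowers z ≤ T :=
    Subgroup.zpowers_le.2 (hT ▸ ⟨hzP, Subgroup.mem_centralizer_singleton_iff.2 rfl⟩)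
  have h2 : 2 ≤ k := by
    by_contra hlt
    have heq : Subgroup.zpowers z = T := Subgroup.eq_of_le_of_card_ge hzT (by
      rw [hk, Nat.card_zpowers, hz]
      exact (Nat.pow_le_pow_right (by norm_num) (by omega : k ≤ 1)).trans_eq (pow_one 3))
    haveI : Nontrivial (P : Subgroup G) := ⟨⟨⟨z, hzP⟩, 1, fun h => by
      have := congrArg Subtype.val h
      simp only [OneMemClass.coe_one] at this
      rw [this, orderOf_one] at hz
      norm_num at hz⟩⟩
    obtain ⟨⟨c, hc⟩, hc1⟩ := (Subgroup.center (P : Subgroup G)).ne_bot_iff_exists_ne_one.1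
      P.2.bot_lt_center.ne'
    have hcz : (c : G) ∈ Subgroup.zpowers z := heq.ge (hT ▸ ⟨c.2,
      Subgroup.mem_centralizer_singleton_iff.2
        (congrArg Subtype.val (Subgroup.mem_center_iff.1 hc ⟨z, hzP⟩)).symm⟩)
    -- then `z` is central
    have hzc : ∀ y ∈ (P : Subgroup G), y * z = z * y := by
      intro y hy
      have hgen : z ∈ Subgroup.zpowers (c : G) := by
        have hle := Subgroup.zpowers_le.2 hcz
        refine (Subgroup.eq_of_le_of_card_ge hle ?_).ge (Subgroup.mem_zpowers z)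
        have hne : orderOf (c : G) ≠ 1 := fun h => hc1 (Subtype.ext (Subtype.ext
          (orderOf_eq_one_iff.1 h)))
        have hd : orderOf (c : G) ∣ 3 := by
          have := Subgroup.orderOf_dvd_natCard _ hcz
          rwa [Nat.card_zpowers, hz] at this
        rw [Nat.card_zpowers, Nat.card_zpowers, hz,
          ((Nat.dvd_prime Nat.prime_three).1 hd).resolve_left hne]
      obtain ⟨j, rfl⟩ := Subgroup.mem_zpowers_iff.1 hgen
      exact ((show Commute y (c : G) from
        congrArg Subtype.val (Subgroup.mem_center_iff.1 hc ⟨y, hy⟩)).zpow_right j).eq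
    have hPT : (P : Subgroup G) ≤ T := fun y hy =>
      hT ▸ ⟨hy, Subgroup.mem_centralizer_singleton_iff.2 (hzc y hy)⟩
    have := Subgroup.card_le_of_le hPT
    rw [card_sylow_three hG P, hk] at this
    have := Nat.pow_le_pow_right (show 0 < 3 by norm_num) (by omega : k ≤ 1)
    omega
  exact ((show (9 : ℕ) = 3 ^ 2 by rfl) ▸ hk ▸ pow_dvd_pow 3 h2).trans
    (Subgroup.card_dvd_of_le (hT ▸ inf_le_right : T ≤ cen z))

include h11 h5

theorem card_cen_three {z : G} (hz : orderOf z = 3) : (Nat.card (cen z) : ℤ) ∈ cents := by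
  obtain ⟨j, hj⟩ := nine_dvd hG hz
  have hd : Nat.card (cen z) ∣ 95040 := hG ▸ Subgroup.card_subgroup_dvd_card _
  have hno : ∀ q : ℕ, q = 5 ∨ q = 11 → ¬ q ∣ Nat.card (cen z) := by
    intro q hq hdvd
    haveI := Fact.mk (show q.Prime by rcases hq with rfl | rfl <;> norm_num)
    obtain ⟨⟨y, hyC⟩, hyo⟩ := exists_prime_orderOf_dvd_card' (G := cen z) q hdvd
    rw [Subgroup.orderOf_mk] at hyo
    have hzC : z ∈ cen y :=
      Subgroup.mem_centralizer_singleton_iff.2 (Subgroup.mem_centralizer_singleton_iff.1 hyC).symm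
    have h := Subgroup.orderOf_dvd_natCard _ hzC
    rcases hq with rfl | rfl
    · rw [hz, h5.cent y hyo] at h; norm_num at h
    · rw [hz, h11.cent y hyo] at h; norm_num at h
  rw [hj] at hd hno ⊢
  have h1 : j ∣ 55 * 192 := Nat.dvd_of_mul_dvd_mul_left (by norm_num : 0 < 9) hd
  have hcop : Nat.Coprime j 55 := by
    refine Nat.coprime_comm.1 ((Nat.coprime_mul_iff_left (m := 5) (n := 11)).2 ⟨?_, ?_⟩)
    · exact (Nat.Prime.coprime_iff_not_dvd (by norm_num)).2 fun h => hno 5 (Or.inl rfl) (h.mul_left 9)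
    · exact (Nat.Prime.coprime_iff_not_dvd (by norm_num)).2 fun h => hno 11 (Or.inr rfl) (h.mul_left 9)
  have h192 : j ∣ 192 := hcop.dvd_of_dvd_mul_left h1
  have hlt : j < 193 := Nat.lt_succ_of_le (Nat.le_of_dvd (by norm_num) h192)
  have key : ∀ k < 193, k ∣ 192 → ((9 * k : ℕ) : ℤ) ∈ cents := by decide +kernel
  exact key j hlt h192

omit h11 h5 in
theorem exists_twentyseven : ∃ z : G, orderOf z = 3 ∧ 27 ∣ Nat.card (cen z) := by
  haveI := Fact.mk Nat.prime_three
  obtain ⟨P⟩ : Nonempty (Sylow 3 G) := inferInstance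
  haveI : Nontrivial (P : Subgroup G) :=
    Finite.one_lt_card_iff_nontrivial.1 (by rw [card_sylow_three hG P]; norm_num)
  have hne : Subgroup.center (P : Subgroup G) ≠ ⊥ := P.2.bot_lt_center.ne'
  have hdvd : 3 ∣ Nat.card (Subgroup.center (P : Subgroup G)) := by
    obtain ⟨k, hk⟩ := (P.2.to_subgroup (Subgroup.center (P : Subgroup G))).exists_card_eq
    rw [hk]
    refine dvd_pow_self 3 fun h0 => hne ?_
    rw [h0, pow_zero] at hk
    exact Subgroup.card_eq_one.1 hk
  obtain ⟨⟨⟨z, hzP⟩, hzc⟩, hz⟩ :=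
    exists_prime_orderOf_dvd_card' (G := Subgroup.center (P : Subgroup G)) 3 hdvd
  rw [Subgroup.orderOf_mk, Subgroup.orderOf_mk] at hz
  refine ⟨z, hz, card_sylow_three hG P ▸ Subgroup.card_dvd_of_le fun y hy => ?_⟩
  exact Subgroup.mem_centralizer_singleton_iff.2
    (congrArg Subtype.val (Subgroup.mem_center_iff.1 hzc ⟨y, hy⟩))

omit h11 in
theorem exists_five_involution : ∃ t : G, orderOf t = 2 ∧ 5 ∣ Nat.card (cen t) := by
  haveI := Fact.mk (show Nat.Prime 5 by norm_num)
  haveI := Fact.mk Nat.prime_two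
  obtain ⟨y, hy⟩ := exists_prime_orderOf_dvd_card' (G := G) 5 (by rw [hG]; norm_num)
  obtain ⟨⟨t, htC⟩, ht⟩ := exists_prime_orderOf_dvd_card' (G := cen y) 2
    (by rw [h5.cent y hy]; norm_num)
  rw [Subgroup.orderOf_mk] at ht
  refine ⟨t, ht, hy ▸ Subgroup.orderOf_dvd_natCard _ ?_⟩
  exact Subgroup.mem_centralizer_singleton_iff.2 (Subgroup.mem_centralizer_singleton_iff.1 htC).symm

omit h11 h5 in
theorem exists_central_involution : ∃ t : G, orderOf t = 2 ∧ 64 ∣ Nat.card (cen t) := by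
  haveI := Fact.mk Nat.prime_two
  obtain ⟨P⟩ : Nonempty (Sylow 2 G) := inferInstance
  have hP : Nat.card (P : Subgroup G) = 64 := by
    simpa using card_sylow_eq (p := 2) 6 1485 (by rw [hG]; rfl) (by norm_num) P
  haveI : Nontrivial (P : Subgroup G) :=
    Finite.one_lt_card_iff_nontrivial.1 (by rw [hP]; norm_num)
  have hne : Subgroup.center (P : Subgroup G) ≠ ⊥ := P.2.bot_lt_center.ne'
  have hdvd : 2 ∣ Nat.card (Subgroup.center (P : Subgroup G)) := by
    obtain ⟨k, hk⟩ := (P.2.to_subgroup (Subgroup.center (P : Subgroup G))).exists_card_eq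
    rw [hk]
    refine dvd_pow_self 2 fun h0 => hne ?_
    rw [h0, pow_zero] at hk
    exact Subgroup.card_eq_one.1 hk
  obtain ⟨⟨⟨z, hzP⟩, hzc⟩, hz⟩ :=
    exists_prime_orderOf_dvd_card' (G := Subgroup.center (P : Subgroup G)) 2 hdvd
  rw [Subgroup.orderOf_mk, Subgroup.orderOf_mk] at hz
  refine ⟨z, hz, hP ▸ Subgroup.card_dvd_of_le fun y hy => ?_⟩
  exact Subgroup.mem_centralizer_singleton_iff.2
    (congrArg Subtype.val (Subgroup.mem_center_iff.1 hzc ⟨y, hy⟩))

end

/-- Frobenius: three divides the number of solutions of `g ^ 3 = 1`. -/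
theorem three_dvd_card_cubes {z : G} (hz : orderOf z = 3) :
    3 ∣ Nat.card {g : G // g ^ 3 = 1} := by
  classical
  haveI := Fact.mk Nat.prime_three
  haveI := Fintype.ofFinite G
  let H := Subgroup.zpowers z
  have hH : IsPGroup 3 H := IsPGroup.of_card (n := 1) (by rw [Nat.card_zpowers, hz, pow_one])
  have hz3 : z ^ 3 = 1 := by rw [← hz, pow_orderOf_eq_one]
  have hH3 : ∀ h : H, (h : G) ^ 3 = 1 := fun h => by
    obtain ⟨j, hj⟩ := Subgroup.mem_zpowers_iff.1 h.2
    rw [← hj, ← zpow_natCast, ← zpow_mul, mul_comm, zpow_mul, zpow_natCast, hz3, one_zpow]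
  letI act : MulAction H {g : G // g ^ 3 = 1} :=
    { smul := fun h g => ⟨(h : G) * g * (h : G)⁻¹, by rw [conj_pow, g.2, mul_one, mul_inv_cancel]⟩
      one_smul := fun g => Subtype.ext (by
        show ((1 : H) : G) * g * ((1 : H) : G)⁻¹ = g
        simp)
      mul_smul := fun a b g => Subtype.ext (by
        show ((a * b : H) : G) * g * ((a * b : H) : G)⁻¹ =
          (a : G) * ((b : G) * g * (b : G)⁻¹) * (a : G)⁻¹
        simp [mul_assoc]) }
  have hmod := hH.card_modEq_card_fixedPoints (α := {g : G // g ^ 3 = 1})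
  -- the fixed points are permuted freely by translation
  have hfix : ∀ g : {g : G // g ^ 3 = 1},
      g ∈ MulAction.fixedPoints H {g : G // g ^ 3 = 1} ↔ Commute (g : G) z := by
    intro g
    constructor
    · intro h
      have h' := congrArg Subtype.val (h ⟨z, Subgroup.mem_zpowers z⟩)
      exact (mul_inv_eq_iff_eq_mul.1 h').symm
    · intro h y
      obtain ⟨j, hj⟩ := Subgroup.mem_zpowers_iff.1 y.2
      refine Subtype.ext (?_ : (y : G) * g * (y : G)⁻¹ = g)
      rw [← hj, mul_inv_eq_iff_eq_mul]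
      exact (h.zpow_right j).eq.symm
  let Fx := {g : G // g ^ 3 = 1 ∧ Commute g z}
  letI act' : MulAction H Fx :=
    { smul := fun h g => ⟨(h : G) * g, by
        obtain ⟨j, hj⟩ := Subgroup.mem_zpowers_iff.1 h.2
        have hc : Commute (h : G) g.1 := hj ▸ (g.2.2.zpow_right j).symm
        exact ⟨by rw [hc.mul_pow, hH3, g.2.1, one_mul],
          (hj ▸ ((Commute.refl z).zpow_left j)).mul_left g.2.2⟩⟩
      one_smul := fun g => Subtype.ext (one_mul _)
      mul_smul := fun a b g => Subtype.ext (mul_assoc _ _ _) }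
  have hmod' := hH.card_modEq_card_fixedPoints (α := Fx)
  haveI : IsEmpty (MulAction.fixedPoints H Fx) := ⟨fun g => by
    have h' : z * (g.1 : G) = g.1 := congrArg Subtype.val (g.2 ⟨z, Subgroup.mem_zpowers z⟩)
    rw [mul_eq_right] at h'
    rw [h', orderOf_one] at hz
    norm_num at hz⟩
  rw [Nat.card_of_isEmpty (α := MulAction.fixedPoints H Fx)] at hmod'
  have he : Nat.card (MulAction.fixedPoints H {g : G // g ^ 3 = 1}) = Nat.card Fx :=
    Nat.card_congr ((Equiv.subtypeEquivRight hfix).trans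
      (Equiv.subtypeSubtypeEquivSubtypeInter _ fun g => Commute g z))
  rw [he] at hmod
  exact Nat.modEq_zero_iff_dvd.1 (hmod.trans hmod')

/-- An integral value from a character known by its degree and its value at an involution. -/
theorem int_val {n : ℕ} (hG : Nat.card G = 95040) (c : Fin n ≃ IrrCharacter G) (d : Fin n → ℕ)
    (U : Fin n → ℤ) (hd : ∀ k, charDegree (c k : G → ℂ) = d k) {t : G}
    (hU : ∀ k, (c k : G → ℂ) t = (U k : ℂ)) (k : Fin n)
    (huniq : ∀ j, d j = d k → U j = U k → j = k) (h3 : (3 : ℤ) ∣ (d k : ℤ)) {z : G}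
    (hz : orderOf z = 3) :
    ∃ m : ℤ, (m : ℂ) = (c k : G → ℂ) z ∧ IsCand (Nat.card (cen z) : ℤ) (d k) m := by
  obtain ⟨j, hj⟩ : ∃ j, c j = conjIrr (c k) := ⟨_, c.apply_symm_apply _⟩
  have hval : ∀ g, (c j : G → ℂ) g = conj ((c k : G → ℂ) g) := fun g => by rw [hj]; rfl
  have hjk : j = k := by
    refine huniq j ?_ ?_
    · have h1 := hval 1
      rw [deg_eq, deg_eq, hd, hd, map_natCast] at h1
      exact_mod_cast h1
    · have h1 := hval t
      rw [hU, hU, map_intCast] at h1
      exact_mod_cast h1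
  obtain ⟨m, hm, h3m⟩ := int_of_real (c k) hz (by rw [← hval, hjk])
  rw [hd] at h3m
  refine ⟨m, hm, by simpa using dvd_add h3m h3, ?_, ?_⟩
  · have h1 := norm_sum c z
    have h2 : Complex.normSq ((c k : G → ℂ) z) ≤ (Nat.card (cen z) : ℝ) := by
      rw [← h1]
      exact Finset.single_le_sum (f := fun l => Complex.normSq ((c l : G → ℂ) z))
        (fun l _ => Complex.normSq_nonneg _) (Finset.mem_univ k)
    rw [← hm, Complex.normSq_intCast, ← pow_two] at h2
    have h4 : m ^ 2 ≤ (Nat.card (cen z) : ℤ) := by exact_mod_cast h2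
    rwa [pow_two] at h4
  · have h1 := dvd_index_mul (c k) hm
    rw [hd] at h1
    have h2 : (Nat.card (cen z)) * (cen z).index = 95040 := by rw [Subgroup.card_mul_index, hG]
    have h4 : (95040 : ℤ) / (Nat.card (cen z) : ℤ) = ((cen z).index : ℤ) := by
      rw [← show ((Nat.card (cen z) : ℤ) * (cen z).index) = 95040 by exact_mod_cast h2,
        Int.mul_ediv_cancel_left _ (by exact_mod_cast (Nat.card_pos (α := cen z)).ne')]
    rwa [h4]

/-- What the tables give: a class of columns `M`, orthogonal exactly to the others. -/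
def Sys (G : Type u) [Group G] [Finite G] : Prop :=
  ∃ M : G → Prop,
    (∀ z, orderOf z = 3 → (M z → Nat.card (cen z) = 36) ∧
      (¬ M z → Nat.card (cen z) = 27 ∨ Nat.card (cen z) = 36 ∨ Nat.card (cen z) = 54 ∨
        Nat.card (cen z) = 72)) ∧
    ∀ z w, orderOf z = 3 → orderOf w = 3 →
      (Nat.card (cen w) = 27 ∨ Nat.card (cen w) = 54 ∨ M w) → ¬ IsConj w z → (M z ↔ ¬ M w)

/-- The elements of order three are those of the given classes. -/
theorem card_class (z : G) : Nat.card {g : G // IsConj z g} = (cen z).index := by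
  classical
  haveI := Fintype.ofFinite G
  have h := card_isConj_mul_card_centralizer z
  have h2 := Subgroup.card_mul_index (cen z)
  refine Nat.eq_of_mul_eq_mul_right (Nat.card_pos (α := cen z)) ?_
  rw [h, ← h2, mul_comm]

end CfsgLib.M12Order.ThreeColumns
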