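import Cfsg.Agent.Lib.M12Order.ThreeBase

/-!
# Elements of order three in a simple group of order 95040: the table with fifteen characters
-/

set_option autoImplicit false
set_option linter.style.haveILetI false
set_option linter.unusedSectionVars false

open Cfsg CfsgLib.Chars CfsgLib.CharApps CfsgLib.Small
open scoped ComplexConjugate

namespace CfsgLib.M12Order.ThreeColumns

universe u

variable {G : Type u} [Group G] [Finite G]

theorem sum15 {M : Type*} [AddCommMonoid M] (F : Fin 15 → M) :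
    ∑ k, F k = F 0 + F 1 + F 2 + F 3 + F 4 + F 5 + F 6 + F 7 + F 8 + F 9 + F 10 + F 11 + F 12 +
      F 13 + F 14 := by
  simp only [Fin.sum_univ_succ, Fin.sum_univ_zero, add_zero, add_assoc]
  rfl

theorem colT15 : ∀ v ∈ spec15.colT,
    (v (0 : Fin 15) = 1 ∧ v (1 : Fin 15) = 6 ∧ v (2 : Fin 15) = 0 ∧ v (3 : Fin 15) = 0 ∧
      v (4 : Fin 15) = 0 ∧ v (7 : Fin 15) = 2 ∧ v (8 : Fin 15) = 3 ∧ v (9 : Fin 15) = 0 ∧
      v (10 : Fin 15) = -3 ∧ v (11 : Fin 15) = -8) ∧
    v (5 : Fin 15) + v (6 : Fin 15) = 6 ∧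
    v (12 : Fin 15) + v (13 : Fin 15) + v (14 : Fin 15) = 5 ∧
    v (5 : Fin 15) * v (5 : Fin 15) + v (6 : Fin 15) * v (6 : Fin 15) +
      v (12 : Fin 15) * v (12 : Fin 15) + v (13 : Fin 15) * v (13 : Fin 15) +
      v (14 : Fin 15) * v (14 : Fin 15) = 69 := by
  decide +kernel

/-- The degrees. -/
def deg15 : Fin 15 → ℕ := spec15.deg

/-- The column at the special involution. -/
def colU15 : Fin 15 → ℤ := spec15.colU

/-- The signs in the blocks at five. -/
def sgn15 : Fin 15 → ℤ := spec15.sgn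

/-- The known values of a column. -/
def base15 (a b e f i : ℤ) : Fin 15 → ℤ :=
  ![1, a, b, vv a b f i, vv a b f i, 0, 0, e, f, gv b e f, hv b f, i, 0, 0, 0]

/-- A column at an element of order three. -/
structure Col15 (c : Fin 15 ≃ IrrCharacter G) (T : Fin 15 → ℤ) (z : G) (a b e f i : ℤ) : Prop where
  mem : ((Nat.card (cen z) : ℤ), a, b, e, f, i) ∈ good15
  val : ∀ k ∈ ([0, 1, 2, 3, 4, 7, 8, 9, 10, 11] : List (Fin 15)),
    (c k : G → ℂ) z = (base15 a b e f i k : ℂ)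
  sum_s : ((c 5 : G → ℂ) z).re + ((c 6 : G → ℂ) z).re = (sv a b f i : ℝ)
  sum_W : ((c 12 : G → ℂ) z).re + ((c 13 : G → ℂ) z).re + ((c 14 : G → ℂ) z).re =
    (wv a b e f i : ℝ)
  sum_T : (T 5 : ℝ) * ((c 5 : G → ℂ) z).re + (T 6 : ℝ) * ((c 6 : G → ℂ) z).re +
    (T 12 : ℝ) * ((c 12 : G → ℂ) z).re + (T 13 : ℝ) * ((c 13 : G → ℂ) z).re +
    (T 14 : ℝ) * ((c 14 : G → ℂ) z).re =
      -(1 + 6 * a + 2 * e + 3 * f - 3 * hv b f - 8 * i : ℤ)
  norm : Complex.normSq ((c 5 : G → ℂ) z) + Complex.normSq ((c 6 : G → ℂ) z) +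
    Complex.normSq ((c 12 : G → ℂ) z) + Complex.normSq ((c 13 : G → ℂ) z) +
    Complex.normSq ((c 14 : G → ℂ) z) = ((Nat.card (cen z) : ℤ) : ℝ) - (sq a b e f i : ℝ)

section

variable [IsSimpleGroup G] (hG : Nat.card G = 95040) (h11 : LocalEleven G) (h5 : LocalFive G)
  (K : Chars G spec15)

include hG h11 h5

set_option maxHeartbeats 1000000 in
theorem exists_col15 (c : Fin 15 ≃ IrrCharacter G) (hc : c = K.c) {u t : G} (hu : orderOf u = 2)
    (ht : orderOf t = 2) (hu5 : Nat.card (cen u) = 240)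
    (hU : ∀ k, (c k : G → ℂ) u = (colU15 k : ℂ)) (T : Fin 15 → ℤ) (hT : T ∈ spec15.colT)
    (hTv : ∀ k, (c k : G → ℂ) t = (T k : ℂ)) {z : G} (hz : orderOf z = 3) :
    ∃ a b e f i : ℤ, Col15 c T z a b e f i := by
  classical
  have hd : ∀ k, charDegree (c k : G → ℂ) = deg15 k := fun k => hc ▸ K.deg k
  have hC := card_cen_three hG h11 h5 hz
  obtain ⟨a, ha, hca⟩ := int_val hG c deg15 colU15 hd hU 1 (by decide +kernel) (by decide +kernel) hz
  obtain ⟨b, hb, hcb⟩ := int_val hG c deg15 colU15 hd hU 2 (by decide +kernel) (by decide +kernel) hz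
  obtain ⟨e, he, hce⟩ := int_val hG c deg15 colU15 hd hU 7 (by decide +kernel) (by decide +kernel) hz
  obtain ⟨f, hf, hcf⟩ := int_val hG c deg15 colU15 hd hU 8 (by decide +kernel) (by decide +kernel) hz
  obtain ⟨i, hi, hci⟩ :=
    int_val hG c deg15 colU15 hd hU 11 (by decide +kernel) (by decide +kernel) hz
  have h0 : ∀ g : G, (c 0 : G → ℂ) g = 1 := fun g => by
    have := K.principal
    rw [← hc] at this
    exact (congrArg (fun χ : IrrCharacter G => (χ : G → ℂ) g) this).trans (principal_apply g)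
  have hz5 : ¬ 5 ∣ orderOf z := by rw [hz]; norm_num
  have hz11 : ¬ 11 ∣ orderOf z := by rw [hz]; norm_num
  obtain ⟨h43, hV0⟩ : (c 4 : G → ℂ) z = (c 3 : G → ℂ) z ∧ (c 3 : G → ℂ) z = 1 + (c 10 : G → ℂ) z
      - (c 1 : G → ℂ) z - (c 11 : G → ℂ) z + (c 2 : G → ℂ) z := hc ▸ K.rel_eleven z hz11
  obtain ⟨hP0, hO0⟩ :
      (1 - (c 2 : G → ℂ) z + (c 7 : G → ℂ) z - (c 8 : G → ℂ) z + (c 9 : G → ℂ) z = 0) ∧
      (-(c 1 : G → ℂ) z + (c 3 : G → ℂ) z + (c 4 : G → ℂ) z + (c 5 : G → ℂ) z +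
        (c 6 : G → ℂ) z = 0) := by
    subst hc
    obtain ⟨h1, h2⟩ := K.rel_five z hz5
    have h1' : ((([0, 2, 7, 8, 9] : List (Fin 15))).map fun k =>
        (sgn15 k : ℂ) * ((K.c : Fin 15 ≃ IrrCharacter G) k : G → ℂ) z).sum = 0 := h1
    have h2' : ((([1, 3, 4, 5, 6] : List (Fin 15))).map fun k =>
        (sgn15 k : ℂ) * ((K.c : Fin 15 ≃ IrrCharacter G) k : G → ℂ) z).sum = 0 := h2
    simp [sgn15, spec15] at h1' h2'
    exact ⟨by linear_combination h1' - h0 z, by linear_combination h2'⟩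
  haveI := irrFintype G
  have hzne : z ≠ 1 := fun h => by rw [h, orderOf_one] at hz; norm_num at hz
  have hD := sum_degree_mul (G := G) z
  rw [if_neg hzne, ← c.sum_comp] at hD
  simp only [deg_eq, hd, sum15] at hD
  have hUo := orth_zero c (g := z) (h := u) (by rw [hz, hu]; norm_num)
  simp only [hU, map_intCast, sum15] at hUo
  have hTo := orth_zero c (g := z) (h := t) (by rw [hz, ht]; norm_num)
  simp only [hTv, map_intCast, sum15] at hTo
  obtain ⟨⟨T0, T1, T2, T3, T4, T7, T8, T9, T10, T11⟩, -⟩ := colT15 T hT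
  simp only [T0, T1, T2, T3, T4, T7, T8, T9, T10, T11] at hTo
  simp [deg15, spec15] at hD
  simp [colU15, spec15] at hUo
  simp at hTo
  rw [h0 z] at hD hUo
  rw [h43] at hD hUo
  rw [h43] at hO0
  simp only [← ha, ← hb, ← he, ← hf, ← hi] at hD hUo hTo
  rw [← hb, ← he, ← hf] at hP0
  rw [← ha] at hO0
  rw [← ha, ← hb, ← hi] at hV0
  have hh : (c 10 : G → ℂ) z = (hv b f : ℂ) := by
    simp only [hv]; push_cast
    linear_combination (1 / 220 : ℂ) * hD + (11 / 220 : ℂ) * hUo - (120 / 220 : ℂ) * hV0 -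
      (132 / 220 : ℂ) * hP0
  have hV : (c 3 : G → ℂ) z = (vv a b f i : ℂ) := by
    simp only [vv, hv] at hh ⊢; push_cast at hh ⊢
    linear_combination hV0 + hh
  have hg : (c 9 : G → ℂ) z = (gv b e f : ℂ) := by
    simp only [gv]; push_cast
    linear_combination hP0
  have hs : (c 5 : G → ℂ) z + (c 6 : G → ℂ) z = (sv a b f i : ℂ) := by
    simp only [sv, vv] at hV ⊢; push_cast at hV ⊢
    linear_combination hO0 - 2 * hV
  have hW : (c 12 : G → ℂ) z + (c 13 : G → ℂ) z + (c 14 : G → ℂ) z = (wv a b e f i : ℂ) := by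
    simp only [wv, vv, hv, gv, sv] at hV hh hg hs ⊢; push_cast at hV hh hg hs ⊢
    linear_combination (-1 / 5 : ℂ) * hUo + (8 / 5 : ℂ) * hV - (1 / 5 : ℂ) * hs - (4 / 5 : ℂ) * hg + hh
  have hτ : (T 5 : ℂ) * (c 5 : G → ℂ) z + (T 6 : ℂ) * (c 6 : G → ℂ) z +
      (T 12 : ℂ) * (c 12 : G → ℂ) z + (T 13 : ℂ) * (c 13 : G → ℂ) z +
      (T 14 : ℂ) * (c 14 : G → ℂ) z =
        ((-(1 + 6 * a + 2 * e + 3 * f - 3 * hv b f - 8 * i) : ℤ) : ℂ) := by
    push_cast
    linear_combination hTo + 3 * hh - h0 z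
  -- the norm
  have hn := norm_sum c z
  simp only [sum15] at hn
  rw [h0 z, h43, ← ha, ← hb, ← he, ← hf, ← hi, hV, hh, hg] at hn
  simp only [map_one, Complex.normSq_intCast] at hn
  have hnorm : Complex.normSq ((c 5 : G → ℂ) z) + Complex.normSq ((c 6 : G → ℂ) z) +
      Complex.normSq ((c 12 : G → ℂ) z) + Complex.normSq ((c 13 : G → ℂ) z) +
      Complex.normSq ((c 14 : G → ℂ) z) =
        ((Nat.card (cen z) : ℤ) : ℝ) - (sq a b e f i : ℝ) := by
    simp only [sq]; push_cast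
    linear_combination hn
  -- products of two special involutions
  have h4 : u4 a b e f i % 4 = 0 := by
    obtain ⟨m, hm⟩ := card_pairs_dvd u z⁻¹
    have h1 := pairs_eq hG c deg15 hd u u z⁻¹
    rw [hm, hu5, inv_inv] at h1
    simp only [hU, sum15] at h1
    simp [deg15, colU15, spec15] at h1
    simp only [h0 z, h43, ← ha, ← hb, ← he, ← hf, hV, hh, hg] at h1
    have h2 : ((u4 a b e f i : ℤ) : ℂ) = ((4 * (m : ℤ) : ℤ) : ℂ) := by
      simp only [u4, hv, vv, gv, sv, wv] at h1 hs hW ⊢; push_cast at h1 hs hW ⊢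
      linear_combination (-1 / 14400 : ℂ) * h1 - (3 / 5 : ℂ) * hs - 3 * hW
    have h3 : u4 a b e f i = 4 * (m : ℤ) := by exact_mod_cast h2
    omega
  -- products of an element and its inverse equal to the special involution
  have hR : 36 * ((Nat.card (cen z) : ℤ) - sq a b e f i) ≤ zR a b e f i := by
    have h1 := pairs_eq hG c deg15 hd z z⁻¹ u
    rw [inv_involution hu] at h1
    simp only [hU, char_inv (isCharacter_of_irr (c _).2), Complex.mul_conj, sum15] at h1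
    simp [deg15, colU15, spec15] at h1
    simp only [h0 z, h43, ← ha, ← hb, ← he, ← hf, hV, hh, hg] at h1
    simp only [map_one, Complex.normSq_intCast] at h1
    have h2 := congrArg Complex.re h1
    simp [Complex.mul_re, Complex.add_re] at h2
    have h3 : (0 : ℝ) ≤ (Nat.card (Pairs z z⁻¹ u) : ℝ) := Nat.cast_nonneg _
    have h5' : (36 : ℝ) * (((Nat.card (cen z) : ℤ) : ℝ) - (sq a b e f i : ℝ)) ≤
        (zR a b e f i : ℝ) := by
      rw [← hnorm]
      simp only [zR]; push_cast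
      nlinarith [h2, h3]
    exact_mod_cast h5'
  -- the other involution
  obtain ⟨-, hT1, hT2, hT3⟩ := colT15 T hT
  have hs' : ((c 5 : G → ℂ) z).re + ((c 6 : G → ℂ) z).re = (sv a b f i : ℝ) := by
    simpa using congrArg Complex.re hs
  have hW' : ((c 12 : G → ℂ) z).re + ((c 13 : G → ℂ) z).re + ((c 14 : G → ℂ) z).re =
      (wv a b e f i : ℝ) := by simpa using congrArg Complex.re hW
  have hτ' : (T 5 : ℝ) * ((c 5 : G → ℂ) z).re + (T 6 : ℝ) * ((c 6 : G → ℂ) z).re +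
      (T 12 : ℝ) * ((c 12 : G → ℂ) z).re + (T 13 : ℝ) * ((c 13 : G → ℂ) z).re +
      (T 14 : ℝ) * ((c 14 : G → ℂ) z).re =
        -(1 + 6 * a + 2 * e + 3 * f - 3 * hv b f - 8 * i : ℤ) := by
    simpa using congrArg Complex.re hτ
  have hCS : rt a b e f i * rt a b e f i ≤ 64 * (6 * ((Nat.card (cen z) : ℤ) - sq a b e f i) -
      3 * (sv a b f i * sv a b f i) - 2 * (wv a b e f i * wv a b e f i)) := by
    have h7 := (five_values ((c 5 : G → ℂ) z) ((c 6 : G → ℂ) z) ((c 12 : G → ℂ) z)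
      ((c 13 : G → ℂ) z) ((c 14 : G → ℂ) z) (T 5) (T 6) (T 12) (T 13) (T 14) _ _
      ((1 + 6 * a + 2 * e + 3 * f - 3 * hv b f - 8 * i : ℤ) : ℝ) _ (rt a b e f i : ℝ) hs' hW'
      (by exact_mod_cast hT1) (by exact_mod_cast hT2) (by exact_mod_cast hT3)
      (by simpa using hτ') hnorm (by simp only [rt]; push_cast; ring)).1
    exact_mod_cast h7
  have hsq : sq a b e f i ≤ (Nat.card (cen z) : ℤ) := by
    have h7 : (sq a b e f i : ℝ) ≤ ((Nat.card (cen z) : ℤ) : ℝ) := by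
      have := Complex.normSq_nonneg ((c 5 : G → ℂ) z)
      have := Complex.normSq_nonneg ((c 6 : G → ℂ) z)
      have := Complex.normSq_nonneg ((c 12 : G → ℂ) z)
      have := Complex.normSq_nonneg ((c 13 : G → ℂ) z)
      have := Complex.normSq_nonneg ((c 14 : G → ℂ) z)
      linarith
    exact_mod_cast h7
  have hv16 : (95040 : ℤ) / (Nat.card (cen z) : ℤ) * vv a b f i % 16 = 0 := by
    have h1 := dvd_index_mul (c 3) hV.symm
    rw [hd] at h1
    have h2 : (Nat.card (cen z)) * (cen z).index = 95040 := by rw [Subgroup.card_mul_index, hG]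
    have h6 : (95040 : ℤ) / (Nat.card (cen z) : ℤ) = ((cen z).index : ℤ) := by
      rw [← show ((Nat.card (cen z) : ℤ) * (cen z).index) = 95040 by exact_mod_cast h2,
        Int.mul_ediv_cancel_left _ (by exact_mod_cast (Nat.card_pos (α := cen z)).ne')]
    rw [h6]
    exact Int.emod_eq_zero_of_dvd h1
  refine ⟨a, b, e, f, i, mem_good search15 hC hca hcb hce hcf hci ?_, ?_, hs', hW', hτ', hnorm⟩
  · simp only [adm15, common, Bool.and_eq_true, decide_eq_true_eq]
    exact ⟨⟨⟨⟨hsq, hR⟩, h4⟩, hv16⟩, hCS⟩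
  · intro k hk
    fin_cases hk
    · exact (h0 z).trans (Int.cast_one).symm
    exacts [ha.symm, hb.symm, hV, h43.trans hV, he.symm, hf.symm, hg, hh, hi.symm]

omit hG h11 h5 in
/-- The inner product with an exact column. -/
theorem inner_col15 (c : Fin 15 ≃ IrrCharacter G) (T : Fin 15 → ℤ) (hT : T ∈ spec15.colT)
    {z w : G} {a b e f i a' b' e' f' i' : ℤ} (hz : Col15 c T z a b e f i)
    (hw : Col15 c T w a' b' e' f' i')
    (hex : rt a' b' e' f' i' * rt a' b' e' f' i' =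
      64 * (6 * ((Nat.card (cen w) : ℤ) - sq a' b' e' f' i') -
        3 * (sv a' b' f' i' * sv a' b' f' i') - 2 * (wv a' b' e' f' i' * wv a' b' e' f' i')))
    (hne : ¬ IsConj w z) :
    (1 + a * a' + b * b' + 2 * (vv a b f i * vv a' b' f' i') + e * e' + f * f'
        + gv b e f * gv b' e' f' + hv b f * hv b' f' + i * i' : ℤ) * 384 +
      (sv a b f i * sv a' b' f' i') * 192 + (wv a b e f i * wv a' b' e' f' i') * 128 +
      rt a b e f i * rt a' b' e' f' i' = 0 := by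
  classical
  obtain ⟨-, hT1, hT2, hT3⟩ := colT15 T hT
  have hrt : ∀ a b e f i : ℤ, (rt a b e f i : ℝ) =
      3 * ((1 + 6 * a + 2 * e + 3 * f - 3 * hv b f - 8 * i : ℤ) : ℝ) + 9 * (sv a b f i : ℝ) +
        5 * (wv a b e f i : ℝ) := fun a b e f i => by simp only [rt]; push_cast; ring
  obtain ⟨⟨i5, i6, i12, i13, i14⟩, r5, r6, r12, r13, r14⟩ :=
    (five_values ((c 5 : G → ℂ) w) ((c 6 : G → ℂ) w) ((c 12 : G → ℂ) w)
      ((c 13 : G → ℂ) w) ((c 14 : G → ℂ) w) (T 5) (T 6) (T 12) (T 13) (T 14) _ _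
      ((1 + 6 * a' + 2 * e' + 3 * f' - 3 * hv b' f' - 8 * i' : ℤ) : ℝ) _
      (rt a' b' e' f' i' : ℝ) hw.sum_s hw.sum_W
      (by exact_mod_cast hT1) (by exact_mod_cast hT2) (by exact_mod_cast hT3)
      (by simpa using hw.sum_T) hw.norm (hrt a' b' e' f' i')).2 (by exact_mod_cast hex)
  have h := congrArg Complex.re (orth c z w)
  rw [if_neg hne] at h
  simp only [sum15, Complex.add_re, Complex.zero_re] at h
  simp only [Complex.mul_re, Complex.conj_re, Complex.conj_im, i5, i6, i12, i13, i14, neg_zero,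
    mul_zero, sub_zero] at h
  rw [hz.val 0 (by simp), hz.val 1 (by simp), hz.val 2 (by simp), hz.val 3 (by simp),
    hz.val 4 (by simp), hz.val 7 (by simp), hz.val 8 (by simp), hz.val 9 (by simp),
    hz.val 10 (by simp), hz.val 11 (by simp), hw.val 0 (by simp), hw.val 1 (by simp),
    hw.val 2 (by simp), hw.val 3 (by simp), hw.val 4 (by simp), hw.val 7 (by simp),
    hw.val 8 (by simp), hw.val 9 (by simp), hw.val 10 (by simp), hw.val 11 (by simp)] at h
  simp [base15] at h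
  rw [r5, r6, r12, r13, r14] at h
  have hs := hz.sum_s
  have hW := hz.sum_W
  have hτ := hz.sum_T
  have hcast : (((1 + a * a' + b * b' + 2 * (vv a b f i * vv a' b' f' i') + e * e' + f * f'
        + gv b e f * gv b' e' f' + hv b f * hv b' f' + i * i' : ℤ) * 384 +
      (sv a b f i * sv a' b' f' i') * 192 + (wv a b e f i * wv a' b' e' f' i') * 128 +
      rt a b e f i * rt a' b' e' f' i' : ℤ) : ℝ) = 0 := by
    have hz' := hrt a b e f i
    push_cast at hτ hz' ⊢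
    linear_combination 384 * h + (rt a' b' e' f' i' : ℝ) * hz' + 3 * (rt a' b' e' f' i' : ℝ) * hτ -
      (192 * (sv a' b' f' i' : ℝ) + 9 * (rt a' b' e' f' i' : ℝ)) * hs -
      (128 * (wv a' b' e' f' i' : ℝ) + 5 * (rt a' b' e' f' i' : ℝ)) * hW
  exact_mod_cast hcast

include K in
theorem sys15 : Sys G := by
  classical
  obtain ⟨c, hc⟩ : ∃ c : Fin 15 ≃ IrrCharacter G, c = K.c := ⟨_, rfl⟩
  obtain ⟨u, hu, hu5⟩ := exists_five_involution hG h5
  obtain ⟨hu240, hU⟩ := K.invol_five u hu hu5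
  obtain ⟨t, ht, ht64⟩ := exists_central_involution hG
  have hnt : ¬ 5 ∣ Nat.card (cen t) := fun h => by
    rw [(K.invol_five t ht h).1] at ht64
    norm_num at ht64
  obtain ⟨-, T, hT, hTv⟩ := K.invol_other t ht hnt
  have hcol : ∀ z : G, orderOf z = 3 → ∃ a b e f i : ℤ, Col15 c T z a b e f i := fun z hz =>
    exists_col15 hG h11 h5 K c hc hu ht hu240 (fun k => hc ▸ hU k) T hT (fun k => hc ▸ hTv k) hz
  refine ⟨fun z => (c 2 : G → ℂ) z = -3, fun z hz => ?_, fun z w hz hw hex hne => ?_⟩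
  · obtain ⟨a, b, e, f, i, hc'⟩ := hcol z hz
    have hb : (c 2 : G → ℂ) z = (b : ℂ) := (hc'.val 2 (by simp)).trans (by simp [base15])
    have hm := hc'.mem
    simp only [good15, List.mem_cons, List.not_mem_nil, or_false, Prod.mk.injEq] at hm
    rcases hm with ⟨hC, rfl, rfl, rfl, rfl, rfl⟩ | ⟨hC, rfl, rfl, rfl, rfl, rfl⟩ |
      ⟨hC, rfl, rfl, rfl, rfl, rfl⟩ | ⟨hC, rfl, rfl, rfl, rfl, rfl⟩ |
      ⟨hC, rfl, rfl, rfl, rfl, rfl⟩ <;> simp [hb] <;> omega
  · obtain ⟨a, b, e, f, i, hz'⟩ := hcol z hz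
    obtain ⟨a', b', e', f', i', hw'⟩ := hcol w hw
    have hb : (c 2 : G → ℂ) z = (b : ℂ) := (hz'.val 2 (by simp)).trans (by simp [base15])
    have hb' : (c 2 : G → ℂ) w = (b' : ℂ) := (hw'.val 2 (by simp)).trans (by simp [base15])
    simp only [hb, hb'] at hex ⊢
    have hiff : ∀ m : ℤ, ((m : ℂ) = -3 ↔ m = -3) := fun m => by
      rw [show (-3 : ℂ) = ((-3 : ℤ) : ℂ) by norm_num, Int.cast_inj]
    rw [hiff, hiff]
    have hm := hw'.mem
    have hm' := hz'.mem
    simp only [good15, List.mem_cons, List.not_mem_nil, or_false, Prod.mk.injEq] at hm hm'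
    rcases hm with ⟨hC, rfl, rfl, rfl, rfl, rfl⟩ | ⟨hC, rfl, rfl, rfl, rfl, rfl⟩ |
      ⟨hC, rfl, rfl, rfl, rfl, rfl⟩ | ⟨hC, rfl, rfl, rfl, rfl, rfl⟩ |
      ⟨hC, rfl, rfl, rfl, rfl, rfl⟩
    case inr.inl => simp at hex; omega
    case inr.inr.inr.inr => simp at hex; omega
    all_goals
      have h := inner_col15 c T hT hz' hw' (by rw [hC]; decide +kernel) hne
      rcases hm' with ⟨-, rfl, rfl, rfl, rfl, rfl⟩ | ⟨-, rfl, rfl, rfl, rfl, rfl⟩ |
        ⟨-, rfl, rfl, rfl, rfl, rfl⟩ | ⟨-, rfl, rfl, rfl, rfl, rfl⟩ |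
        ⟨-, rfl, rfl, rfl, rfl, rfl⟩ <;>
      first
      | omega
      | (revert h; decide +kernel)

end

end CfsgLib.M12Order.ThreeColumns
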